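import Groth.Agent.Lib.DPerf.Amp
import Mathlib.Data.Int.Interval

/-!
Perfect objects are locally complexes of finite free modules; direct summands of perfect objects.
-/

set_option autoImplicit false
set_option linter.unusedSectionVars false

universe u

open CategoryTheory CategoryTheory.Limits CategoryTheory.Pretriangulated AlgebraicGeometry

attribute [local instance] HasDerivedCategory.standard

namespace Groth.Agent.DPerf

variable {X : Scheme.{u}}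

theorem isZero_freeMod_zero (X : Scheme.{u}) : IsZero (FlatMod.freeMod X 0) := by
  rw [IsZero.iff_id_eq_zero]
  exact Sigma.hom_ext _ _ fun i => i.elim0

theorem exists_free_nhd {E : CochainComplex X.Modules ℤ} (hE : DCoh.IsStrictlyPerfect E) (x : X) :
    ∃ W : X.Opens, x ∈ W ∧
      ∀ i : ℤ, ∃ n : ℕ, Nonempty (((resX W.ι).obj E).X i ≅ FlatMod.freeMod (W : Scheme.{u}) n) := by
  classical
  obtain ⟨⟨a, b, hv⟩, hf⟩ := hE
  have key : ∀ S : Finset ℤ, ∃ W : X.Opens, x ∈ W ∧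
      ∀ i ∈ S, ∃ n : ℕ, Nonempty ((E.X i).restrict W.ι ≅ FlatMod.freeMod (W : Scheme.{u}) n) := by
    intro S
    induction S using Finset.induction with
    | empty => exact ⟨⊤, trivial, fun i hi => absurd hi (Finset.notMem_empty i)⟩
    | @insert i S _ ih =>
      obtain ⟨W, hxW, hW⟩ := ih
      obtain ⟨U, n, hxU, ⟨e⟩⟩ := hf i x
      refine ⟨U ⊓ W, ⟨hxU, hxW⟩, fun k hk => ?_⟩
      rcases Finset.mem_insert.1 hk with rfl | hk
      · exact ⟨n, M2.nonempty_free_mono inf_le_left e⟩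
      · obtain ⟨m, ⟨e'⟩⟩ := hW k hk
        exact ⟨m, M2.nonempty_free_mono inf_le_right e'⟩
  obtain ⟨W, hxW, hW⟩ := key (Finset.Icc a b)
  refine ⟨W, hxW, fun i => ?_⟩
  by_cases h : i ∈ Finset.Icc a b
  · exact hW i h
  · rw [Finset.mem_Icc] at h
    exact ⟨0, ⟨IsZero.iso ((Scheme.Modules.restrictFunctor W.ι).map_isZero (hv i (by omega)))
      (isZero_freeMod_zero _)⟩⟩

theorem isPerfect_iff_free (K : DCoh.D X) :
    DCoh.IsPerfect K ↔ ∀ x : X, ∃ V : X.Opens, x ∈ V ∧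
      ∀ F : CochainComplex X.Modules ℤ, Nonempty (DCoh.toD X F ≅ K) →
        ∃ (P : CochainComplex (V : Scheme.{u}).Modules ℤ) (a b : ℤ), DCoh.VanishesOutside P a b ∧
          (∀ i : ℤ, ∃ n : ℕ, Nonempty (P.X i ≅ FlatMod.freeMod (V : Scheme.{u}) n)) ∧
          Nonempty (DerivedCategory.Q.obj ((DCoh.restrictCx V).obj F) ≅ DerivedCategory.Q.obj P) := by
  refine ⟨fun h x => ?_, fun h x => ?_⟩
  · obtain ⟨V, hxV, hV⟩ := (isPerfect_iff_approx.1 h).exists_opens x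
    obtain ⟨E, hE, α, hα⟩ := hV V le_rfl
    obtain ⟨W, hxW, hW⟩ := exists_free_nhd hE ⟨x, hxV⟩
    obtain ⟨V', k, hk, hxV', hkj⟩ := DPerf.exists_opens (W.ι ≫ V.ι) (x := x) ⟨⟨⟨x, hxV⟩, hxW⟩, rfl⟩
    have := isIso_of_dcond_univ hα
    obtain ⟨⟨a, b, hv⟩, -⟩ := id hE
    refine ⟨V', hxV', fun F ⟨eF⟩ => ⟨(resX k).obj ((resX W.ι).obj E), a, b,
      fun i hi => (Scheme.Modules.restrictFunctor k).map_isZero
        ((Scheme.Modules.restrictFunctor W.ι).map_isZero (hv i hi)), fun i => ?_, ⟨?_⟩⟩⟩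
    · obtain ⟨n, ⟨e⟩⟩ := hW i
      exact ⟨n, ⟨(Scheme.Modules.restrictFunctor k).mapIso e ≪≫ M2.freeModRestrictIso k n⟩⟩
    · let e₀ : (resD V.ι).obj K ≅ DCoh.toD _ E := (asIso α).symm
      have hkj' : (k ≫ W.ι) ≫ V.ι = V'.ι := by rw [Category.assoc, hkj]
      let e₁ : (resD ((k ≫ W.ι) ≫ V.ι)).obj K ≅ (resD V'.ι).obj K := eqToIso (by congr 1; simp only [hkj'])
      exact ((resFac V'.ι).app F).symm ≪≫ (resD V'.ι).mapIso eF ≪≫ e₁.symm ≪≫
        ((resDComp V.ι (k ≫ W.ι)).app K).symm ≪≫ (resD (k ≫ W.ι)).mapIso e₀ ≪≫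
        (resFac (k ≫ W.ι)).app E ≪≫ DerivedCategory.Q.mapIso ((resCompIso W.ι k).app E)
  · obtain ⟨V, hxV, hV⟩ := h x
    refine ⟨V, hxV, fun F hF => ?_⟩
    obtain ⟨P, a, b, hv, hfree, e⟩ := hV F hF
    exact ⟨P, ⟨⟨a, b, hv⟩, fun i => let ⟨n, ⟨f⟩⟩ := hfree i
      M2.isFinLocFree_of_iso f.symm (KFlat.Sch.isFinLocFree_freeMod _ n)⟩, e⟩

theorem isPerfect_summands {K L : DCoh.D X} [HasBinaryBiproduct K L] (h : DCoh.IsPerfect (K ⊞ L)) :
    DCoh.IsPerfect K ∧ DCoh.IsPerfect L := by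
  have hpc : ∀ m, DCoh.IsPseudoCoherentD m K ∧ DCoh.IsPseudoCoherentD m L := fun m =>
    isPseudoCoherentD_biprod
      (isPseudoCoherentD_of_approx ((isPerfect_iff_approx.1 h).mono_set (Set.subset_univ _)))
  have key : ∀ {A : DCoh.D X} (i : A ⟶ K ⊞ L) (p : K ⊞ L ⟶ A), i ≫ p = 𝟙 A → ∀ x : X,
      ∃ (V : X.Opens) (a b : ℤ), x ∈ V ∧ DCoh.HasFlatAmplitudeIn a b ((resD V.ι).obj A) := by
    intro A i p hip x
    obtain ⟨V, a, b, hxV, hab, hfl⟩ := exists_flatAmplitude_of_isPerfect h x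
    exact ⟨V, a, b, hxV, KFlat.Sch.flatAmplitude_of_torAmplitude hab
      (torAmplitude_of_retract ((resD V.ι).map i) ((resD V.ι).map p)
        (by rw [← Functor.map_comp, hip, CategoryTheory.Functor.map_id])
        (KFlat.Sch.torAmplitude_of_flatAmplitude hfl))⟩
  exact ⟨isPerfect_of_pc_locFlat (fun m => approx_of_isPseudoCoherentD (hpc m).1)
      (key biprod.inl biprod.fst biprod.inl_fst),
    isPerfect_of_pc_locFlat (fun m => approx_of_isPseudoCoherentD (hpc m).2)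
      (key biprod.inr biprod.snd biprod.inr_snd)⟩

theorem isPerfect_iff_pc_locFiniteTorDim (K : DCoh.D X) :
    DCoh.IsPerfect K ↔ (∀ m : ℤ, DCoh.IsPseudoCoherentD m K) ∧ DCoh.LocHasFiniteTorDim K := by
  refine ⟨fun h => ⟨fun m => isPseudoCoherentD_of_approx
    ((isPerfect_iff_approx.1 h).mono_set (Set.subset_univ _)), fun x => ?_⟩, fun ⟨h₁, h₂⟩ => ?_⟩
  · obtain ⟨V, a, b, hxV, -, F, hF, hflat, ⟨e⟩⟩ := exists_flatAmplitude_of_isPerfect h x
    exact ⟨V, a, b, hxV, fun F' ⟨e'⟩ =>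
      ⟨F, hF, hflat, ⟨e ≪≫ (resD V.ι).mapIso e'.symm ≪≫ (resFac V.ι).app F'⟩⟩⟩
  · refine isPerfect_of_pc_locFlat (fun m => approx_of_isPseudoCoherentD (h₁ m)) fun x => ?_
    obtain ⟨V, a, b, hxV, hV⟩ := h₂ x
    obtain ⟨F', ⟨e'⟩⟩ := Functor.EssSurj.mem_essImage
      (F := (DerivedCategory.Q : CochainComplex X.Modules ℤ ⥤ _)) K
    obtain ⟨F, hF, hflat, ⟨e⟩⟩ := hV F' ⟨e'⟩
    exact ⟨V, a, b, hxV, F, hF, hflat, ⟨e ≪≫ ((resFac V.ι).app F').symm ≪≫ (resD V.ι).mapIso e'⟩⟩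

end Groth.Agent.DPerf
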