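import Groth.Agent.Lib.DPerf.Noeth
import Groth.Agent.Lib.DMod.Amplitude
import Groth.Agent.Lib.DMod.PCModule
import Groth.Agent.Lib.KFlat.Tilde
import Groth.Agent.Lib.ModM1.Affine
import Groth.Prelude.Def_DRing2

/-!
Perfect and pseudo-coherent complexes on affine schemes are those of modules.
-/

set_option autoImplicit false
set_option linter.unusedSectionVars false

universe u

open CategoryTheory CategoryTheory.Limits CategoryTheory.Pretriangulated AlgebraicGeometry

attribute [local instance] HasDerivedCategory.standard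

namespace Groth.Agent.DPerf

variable {R : CommRingCat.{u}}

/-- `tilde` on complexes. -/
noncomputable abbrev tildeX (R : CommRingCat.{u}) :
    CochainComplex (ModuleCat.{u} R) ℤ ⥤ CochainComplex (Spec R).Modules ℤ :=
  (tilde.functor R).mapHomologicalComplex (ComplexShape.up ℤ)

/-- `tilde` on derived categories. -/
noncomputable abbrev tildeDD (R : CommRingCat.{u}) :
    DerivedCategory (ModuleCat.{u} R) ⥤ DCoh.D (Spec R) :=
  (tilde.functor R).mapDerivedCategory

/-- Cohomology commutes with `tilde`. -/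
noncomputable def hdTildeIso (M : Dual.D R) (i : ℤ) :
    DCoh.HD ((tildeDD R).obj M) i ≅ (tilde.functor R).obj ((DerivedCategory.homologyFunctor _ i).obj M) :=
  let F := (DerivedCategory.Q (C := ModuleCat.{u} R)).objPreimage M
  let e : DRing.toD F ≅ M := (DerivedCategory.Q (C := ModuleCat.{u} R)).objObjPreimageIso M
  (DerivedCategory.homologyFunctor _ i).mapIso
      ((tildeDD R).mapIso e.symm ≪≫ (tilde.functor R).mapDerivedCategoryFactors.app F) ≪≫
    (DerivedCategory.homologyFunctorFactors _ i).app _ ≪≫ (F.sc i).mapHomologyIso (tilde.functor R) ≪≫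
    (tilde.functor R).mapIso
      (((DerivedCategory.homologyFunctorFactors _ i).app F).symm ≪≫
        (DerivedCategory.homologyFunctor _ i).mapIso e)

theorem isZero_of_tilde {N : ModuleCat.{u} R} (h : IsZero ((tilde.functor R).obj N)) : IsZero N := by
  rw [IsZero.iff_id_eq_zero]
  exact (tilde.functor R).map_injective (h.eq_of_src _ _)

theorem isFinLocFree_tilde {M : ModuleCat.{u} R} [Module.Finite R M] [Module.Projective R M] :
    FlatMod.IsFinLocFree ((tilde.functor R).obj M) := by
  obtain ⟨n, f, hf⟩ := Module.Finite.exists_fin' R M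
  let g : (ULift.{u} (Fin n) →₀ R) →ₗ[R] M :=
    f ∘ₗ ((Finsupp.domLCongr Equiv.ulift).trans (Finsupp.linearEquivFunOnFinite R R (Fin n))).toLinearMap
  have hg : Function.Surjective g := hf.comp (LinearEquiv.surjective _)
  obtain ⟨s, hs⟩ := Module.projective_lifting_property g LinearMap.id hg
  refine M2.isFinLocFree_of_retract (F := (tilde.functor R).obj (ModuleCat.of R (ULift.{u} (Fin n) →₀ R)))
    ?_ ((tilde.functor R).map (ModuleCat.ofHom s)) ((tilde.functor R).map (ModuleCat.ofHom g)) ?_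
  · exact M2.isFinLocFree_of_iso ((M1.frTildeIso _).trans (M1.freeModFrIso _ n).symm).symm
      (KFlat.Sch.isFinLocFree_freeMod _ n)
  · rw [← Functor.map_comp, ← ModuleCat.ofHom_comp, hs]
    exact (tilde.functor R).map_id _

theorem isStrictlyPerfect_tildeX {E : DRing.Cx R} {a b : ℤ} (hE : DRing.VanishesOutside E a b)
    (hF : DRing.TermwiseFiniteProjective E) : DCoh.IsStrictlyPerfect ((tildeX R).obj E) :=
  ⟨⟨a, b, fun i hi => (tilde.functor R).map_isZero (hE i hi)⟩, fun i =>
    have := (hF i).1; have := (hF i).2; isFinLocFree_tilde (M := E.X i)⟩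

theorem approx_tilde {s : Set ℤ} {E : DRing.Cx R} {a b : ℤ} (hE : DRing.VanishesOutside E a b)
    (hF : DRing.TermwiseFiniteProjective E) {M : Dual.D R} (α : DRing.toD E ⟶ M) (h : DCond s α) :
    Approx s ((tildeDD R).obj M) := fun x =>
  ⟨Spec R, 𝟙 _, inferInstance, ⟨x, rfl⟩, _, isStrictlyPerfect_res (𝟙 _) (isStrictlyPerfect_tildeX hE hF),
    (resFac (𝟙 _)).inv.app _ ≫ (resD (𝟙 _)).map
      (((tilde.functor R).mapDerivedCategoryFactors.app E).inv ≫ (tildeDD R).map α),
    DCond.comp (@dcond_of_isIso _ _ _ _ _ _ _ _ ((resFac (𝟙 _)).app _).isIso_inv)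
      (dcond_map _ (DCond.comp (dcond_of_isIso _) (dcond_map (tilde.functor R) h)))⟩

theorem approx_tilde_of_pc {m : ℤ} {M : Dual.D R} (h : DRing.IsPseudoCoherent R m M) :
    Approx (Set.Ici m) ((tildeDD R).obj M) := by
  obtain ⟨E, a, b, α, hE, hF, h1, h2⟩ := h
  refine approx_tilde hE (fun i => ⟨(hF i).1, have := (hF i).2; inferInstance⟩) α fun i hi => ⟨?_, ?_⟩
  · rcases eq_or_lt_of_le (show m ≤ i from hi) with rfl | hi'
    · exact h2
    · have := h1 i hi'; infer_instance
  · have := h1 (i + 1) (by have : m ≤ i := hi; omega)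
    infer_instance

theorem approx_tilde_of_perfect {M : Dual.D R} (h : DRing.IsPerfect R M) :
    Approx Set.univ ((tildeDD R).obj M) := by
  obtain ⟨E, a, b, hE, hF, ⟨e⟩⟩ := h
  exact approx_tilde hE hF e.hom (dcond_of_isIso _)

theorem exists_isLE_of_tilde {m : ℤ} {M : Dual.D R}
    (h : DCoh.IsPseudoCoherentD m ((tildeDD R).obj M)) : ∃ b : ℤ, M.IsLE b := by
  obtain ⟨b, hb⟩ := exists_isLE_of_pseudoCoherent h
  exact ⟨b, (DerivedCategory.isLE_iff M b).2 fun i hi =>
    isZero_of_tilde ((DerivedCategory.isZero_of_isLE ((tildeDD R).obj M) b i hi).of_iso (hdTildeIso M i).symm)⟩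

theorem exists_top_hom (M : Dual.D R) (b : ℤ) [M.IsLE b] [Module.Finite R (Dual.HD R M b)] :
    ∃ (E : DRing.Cx R) (α : DRing.toD E ⟶ M), DRing.VanishesOutside E b b ∧
      DRing.TermwiseFiniteFree E ∧ Epi ((DerivedCategory.homologyFunctor _ b).map α) := by
  obtain ⟨P, hP, -, ⟨e⟩⟩ := DMod.exists_free_resolution M b
  obtain ⟨n, f, hf⟩ := Module.Finite.exists_fin' R (Dual.HD R M b)
  let N : ModuleCat.{u} R := ModuleCat.of R (Fin n → R)
  have : Projective N := (IsProjective.iff_projective (R := R) _).1 inferInstance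
  have hd : P.d b (b + 1) = 0 := (P.isZero_of_isStrictlyLE b (b + 1) (by omega)).eq_of_tgt _ _
  have : IsIso (P.iCycles b) := P.isIso_iCycles b (b + 1) (by simp) hd
  let η := (DerivedCategory.homologyFunctorFactors (ModuleCat.{u} R) b).app P
  let f' : N ⟶ P.homology b :=
    ModuleCat.ofHom f ≫ (DerivedCategory.homologyFunctor _ b).map e.inv ≫ η.hom
  have hfepi : Epi (ModuleCat.ofHom f : N ⟶ _) := (ModuleCat.epi_iff_surjective _).2 hf
  have : Epi f' := @epi_comp _ _ _ _ _ _ hfepi _ (epi_comp _ _)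
  let g : N ⟶ P.X b := Projective.factorThru f' (P.homologyπ b) ≫ P.iCycles b
  let φ : (HomologicalComplex.single (ModuleCat.{u} R) (ComplexShape.up ℤ) b).obj N ⟶ P :=
    HomologicalComplex.mkHomFromSingle g (fun k _ => by
      exact (P.isZero_of_isStrictlyLE b k (by simp at *; omega)).eq_of_tgt _ _)
  refine ⟨(HomologicalComplex.single (ModuleCat.{u} R) (ComplexShape.up ℤ) b).obj N,
    DerivedCategory.Q.map φ ≫ e.hom, fun i hi =>
    HomologicalComplex.isZero_single_obj_X _ _ _ _ (by omega), fun i => ?_, ?_⟩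
  · by_cases h : i = b
    · subst h
      exact DMod.modClass_finiteFree.equiv
        (HomologicalComplex.singleObjXSelf (ComplexShape.up ℤ) i N).toLinearEquiv.symm
        ⟨inferInstanceAs (Module.Finite R (Fin n → R)), inferInstanceAs (Module.Free R (Fin n → R))⟩
    · have := ModuleCat.subsingleton_of_isZero
        (HomologicalComplex.isZero_single_obj_X (ComplexShape.up ℤ) b N i h)
      exact DMod.modClass_finiteFree.subsingleton _
  · rw [Functor.map_comp]
    have : Epi (HomologicalComplex.homologyMap φ b) := by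
      have hc : (HomologicalComplex.singleObjCyclesSelfIso (ComplexShape.up ℤ) b N).inv ≫
          HomologicalComplex.cyclesMap φ b = Projective.factorThru f' (P.homologyπ b) := by
        rw [← cancel_mono (P.iCycles b), Category.assoc, HomologicalComplex.cyclesMap_i]
        simp [φ, g]
      have h1 : (HomologicalComplex.singleObjCyclesSelfIso (ComplexShape.up ℤ) b N).inv ≫
          ((HomologicalComplex.single (ModuleCat.{u} R) (ComplexShape.up ℤ) b).obj N).homologyπ b ≫
            HomologicalComplex.homologyMap φ b = f' := by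
        rw [HomologicalComplex.homologyπ_naturality, reassoc_of% hc, Projective.factorThru_comp]
      refine @epi_of_epi _ _ _ _ _
        ((HomologicalComplex.singleObjCyclesSelfIso (ComplexShape.up ℤ) b N).inv ≫
          ((HomologicalComplex.single (ModuleCat.{u} R) (ComplexShape.up ℤ) b).obj N).homologyπ b)
        (HomologicalComplex.homologyMap φ b) ?_
      rw [Category.assoc, h1]
      exact ‹Epi f'›
    have hQ : Epi ((DerivedCategory.homologyFunctor _ b).map (DerivedCategory.Q.map φ)) :=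
      ((MorphismProperty.epimorphisms _).arrow_mk_iso_iff (((Functor.mapArrowFunctor _ _).mapIso
        (DerivedCategory.homologyFunctorFactors (ModuleCat.{u} R) b)).app (Arrow.mk φ))).2 this
    exact @epi_comp _ _ _ _ _ _ hQ _ inferInstance

theorem pc_of_tilde_aux (m : ℤ) : ∀ (k : ℕ) (M : Dual.D R), M.IsLE (m + k - 1) →
    DCoh.IsPseudoCoherentD m ((tildeDD R).obj M) → DRing.IsPseudoCoherent R m M
  | 0, M, hM, _ => DMod.pc_of_isLE (n := m + ((0 : ℕ) : ℤ) - 1) (by simp)
  | k + 1, M, hM, h => by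
      obtain ⟨b, hb⟩ : ∃ b : ℤ, b = m + k := ⟨_, rfl⟩
      have hb' : m + ((k + 1 : ℕ) : ℤ) - 1 = b := by push_cast; omega
      rw [hb'] at hM
      have hA := approx_of_isPseudoCoherentD h
      have hFT : CohB1.IsFT (DCoh.HD ((tildeDD R).obj M) b) :=
        finiteType_top (isPseudoCoherentD_of_approx (hA.mono_set (Set.Ici_subset_Ici.2 (by omega))))
          fun i hi => ((tilde.functor R).map_isZero (DerivedCategory.isZero_of_isLE M b i hi)).of_iso
            (hdTildeIso M i)
      have hFT' : CohB1.IsFT ((tilde.functor R).obj ((DerivedCategory.homologyFunctor (ModuleCat.{u} R) b).obj M)) := M1.isFT_of_isIso (hdTildeIso M b) hFT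
      let H : ModuleCat.{u} R := (DerivedCategory.homologyFunctor (ModuleCat.{u} R) b).obj M
      have hQ : Coh.IsQCoh ((tilde.functor R).obj H) :=
        inferInstanceAs ((tilde.functor R).obj H).IsQuasicoherent
      have hfin : Module.Finite R ((tilde.functor R ⋙ moduleSpecΓFunctor).obj H) :=
        M1.finite_sections_spec _ hQ hFT'
      have : Module.Finite R (Dual.HD R M b) :=
        Module.Finite.equiv (M := ((tilde.functor R ⋙ moduleSpecΓFunctor).obj H : Type u))
          ((tilde.toTildeΓNatIso (R := R)).app H).toLinearEquiv.symm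
      obtain ⟨E, α, hE, hF, hepi⟩ := exists_top_hom M b
      obtain ⟨C, g, t, hT⟩ := distinguished_cocone_triangle α
      have hC : C.IsLE (b - 1) := by
        refine (DMod.cone_isLE_iff _ hT b).2 ⟨fun i hi => ?_, hepi⟩
        have h1 : IsZero ((DerivedCategory.homologyFunctor _ i).obj (DRing.toD E)) :=
          have := DMod.isLE_toD hE
          DerivedCategory.isZero_of_isLE _ b i hi
        exact ⟨0, h1.eq_of_src _ _, (DerivedCategory.isZero_of_isLE M b i hi).eq_of_src _ _⟩
      have hCk : C.IsLE (m + k - 1) := by rwa [← hb]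
      refine DMod.pc_triangle₂ _ hT (DMod.pc_toD hE hF m)
        (pc_of_tilde_aux m k C hCk (isPseudoCoherentD_of_approx ?_))
      exact approx_Ici₃ m _ ((tildeDD R).map_distinguished _ hT)
        ((approx_tilde_of_perfect ⟨E, b, b, hE, fun i => ⟨(hF i).1, have := (hF i).2; inferInstance⟩,
          ⟨Iso.refl _⟩⟩).mono_set (Set.subset_univ _)) hA

theorem pc_tilde_iff (m : ℤ) (M : Dual.D R) :
    DCoh.IsPseudoCoherentD m ((tildeDD R).obj M) ↔ DRing.IsPseudoCoherent R m M := by
  refine ⟨fun h => ?_, fun h => isPseudoCoherentD_of_approx (approx_tilde_of_pc h)⟩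
  obtain ⟨b, hb⟩ := exists_isLE_of_tilde h
  have : M.IsLE (m + ((b + 1 - m).toNat : ℕ) - 1) :=
    DerivedCategory.TStructure.t.isLE_of_le M b _ (by omega)
  exact pc_of_tilde_aux m _ M this h

/-! ### Flat amplitude -/

theorem flat_localizedModule {N : ModuleCat.{u} R} (h : FlatMod.IsFlat ((tilde.functor R).obj N))
    (x : PrimeSpectrum R) : Module.Flat R (LocalizedModule x.asIdeal.primeCompl N) := by
  let A := ((Spec R).presheaf.stalk x : Type u)
  letI : Algebra R A := (StructureSheaf.toStalk R x).hom.toAlgebra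
  haveI : IsLocalization x.asIdeal.primeCompl A := by
    exact (inferInstance : IsLocalization.AtPrime ((Spec.structureSheaf R).presheaf.stalk x) x.asIdeal)
  haveI : IsScalarTower R A ((tilde N).presheaf.stalk x) :=
    ⟨fun r a z => by rw [Algebra.smul_def, mul_smul]; rfl⟩
  haveI : IsLocalizedModule x.asIdeal.primeCompl (tilde.toStalk N x).hom :=
    inferInstanceAs (IsLocalizedModule x.asIdeal.primeCompl (StructureSheaf.toStalkₗ ..))
  have : Module.Flat R A := IsLocalization.flat A x.asIdeal.primeCompl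
  have : Module.Flat A ((tilde N).presheaf.stalk x) := h x
  have : Module.Flat R ((tilde N).presheaf.stalk x) := Module.Flat.trans R A _
  exact Module.Flat.of_linearEquiv
    (IsLocalizedModule.iso x.asIdeal.primeCompl (tilde.toStalk N x).hom)

theorem flat_of_isFlat_tilde {N : ModuleCat.{u} R} (h : FlatMod.IsFlat ((tilde.functor R).obj N)) :
    Module.Flat R N :=
  Module.flat_of_localized_maximal N fun P hP => flat_localizedModule h ⟨P, hP.isPrime⟩

theorem isFlat_tilde {N : ModuleCat.{u} R} [Module.Flat R N] :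
    FlatMod.IsFlat ((tilde.functor R).obj N) := fun x => by
  let A := ((Spec R).presheaf.stalk x : Type u)
  letI : Algebra R A := (StructureSheaf.toStalk R x).hom.toAlgebra
  haveI : IsLocalization x.asIdeal.primeCompl A := by
    exact (inferInstance : IsLocalization.AtPrime ((Spec.structureSheaf R).presheaf.stalk x) x.asIdeal)
  haveI : IsScalarTower R A ((tilde N).presheaf.stalk x) :=
    ⟨fun r a z => by rw [Algebra.smul_def, mul_smul]; rfl⟩
  haveI : IsLocalizedModule x.asIdeal.primeCompl (tilde.toStalk N x).hom :=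
    inferInstanceAs (IsLocalizedModule x.asIdeal.primeCompl (StructureSheaf.toStalkₗ ..))
  exact Module.Flat.of_linearEquiv (R := A)
    (IsLocalizedModule.isBaseChange x.asIdeal.primeCompl A (tilde.toStalk N x).hom).equiv.symm

variable {X : Scheme.{u}}

theorem isFlat_cokernel_of_amplitude (K : CochainComplex X.Modules ℤ) (B : ℤ) [K.IsStrictlyLE B]
    (hflat : ∀ i, FlatMod.IsFlat (K.X i)) {a a' b' : ℤ} (ha : a ≤ a')
    (h : DCoh.HasFlatAmplitudeIn a' b' (DCoh.toD X K)) : FlatMod.IsFlat (cokernel (K.d (a - 1) a)) :=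
  (KFlat.Sch.isFlat_iff _).1 (KFlat.Sch.isFlat_cokernel_d K (a - 1) a (by omega)
    ((KFlat.Sch.isFlat_iff _).2 (hflat a)) fun M => by
      have := KFlat.Sch.hasLTensorMod M
      have hK : KFlat.Sch.IsAdapted K :=
        KFlat.Sch.isAdapted_of_boundedAbove K B fun i => (KFlat.Sch.isFlat_iff _).2 (hflat i)
      exact (KFlat.Sch.isZero_HD_lTensorMod_iff M K hK (Iso.refl _) (a - 1)).1
        (KFlat.Sch.torAmplitude_of_flatAmplitude h M (a - 1) (Or.inl (by omega))))

theorem isFlat_of_locally {M : X.Modules} (h : ∀ x : X, ∃ (V : X.Opens), x ∈ V ∧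
    FlatMod.IsFlat (M.restrict V.ι)) : FlatMod.IsFlat M := fun x => by
  obtain ⟨V, hxV, hV⟩ := h x
  obtain ⟨y, rfl⟩ : ∃ y : (V : Scheme.{u}), V.ι y = x := ⟨⟨x, hxV⟩, rfl⟩
  let A := X.presheaf.stalk (V.ι y)
  let B := (V : Scheme.{u}).presheaf.stalk y
  letI : Algebra A B := (V.ι.stalkMap y).hom.toAlgebra
  have hb : Function.Bijective (algebraMap A B) :=
    ConcreteCategory.bijective_of_isIso (V.ι.stalkMap y)
  let eAB : A ≃ₗ[A] B := LinearEquiv.ofBijective (Algebra.linearMap A B) hb
  have hflat : FlatMod.IsFlat ((Scheme.Modules.pullback V.ι).obj M) :=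
    (KFlat.Sch.isFlat_iff _).1 (((KFlat.Sch.isFlat_iff _).2 hV).of_iso
      ((Scheme.Modules.restrictFunctorIsoPullback V.ι).app M).symm)
  have : Module.Flat A B := Module.Flat.of_linearEquiv eAB.symm
  have : Module.Flat B (TensorProduct A B (M.presheaf.stalk (V.ι y))) :=
    have : Module.Flat B (((Scheme.Modules.pullback V.ι).obj M).presheaf.stalk y) := hflat y
    Module.Flat.of_linearEquiv (M2.pullStalkEquiv V.ι y M)
  have : Module.Flat A (TensorProduct A B (M.presheaf.stalk (V.ι y))) := Module.Flat.trans A B _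
  exact Module.Flat.of_linearEquiv ((TensorProduct.lid A _).symm.trans
    (TensorProduct.congr eAB (LinearEquiv.refl A _)))

theorem isZero_HD_of_flatAmplitude {K : DCoh.D X} {a b i : ℤ} (h : DCoh.HasFlatAmplitudeIn a b K)
    (hi : i < a ∨ b < i) : IsZero (DCoh.HD K i) := by
  obtain ⟨F, hF, -, ⟨e⟩⟩ := h
  exact (KFlat.Sch.isZero_HD_iff_of_iso e i).1 ((KFlat.Sch.isZero_HD_toD_iff F i).2
    (by rw [HomologicalComplex.exactAt_iff]; exact ShortComplex.exact_of_isZero_X₂ _ (hF i hi)))

theorem torAmplitude_of_tilde {M : Dual.D R} {a b : ℤ}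
    (h : ∀ x : Spec R, ∃ (V : (Spec R).Opens) (a' b' : ℤ), x ∈ V ∧ a ≤ a' ∧ b' ≤ b ∧
      DCoh.HasFlatAmplitudeIn a' b' ((resD V.ι).obj ((tildeDD R).obj M))) :
    DRing.HasTorAmplitudeIn R a b M := by
  choose V a' b' hxV ha hb' hamp using h
  have hz : ∀ i, i < a ∨ b < i → IsZero ((DerivedCategory.homologyFunctor _ i).obj M) := fun i hi =>
    isZero_of_tilde ((isZero_of_cover V (fun x => ⟨x, hxV x⟩) fun x =>
      (isZero_HD_of_flatAmplitude (hamp x) (by have := ha x; have := hb' x; omega)).of_iso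
        (hdResIso (V x).ι _ i).symm).of_iso (hdTildeIso M i).symm)
  have : M.IsLE b := (DerivedCategory.isLE_iff M b).2 fun i hi => hz i (Or.inr hi)
  have : M.IsGE a := (DerivedCategory.isGE_iff M a).2 fun i hi => hz i (Or.inl hi)
  obtain ⟨P, hP, hPf, ⟨e⟩⟩ := DMod.exists_free_resolution M b
  have hflatP : ∀ i, Module.Flat R (P.X i) := fun i => have := hPf i; inferInstance
  have hgeP : (DRing.toD P).IsGE a := DerivedCategory.TStructure.t.isGE_of_iso e.symm a
  obtain ⟨e'⟩ := DMod.exists_truncFrom_iso P a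
  refine ⟨_, DMod.vanishesOutside_truncFrom P a b,
    DMod.truncFrom_mem DMod.modClass_flat P a (fun i _ => hflatP i) ?_, ⟨e' ≪≫ e⟩⟩
  have hcok : FlatMod.IsFlat ((tilde.functor R).obj (cokernel (P.d (a - 1) a))) := by
    refine isFlat_of_locally fun x => ⟨V x, hxV x, ?_⟩
    let K := (resX (V x).ι).obj ((tildeX R).obj P)
    have : K.IsStrictlyLE b := (CochainComplex.isStrictlyLE_iff _ b).2 fun i hi =>
      (Scheme.Modules.restrictFunctor (V x).ι).map_isZero
        ((tilde.functor R).map_isZero (P.isZero_of_isStrictlyLE b i hi))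
    have hK : FlatMod.IsFlat (cokernel (K.d (a - 1) a)) := isFlat_cokernel_of_amplitude K b
      (fun i => isFlat_res _ (have := hflatP i; isFlat_tilde (N := P.X i))) (ha x) (by
        obtain ⟨F, hF, hfl, ⟨eF⟩⟩ := hamp x
        exact ⟨F, hF, hfl, ⟨eF ≪≫ (resD (V x).ι).mapIso ((tildeDD R).mapIso e.symm ≪≫
          (tilde.functor R).mapDerivedCategoryFactors.app P) ≪≫ (resFac (V x).ι).app _⟩⟩)
    exact (KFlat.Sch.isFlat_iff _).1 (((KFlat.Sch.isFlat_iff _).2 hK).of_iso
      ((Scheme.Modules.restrictFunctor (V x).ι).mapIso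
        (PreservesCokernel.iso (tilde.functor R) (P.d (a - 1) a)) ≪≫
        PreservesCokernel.iso (Scheme.Modules.restrictFunctor (V x).ι) _))
  have := flat_of_isFlat_tilde hcok
  exact Module.Flat.of_linearEquiv ((DMod.truncFromBotEquiv P a).symm.trans
    (ModuleCat.cokernelIsoRangeQuotient (P.d (a - 1) a)).symm.toLinearEquiv)

theorem tilde_flatAmplitude_iff (M : Dual.D R) (a b : ℤ) :
    DCoh.HasFlatAmplitudeIn a b ((tildeDD R).obj M) ↔ DRing.HasTorAmplitudeIn R a b M := by
  refine ⟨fun h => torAmplitude_of_tilde fun x =>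
    ⟨⊤, a, b, trivial, le_rfl, le_rfl, flatAmplitude_res _ h⟩, fun h => ?_⟩
  obtain ⟨E, hE, hF, ⟨e⟩⟩ := h
  exact ⟨(tildeX R).obj E, fun i hi => (tilde.functor R).map_isZero (hE i hi),
    fun i => have := hF i; isFlat_tilde (N := E.X i),
    ⟨((tilde.functor R).mapDerivedCategoryFactors.app E).symm ≪≫ (tildeDD R).mapIso e⟩⟩

theorem perfect_tilde_iff (M : Dual.D R) :
    DCoh.IsPerfect ((tildeDD R).obj M) ↔ DRing.IsPerfect R M := by
  refine ⟨fun h => ?_, fun h => isPerfect_iff_approx.2 (approx_tilde_of_perfect h)⟩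
  choose V a b hxV hab hamp using exists_flatAmplitude_of_isPerfect h
  obtain ⟨s, hs⟩ := isCompact_univ.elim_finite_subcover (fun x => (V x : Set (Spec R))) (fun x => (V x).2)
    (fun x _ => Set.mem_iUnion.2 ⟨x, hxV x⟩)
  obtain ⟨B, hB⟩ := (s.image b).exists_le
  obtain ⟨A, hA⟩ := (s.image fun x => -a x).exists_le
  have hamp' : DRing.HasTorAmplitudeIn R (-A) B M := torAmplitude_of_tilde fun y => by
    obtain ⟨x, hxs, hy⟩ := Set.mem_iUnion₂.1 (hs (Set.mem_univ y))
    exact ⟨V x, a x, b x, hy, neg_le.2 (hA _ (Finset.mem_image_of_mem _ hxs)),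
      hB _ (Finset.mem_image_of_mem b hxs), hamp x⟩
  have hpc : DRing.IsPseudoCoherent R (-A - 1) M := (pc_tilde_iff _ M).1
    (isPseudoCoherentD_of_approx ((isPerfect_iff_approx.1 h).mono_set (Set.subset_univ _)))
  obtain ⟨P, hP, hPF, e⟩ := DMod.exists_finProjAmp hpc hamp'
  exact ⟨P, -A, B, hP, hPF, e⟩

end Groth.Agent.DPerf
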