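import Groth.Agent.Lib.DPerf.Free
import Groth.Prelude.Def_DCoh3
import Mathlib.AlgebraicGeometry.Morphisms.Flat

/-!
Perfect objects are relatively perfect.
-/

set_option autoImplicit false
set_option linter.unusedSectionVars false

universe u

open CategoryTheory CategoryTheory.Limits AlgebraicGeometry

attribute [local instance] HasDerivedCategory.standard

namespace Groth.Agent.DPerf

variable {X S : Scheme.{u}}

theorem isFlatOver_of_isFlat (f : X ⟶ S) [Flat f] {M : X.Modules} (h : FlatMod.IsFlat M) :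
    FlatMod.IsFlatOver f M := fun x => by
  let A := S.presheaf.stalk (f x)
  let B := X.presheaf.stalk x
  letI : Algebra A B := (f.stalkMap x).hom.toAlgebra
  letI : Module A (M.presheaf.stalk x) := FlatMod.moduleStalkOver f M x
  have : IsScalarTower A B (M.presheaf.stalk x) := ⟨fun r b z => by
    change ((f.stalkMap x).hom r * b) • z = (f.stalkMap x).hom r • b • z
    rw [mul_smul]⟩
  have : Module.Flat A B := Flat.stalkMap f x
  have : Module.Flat B (M.presheaf.stalk x) := h x
  exact Module.Flat.trans A B (M.presheaf.stalk x)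

theorem locHasFiniteRelTorDim_of_isPerfect (f : X ⟶ S) [Flat f] {K : DCoh.D X} (hK : DCoh.IsPerfect K) :
    DCoh.LocHasFiniteRelTorDim f K := fun x => by
  obtain ⟨V, a, b, hxV, -, F, hF, hflat, ⟨e⟩⟩ := exists_flatAmplitude_of_isPerfect hK x
  exact ⟨V, a, b, hxV, fun F' ⟨e'⟩ => ⟨F, hF, fun i => isFlatOver_of_isFlat (V.ι ≫ f) (hflat i),
    ⟨e ≪≫ (resD V.ι).mapIso e'.symm ≪≫ (resFac V.ι).app F'⟩⟩⟩

end Groth.Agent.DPerf
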