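import Groth.Agent.Lib.DPerf.Amp
import Groth.Agent.Lib.DerTrunc.Basic
import Groth.Agent.Lib.RegLoc.GlobalDim
import Groth.Agent.Lib.KFlat.StalkCx
import Mathlib.AlgebraicGeometry.Noetherian

/-!
Pseudo-coherent and perfect objects on locally Noetherian schemes.
-/

set_option autoImplicit false
set_option linter.unusedSectionVars false

universe u

open CategoryTheory CategoryTheory.Limits CategoryTheory.Pretriangulated AlgebraicGeometry

attribute [local instance] HasDerivedCategory.standard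

namespace Groth.Agent.DPerf

variable {X : Scheme.{u}}

theorem isCoh_of_isFT_of_isQCoh {M : X.Modules} (h₁ : Coh.IsQCoh M) (h₂ : CohB1.IsFT M) : Coh.IsCoh M :=
  ⟨h₁, h₂⟩

theorem exists_epi_free_of_isFT {M : X.Modules} (hM : CohB1.IsFT M) (x : X) :
    ∃ (U : X.Opens) (P : (U : Scheme.{u}).Modules) (p : P ⟶ M.restrict U.ι),
      x ∈ U ∧ FlatMod.IsFinLocFree P ∧ Epi p := by
  obtain ⟨U, hxU, σ, hσ⟩ := (M1.isFT_iff_generators M).1 hM x
  obtain ⟨e⟩ := M1.nonempty_fr_freeMod (U : Scheme.{u}) σ.I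
  exact ⟨U, _, e.inv ≫ σ.π, hxU, KFlat.Sch.isFinLocFree_freeMod _ _,
    @epi_comp _ _ _ _ _ _ inferInstance _ σ.epi⟩

theorem isCoh_restrict {M : X.Modules} (h : Coh.IsCoh M) {Z : Scheme.{u}} (j : Z ⟶ X) [IsOpenImmersion j] :
    Coh.IsCoh (M.restrict j) :=
  ⟨M1.isQCoh_restrict h.1 j, M1.isFT_restrict h.2 j⟩

theorem isCoh_of_isZero {M : X.Modules} (h : IsZero M) : Coh.IsCoh M :=
  ⟨M1.isQCoh_isZero h, @M1.isFT_of_epi _ _ _ (0 : Coh.structureModule X ⟶ M)
    ⟨fun _ _ _ => h.eq_of_src _ _⟩ (M1.isCoh_structureModule X).2⟩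

theorem approx_inD_of_isCoh_aux (k : ℕ) : ∀ {X : Scheme.{u}} [IsLocallyNoetherian X] (M : X.Modules),
    Coh.IsCoh M → Approx (Set.Ici (-(k : ℤ))) (DCoh.inD X M) := by
  induction k with
  | zero => exact fun M hM => by simpa using approx_inD_of_isFT hM.2
  | succ k ih =>
    intro X _ M hM
    refine approx_inD_of_restrict fun x => ?_
    obtain ⟨U, P, p, hxU, hP, hp⟩ := exists_epi_free_of_isFT hM.2 x
    have hS : (ShortComplex.mk (kernel.ι p) p (kernel.condition p)).ShortExact :=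
      { exact := ShortComplex.exact_kernel p }
    have hPQ := M1.isFP_of_isFinLocFree hP
    refine ⟨U, hxU, approx_Ici₃ (-((k + 1 : ℕ) : ℤ)) _ hS.singleTriangle_distinguished ?_
      ((approx_inD_of_isFinLocFree hP).mono_set (Set.subset_univ _))⟩
    exact (ih _ (M1.isCoh_kernel ((M1.isCoh_iff_isFP P).2 hPQ) (isCoh_restrict hM U.ι).1 p)).mono_set
      (Set.Ici_subset_Ici.2 (by push_cast; omega))

theorem approx_inD_of_isCoh [IsLocallyNoetherian X] {M : X.Modules} (hM : Coh.IsCoh M) (m : ℤ) :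
    Approx (Set.Ici m) (DCoh.inD X M) :=
  (approx_inD_of_isCoh_aux (-m).toNat M hM).mono_set (Set.Ici_subset_Ici.2 (by omega))

theorem exists_single_of_concentrated {K : DCoh.D X} (n : ℤ) [K.IsGE n] [K.IsLE n] :
    ∃ Y : X.Modules, Nonempty (K⟦n⟧ ≅ DCoh.inD X Y) ∧ Nonempty (Y ≅ DCoh.HD K n) := by
  have : DerivedCategory.IsGE (K⟦n⟧) 0 := DerivedCategory.TStructure.t.isGE_shift K n n 0 (by simp)
  have : DerivedCategory.IsLE (K⟦n⟧) 0 := DerivedCategory.TStructure.t.isLE_shift K n n 0 (by simp)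
  obtain ⟨Y, ⟨e⟩⟩ := DerivedCategory.exists_iso_singleFunctor_obj_of_isGE_of_isLE (K⟦n⟧) 0
  exact ⟨Y, ⟨e⟩, ⟨(hdInDIso Y).symm ≪≫ ((DerivedCategory.homologyFunctor X.Modules 0).mapIso e).symm ≪≫
    (((DerivedCategory.homologyFunctor X.Modules 0).shiftIso n 0 n (add_zero n)).app K)⟩⟩

theorem approx_of_concentrated [IsLocallyNoetherian X] {K : DCoh.D X} (n m : ℤ) [K.IsGE n] [K.IsLE n]
    (h : Coh.IsCoh (DCoh.HD K n)) : Approx (Set.Ici m) K := by
  obtain ⟨Y, ⟨e⟩, ⟨e'⟩⟩ := exists_single_of_concentrated (K := K) n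
  have hY : Coh.IsCoh Y := ⟨M1.isQCoh_of_isIso e'.symm h.1, M1.isFT_of_isIso e'.symm h.2⟩
  exact (((approx_inD_of_isCoh hY (m - n)).of_iso e.symm).shift_Ici (-n) m (by omega)).of_iso
    ((shiftEquiv (DCoh.D X) n).unitIso.app K).symm

theorem approx_of_coherent_aux [IsLocallyNoetherian X] (m : ℤ) :
    ∀ (k : ℕ) (K : DCoh.D X), (∀ i, m ≤ i → Coh.IsCoh (DCoh.HD K i)) →
      (∀ i, m + k ≤ i → IsZero (DCoh.HD K i)) → Approx (Set.Ici m) K
  | 0, K, _, hz => approx_of_isZero_HD fun i hi => hz i (by simpa using hi)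
  | k + 1, K, hc, hz => by
      let t := (DerivedCategory.TStructure.t : Triangulated.TStructure (DCoh.D X))
      obtain ⟨b, hb⟩ : ∃ b : ℤ, b = m + k := ⟨_, rfl⟩
      have h₁ : DerivedCategory.IsLE ((t.truncLT b).obj K) (b - 1) :=
        (inferInstance : t.IsLE ((t.truncLT b).obj K) (b - 1))
      have h₂ : DerivedCategory.IsGE ((t.truncGE b).obj K) b :=
        (inferInstance : t.IsGE ((t.truncGE b).obj K) b)
      have hπ := fun i (hi : b ≤ i) => DerTrunc.isIso_homology_truncGEπ K b i hi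
      have hι := fun i (hi : i < b) => DerTrunc.isIso_homology_truncLTι K b i hi
      have : DerivedCategory.IsLE ((t.truncGE b).obj K) b := (DerivedCategory.isLE_iff _ b).2 fun i hi =>
        have := hπ i hi.le
        (hz i (by push_cast; omega)).of_iso
          (asIso ((DerivedCategory.homologyFunctor _ i).map ((t.truncGEπ b).app K))).symm
      refine approx_Ici₂ m _ (t.triangleLTGE_distinguished b K) (approx_of_coherent_aux m k _ ?_ ?_)
        (approx_of_concentrated (K := (t.truncGE b).obj K) b m ?_)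
      · intro i hi
        by_cases h : i < b
        · have := hι i h
          let e := (asIso ((DerivedCategory.homologyFunctor _ i).map ((t.truncLTι b).app K))).symm
          exact ⟨M1.isQCoh_of_isIso e (hc i hi).1, M1.isFT_of_isIso e (hc i hi).2⟩
        · have hz' := DerivedCategory.isZero_of_isLE ((t.truncLT b).obj K) (b - 1) i (by omega)
          exact isCoh_of_isZero hz'
      · exact fun i hi => DerivedCategory.isZero_of_isLE ((t.truncLT b).obj K) (b - 1) i (by omega)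
      · have := hπ b le_rfl
        let e := asIso ((DerivedCategory.homologyFunctor _ b).map ((t.truncGEπ b).app K))
        exact ⟨M1.isQCoh_of_isIso e (hc b (by omega)).1, M1.isFT_of_isIso e (hc b (by omega)).2⟩

theorem isPseudoCoherentD_of_coherent [IsLocallyNoetherian X] {K : DCoh.D X} {m : ℤ}
    (hc : ∀ i, m ≤ i → Coh.IsCoh (DCoh.HD K i)) (b : ℤ) [K.IsLE b] : DCoh.IsPseudoCoherentD m K :=
  isPseudoCoherentD_of_approx (approx_of_coherent_aux m (b + 1 - m).toNat K hc
    fun i hi => DerivedCategory.isZero_of_isLE K b i (by omega))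

theorem isCoh_homology [IsLocallyNoetherian X] {E : CochainComplex X.Modules ℤ}
    (hE : ∀ i, Coh.IsCoh (E.X i)) (i : ℤ) : Coh.IsCoh (E.homology i) := by
  let e₁ := (kernelIsKernel (E.d i (i + 1))).conePointUniqueUpToIso (E.cyclesIsKernel i (i + 1) (by simp))
  have hk := M1.isCoh_kernel (hE i) (hE (i + 1)).1 (E.d i (i + 1))
  have hcyc : Coh.IsCoh (E.cycles i) := ⟨M1.isQCoh_of_isIso e₁ hk.1, M1.isFT_of_isIso e₁ hk.2⟩
  let e₂ := (cokernelIsCokernel (E.toCycles (i - 1) i)).coconePointUniqueUpToIso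
    (E.homologyIsCokernel (i - 1) i (by simp))
  have hq := M1.isCoh_cokernel (hE (i - 1)).1 hcyc (E.toCycles (i - 1) i)
  exact ⟨M1.isQCoh_of_isIso e₂ hq.1, M1.isFT_of_isIso e₂ hq.2⟩

theorem isCoh_HD_of_pseudoCoherent [IsLocallyNoetherian X] {K : DCoh.D X} {m i : ℤ}
    (hK : DCoh.IsPseudoCoherentD m K) (hQ : Coh.IsQCoh (DCoh.HD K i)) (hi : m ≤ i) :
    Coh.IsCoh (DCoh.HD K i) := by
  refine ⟨hQ, ?_⟩
  choose V hxV hV using (approx_of_isPseudoCoherentD hK).exists_opens
  refine M1.isFT_of_openImmersion_cover (fun x => (V x).ι) (fun x => ⟨x, ⟨⟨x, hxV x⟩, rfl⟩⟩) fun x => ?_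
  obtain ⟨E, hE, α, hα⟩ := hV x _ le_rfl
  have h1 : CohB1.IsFT (DCoh.HD (DCoh.toD (V x : Scheme.{u}) E) i) :=
    M1.isFT_of_isIso ((DerivedCategory.homologyFunctorFactors _ i).app E).symm
      (isCoh_homology (fun k => (M1.isCoh_iff_isFP _).2 (M1.isFP_of_isFinLocFree (hE.2 k))) i).2
  have := (hα i hi).1
  exact M1.isFT_of_isIso (hdResIso (V x).ι K i)
    (M1.isFT_of_epi ((DerivedCategory.homologyFunctor _ i).map α) h1)

theorem isZero_of_cover {M : X.Modules} {ι : Type*} (U : ι → X.Opens) (hU : ∀ x : X, ∃ i, x ∈ U i)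
    (h : ∀ i, IsZero (M.restrict (U i).ι)) : IsZero M := by
  rw [IsZero.iff_id_eq_zero]
  exact M1.hom_eq_zero_of_cover _ U hU fun i => (h i).eq_of_src _ _

/-- Locally bounded above cohomology is bounded above on a quasi-compact scheme. -/
theorem exists_isLE_of_locally [CompactSpace X] {K : DCoh.D X}
    (h : ∀ x : X, ∃ (V : X.Opens) (b : ℤ), x ∈ V ∧ ((resD V.ι).obj K).IsLE b) : ∃ b : ℤ, K.IsLE b := by
  choose V b hx hV using h
  obtain ⟨s, hs⟩ := isCompact_univ.elim_finite_subcover (fun x => (V x : Set X)) (fun x => (V x).2)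
    (fun x _ => Set.mem_iUnion.2 ⟨x, hx x⟩)
  obtain ⟨B, hB⟩ : ∃ B, ∀ x ∈ s, b x ≤ B := (s.image b).exists_le.imp fun B hB x hx =>
    hB _ (Finset.mem_image_of_mem b hx)
  refine ⟨B, (DerivedCategory.isLE_iff K B).2 fun i hi => isZero_of_cover (fun x : s => V x.1)
    (fun y => ?_) fun x => ?_⟩
  · obtain ⟨x, hxs, hy⟩ := Set.mem_iUnion₂.1 (hs (Set.mem_univ y))
    exact ⟨⟨x, hxs⟩, hy⟩
  · have := hV x.1
    exact (DerivedCategory.isZero_of_isLE ((resD (V x.1).ι).obj K) (b x.1) i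
      (by have := hB x.1 x.2; omega)).of_iso (hdResIso (V x.1).ι K i).symm

theorem exists_isLE_of_pseudoCoherent [CompactSpace X] {K : DCoh.D X} {m : ℤ}
    (hK : DCoh.IsPseudoCoherentD m K) : ∃ b : ℤ, K.IsLE b :=
  exists_isLE_of_locally fun x => by
    obtain ⟨V, hxV, hV⟩ := (approx_of_isPseudoCoherentD hK).exists_opens x
    obtain ⟨E, hE, α, hα⟩ := hV V le_rfl
    obtain ⟨⟨a, b, hv⟩, -⟩ := hE
    exact ⟨V, max m b, hxV, (DerivedCategory.isLE_iff _ _).2 fun i hi =>
      isZero_HD_of_dcond hα (fun j hj => hv j (Or.inr hj)) (by omega) (by omega)⟩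

theorem exists_isGE_of_locally [CompactSpace X] {K : DCoh.D X}
    (h : ∀ x : X, ∃ (V : X.Opens) (b : ℤ), x ∈ V ∧ ((resD V.ι).obj K).IsGE b) : ∃ b : ℤ, K.IsGE b := by
  choose V b hx hV using h
  obtain ⟨s, hs⟩ := isCompact_univ.elim_finite_subcover (fun x => (V x : Set X)) (fun x => (V x).2)
    (fun x _ => Set.mem_iUnion.2 ⟨x, hx x⟩)
  obtain ⟨B, hB⟩ : ∃ B, ∀ x ∈ s, B ≤ b x := by
    obtain ⟨B, hB⟩ := (s.image fun x => -b x).exists_le
    exact ⟨-B, fun x hx => neg_le.2 (hB _ (Finset.mem_image_of_mem _ hx))⟩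
  refine ⟨B, (DerivedCategory.isGE_iff K B).2 fun i hi => isZero_of_cover (fun x : s => V x.1)
    (fun y => ?_) fun x => ?_⟩
  · obtain ⟨x, hxs, hy⟩ := Set.mem_iUnion₂.1 (hs (Set.mem_univ y))
    exact ⟨⟨x, hxs⟩, hy⟩
  · have := hV x.1
    exact (DerivedCategory.isZero_of_isGE ((resD (V x.1).ι).obj K) (b x.1) i
      (by have := hB x.1 x.2; omega)).of_iso (hdResIso (V x.1).ι K i).symm

theorem exists_isGE_of_perfect [CompactSpace X] {K : DCoh.D X} (hK : DCoh.IsPerfect K) :
    ∃ b : ℤ, K.IsGE b :=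
  exists_isGE_of_locally fun x => by
    obtain ⟨V, hxV, hV⟩ := (isPerfect_iff_approx.1 hK).exists_opens x
    obtain ⟨E, hE, α, hα⟩ := hV V le_rfl
    obtain ⟨⟨a, b, hv⟩, -⟩ := hE
    have := isIso_of_dcond_univ hα
    exact ⟨V, a, hxV, (DerivedCategory.isGE_iff _ _).2 fun i hi =>
      ((KFlat.Sch.isZero_HD_toD_iff E i).2 (by
        rw [HomologicalComplex.exactAt_iff]
        exact ShortComplex.exact_of_isZero_X₂ _ (hv i (Or.inl hi)))).of_iso
        ((DerivedCategory.homologyFunctor _ i).mapIso (asIso α)).symm⟩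

theorem shortExact_stF {S : ShortComplex X.Modules} (hS : S.ShortExact) (x : X) :
    (S.map (KFlat.Sch.stF x)).ShortExact := by
  have := hS.mono_f
  have := hS.epi_g
  exact
    { exact := (KFlat.Sch.exact_iff_stF S).1 hS.exact x
      mono_f := (ModuleCat.mono_iff_injective _).2 ((KFlat.Sch.mono_iff_stalk S.f).1 inferInstance x)
      epi_g := (ModuleCat.epi_iff_surjective _).2 ((M1.epi_iff_stalk S.g).1 inferInstance x) }

theorem Approx.of_cover {s : Set ℤ} {K : DCoh.D X}
    (h : ∀ x : X, ∃ (Z : Scheme.{u}) (j : Z ⟶ X) (_ : IsOpenImmersion j), x ∈ Set.range j ∧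
      Approx s ((resD j).obj K)) : Approx s K := fun x => by
  obtain ⟨Z, j, hj, ⟨z, hz⟩, hZ⟩ := h x
  obtain ⟨W, k, hk, hzk, hW⟩ := hZ z
  exact ⟨W, k ≫ j, inferInstance, range_comp_mem j k hz hzk, hW.transport j k⟩

theorem approx_univ_inD_of_pd (k : ℕ) : ∀ {X : Scheme.{u}} [IsLocallyNoetherian X] (M : X.Modules),
    Coh.IsCoh M → ∀ x : X, (∀ (Z : Scheme.{u}) (j : Z ⟶ X) [IsOpenImmersion j] (z : Z), j z = x →
        HasProjectiveDimensionLT ((KFlat.Sch.stF z).obj (M.restrict j)) (k + 1)) →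
      ∃ (Z : Scheme.{u}) (j : Z ⟶ X) (_ : IsOpenImmersion j), x ∈ Set.range j ∧
        Approx Set.univ (DCoh.inD Z (M.restrict j)) := by
  induction k with
  | zero =>
    intro X _ M hM x h
    have hres := h X (𝟙 X) x rfl
    have hM' := isCoh_restrict hM (𝟙 X)
    have hP : Projective ((KFlat.Sch.stF x).obj (M.restrict (𝟙 X))) :=
      projective_iff_hasProjectiveDimensionLT_one.2 hres
    have : Module.Projective (X.presheaf.stalk x) ((M.restrict (𝟙 X)).presheaf.stalk x) :=
      (IsProjective.iff_projective (R := X.presheaf.stalk x) _).2 hP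
    have := M1.finite_stalk hM'.1 hM'.2 x
    have : Module.Flat (X.presheaf.stalk x) ((M.restrict (𝟙 X)).presheaf.stalk x) :=
      Module.Flat.of_projective
    have : Module.Free (X.presheaf.stalk x) ((M.restrict (𝟙 X)).presheaf.stalk x) :=
      Module.free_of_flat_of_isLocalRing
    obtain ⟨U, n, hxU, ⟨e⟩⟩ := M1.exists_freeMod_of_free_stalk ((M1.isCoh_iff_isFP _).1 hM') x
    exact ⟨_, U.ι ≫ 𝟙 X, inferInstance, ⟨⟨x, hxU⟩, by simp⟩, approx_inD_of_isFinLocFree
      (M2.isFinLocFree_of_iso (e.symm ≪≫ M1.restrictRestrictIso M (𝟙 X) U.ι _ rfl)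
        (KFlat.Sch.isFinLocFree_freeMod _ n))⟩
  | succ k ih =>
    intro X _ M hM x h
    obtain ⟨U, P, p, hxU, hP, hp⟩ := exists_epi_free_of_isFT hM.2 x
    have hS : (ShortComplex.mk (kernel.ι p) p (kernel.condition p)).ShortExact :=
      { exact := ShortComplex.exact_kernel p }
    have hK : Coh.IsCoh (kernel p) :=
      M1.isCoh_kernel ((M1.isCoh_iff_isFP P).2 (M1.isFP_of_isFinLocFree hP)) (isCoh_restrict hM U.ι).1 p
    obtain ⟨W, j, hj, ⟨w, hw⟩, hW⟩ := ih _ hK ⟨x, hxU⟩ fun Z j _ z hz => by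
      have hS' := hS.map_of_exact (Scheme.Modules.restrictFunctor j)
      have : Module.Free (Z.presheaf.stalk z) ((P.restrict j).presheaf.stalk z) :=
        ((M1.isFinLocFree_iff _).1 (M2.isFinLocFree_restrict j hP)).2 z
      have hproj : Projective ((KFlat.Sch.stF z).obj (P.restrict j)) :=
        (IsProjective.iff_projective (R := Z.presheaf.stalk z) _).1
          (Module.Projective.of_free (P := (P.restrict j).presheaf.stalk z))
      have hz' : (j ≫ U.ι) z = x := by rw [Scheme.Hom.comp_apply, hz]; rfl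
      have hpd : HasProjectiveDimensionLT ((KFlat.Sch.stF z).obj ((M.restrict U.ι).restrict j)) (k + 2) :=
        have := h Z (j ≫ U.ι) z hz'
        hasProjectiveDimensionLT_of_iso ((KFlat.Sch.stF z).mapIso
          (M1.restrictRestrictIso M U.ι j _ rfl)).symm (k + 2)
      exact ((shortExact_stF hS' z).hasProjectiveDimensionLT_X₃_iff k hproj).1 hpd
    let R := Scheme.Modules.restrictFunctor j
    refine ⟨W, j ≫ U.ι, inferInstance, range_comp_mem U.ι j rfl ⟨w, hw⟩, ?_⟩
    exact (approx_univ₃ _ (hS.map_of_exact R).singleTriangle_distinguished hW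
      (approx_inD_of_isFinLocFree (M2.isFinLocFree_restrict j hP))).of_iso
        ((DerivedCategory.singleFunctor W.Modules 0).mapIso (M1.restrictRestrictIso M U.ι j _ rfl))

theorem approx_univ_inD_of_regular [IsLocallyNoetherian X]
    (hreg : ∀ x : X, IsRegularLocalRing (X.presheaf.stalk x)) {M : X.Modules} (hM : Coh.IsCoh M) :
    Approx Set.univ (DCoh.inD X M) := by
  refine Approx.of_cover fun x => ?_
  have := hreg x
  obtain ⟨Z, j, hj, hx, hZ⟩ := approx_univ_inD_of_pd
    (IsLocalRing.maximalIdeal (X.presheaf.stalk x)).spanFinrank M hM x fun Z j _ z hz => by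
      subst hz
      let e := (asIso (j.stalkMap z)).commRingCatIsoToRingEquiv
      have := IsRegularLocalRing.of_ringEquiv e
      refine RegLoc.hasProjectiveDimensionLT_of_regular ?_ _
      have h1 := IsRegularLocalRing.spanFinrank_maximalIdeal (R := X.presheaf.stalk (j z))
      have h2 := IsRegularLocalRing.spanFinrank_maximalIdeal (R := Z.presheaf.stalk z)
      rw [← ringKrullDim_eq_of_ringEquiv e, ← h1] at h2
      exact_mod_cast h2
  exact ⟨Z, j, hj, hx, hZ.of_iso
    (((Scheme.Modules.restrictFunctor j).mapDerivedCategorySingleFunctor 0).app M).symm⟩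

theorem isPerfect_of_regular [IsLocallyNoetherian X]
    (hreg : ∀ x : X, IsRegularLocalRing (X.presheaf.stalk x)) :
    ∀ (k : ℕ) (a : ℤ) (K : DCoh.D X), K.IsGE a → (∀ i, a + k ≤ i → IsZero (DCoh.HD K i)) →
      DCoh.IsCohD K → Approx Set.univ K
  | 0, a, K, _, hz, _ => fun x => by
      have hzero : ∀ i, IsZero (DCoh.HD K i) := fun i =>
        if h : i < a then DerivedCategory.isZero_of_isGE K a i h else hz i (by simp; omega)
      have hzz := ((KFlat.Sch.isZero_HD_toD_iff (HomologicalComplex.zero : CochainComplex X.Modules ℤ)))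
      exact ⟨X, 𝟙 X, inferInstance, ⟨x, rfl⟩, (HomologicalComplex.zero : CochainComplex X.Modules ℤ),
        ⟨⟨0, 0, fun i _ => isZero_zero _⟩, fun i => KFlat.Sch.isFinLocFree_of_isZero (isZero_zero _)⟩,
        0, fun i _ => ⟨⟨fun _ _ _ => (((Scheme.Modules.restrictFunctor (𝟙 X)).map_isZero (hzero i)).of_iso
          (hdResIso (𝟙 X) K i)).eq_of_src _ _⟩, ⟨fun _ _ _ => ((hzz (i + 1)).2 (by
            rw [HomologicalComplex.exactAt_iff]
            exact ShortComplex.exact_of_isZero_X₂ _ (isZero_zero _))).eq_of_tgt _ _⟩⟩⟩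
  | k + 1, a, K, hK, hz, hc => by
      let t := (DerivedCategory.TStructure.t : Triangulated.TStructure (DCoh.D X))
      have hK' : t.IsGE K a := hK
      have hπ := fun i (hi : a + 1 ≤ i) => DerTrunc.isIso_homology_truncGEπ K (a + 1) i hi
      have hι := fun i (hi : i < a + 1) => DerTrunc.isIso_homology_truncLTι K (a + 1) i hi
      have h₁ : DerivedCategory.IsLE ((t.truncLT (a + 1)).obj K) a :=
        t.isLE_truncLT_obj K (a + 1) a le_rfl
      have h₁' : DerivedCategory.IsGE ((t.truncLT (a + 1)).obj K) a :=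
        (inferInstance : t.IsGE ((t.truncLT (a + 1)).obj K) a)
      have h₂ : DerivedCategory.IsGE ((t.truncGE (a + 1)).obj K) (a + 1) :=
        (inferInstance : t.IsGE ((t.truncGE (a + 1)).obj K) (a + 1))
      obtain ⟨Y, ⟨e⟩, ⟨e'⟩⟩ := exists_single_of_concentrated (K := (t.truncLT (a + 1)).obj K) a
      have := hι a (lt_add_one a)
      let eY : Y ≅ DCoh.HD K a := e' ≪≫
        asIso ((DerivedCategory.homologyFunctor _ a).map ((t.truncLTι (a + 1)).app K))
      have hY : Coh.IsCoh Y := ⟨M1.isQCoh_of_isIso eY.symm (hc a).1, M1.isFT_of_isIso eY.symm (hc a).2⟩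
      have hlt : Approx Set.univ ((t.truncLT (a + 1)).obj K) :=
        (((approx_univ_inD_of_regular hreg hY).of_iso e.symm).shift_univ (-a)).of_iso
          ((shiftEquiv (DCoh.D X) a).unitIso.app _).symm
      refine approx_univ₂ _ (t.triangleLTGE_distinguished (a + 1) K) hlt
        (isPerfect_of_regular hreg k (a + 1) _ h₂ (fun i hi => ?_) fun i => ?_)
      · have := hπ i (by omega)
        exact (hz i (by push_cast; omega)).of_iso
          (asIso ((DerivedCategory.homologyFunctor _ i).map ((t.truncGEπ (a + 1)).app K))).symm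
      · by_cases h : a + 1 ≤ i
        · have := hπ i h
          let e := asIso ((DerivedCategory.homologyFunctor _ i).map ((t.truncGEπ (a + 1)).app K))
          exact ⟨M1.isQCoh_of_isIso e (hc i).1, M1.isFT_of_isIso e (hc i).2⟩
        · have hz' := DerivedCategory.isZero_of_isGE ((t.truncGE (a + 1)).obj K) (a + 1) i (by omega)
          exact isCoh_of_isZero hz'

end Groth.Agent.DPerf
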