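import Groth.Agent.Lib.DMod.Homology
import Groth.Prelude.Def_DRing2
import Mathlib.RingTheory.LocalRing.Module
import Mathlib.RingTheory.Finiteness.Projective

/-!
Finite free complexes over a local ring with fibre cohomology in one degree.
-/

set_option autoImplicit false

universe u

open CategoryTheory CategoryTheory.Limits
open scoped TensorProduct

namespace Groth.Agent.DPerf.LocalFibre

variable {A : Type u} [CommRing A] [IsLocalRing A]

/-- The residue fibre of `Q` is exact in degree `l`. -/
def FibreExact (Q : DRing.Cx A) (l : ℤ) : Prop :=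
  Function.Exact ((Q.d (l - 1) l).hom.lTensor (IsLocalRing.ResidueField A))
    ((Q.d l (l + 1)).hom.lTensor (IsLocalRing.ResidueField A))

theorem surjective_of_lTensor {M N : Type u} [AddCommGroup M] [Module A M] [AddCommGroup N]
    [Module A N] [Module.Finite A N] (f : M →ₗ[A] N)
    (h : Function.Surjective (f.lTensor (IsLocalRing.ResidueField A))) : Function.Surjective f := by
  have hs : Subsingleton (IsLocalRing.ResidueField A ⊗[A] (N ⧸ LinearMap.range f)) := by
    refine subsingleton_of_forall_eq 0 fun z => ?_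
    obtain ⟨w, rfl⟩ := LinearMap.lTensor_surjective _ (Submodule.mkQ_surjective _) z
    obtain ⟨v, rfl⟩ := h w
    rw [← LinearMap.comp_apply, ← LinearMap.lTensor_comp, LinearMap.range_mkQ_comp,
      LinearMap.lTensor_zero, LinearMap.zero_apply]
  have : Subsingleton (N ⧸ LinearMap.range f) := IsLocalRing.subsingleton_tensorProduct.1 hs
  exact LinearMap.range_eq_top.1 (Submodule.Quotient.subsingleton_iff.1 this)

variable (Q : DRing.Cx A) (hfree : ∀ l, Module.Free A (Q.X l)) (hfin : ∀ l, Module.Finite A (Q.X l))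

include hfree hfin

/-- Below the exceptional degree the cokernels are free and the differentials split. -/
theorem coker_free {a : ℤ} (hlow : ∀ l, l < a → IsZero (Q.X l)) (i : ℤ)
    (hex : ∀ l, l < i → FibreExact Q l) :
    ∀ (k : ℕ) (l : ℤ), l + 1 = a + k → l < i →
      (∀ x : Q.X l, Q.d l (l + 1) x = 0 → ∃ y, Q.d (l - 1) l y = x) ∧
        Module.Free A (Q.X (l + 1) ⧸ LinearMap.range (Q.d l (l + 1)).hom) := by
  intro k
  induction k with
  | zero =>
    intro l hl _
    have := ModuleCat.subsingleton_of_isZero (hlow l (by omega))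
    refine ⟨fun x _ => ⟨0, Subsingleton.elim _ _⟩, ?_⟩
    have hbot : LinearMap.range (Q.d l (l + 1)).hom = ⊥ := by
      rw [eq_bot_iff]
      rintro _ ⟨x, rfl⟩
      rw [Subsingleton.elim x 0, map_zero]
      exact zero_mem _
    have := hfree (l + 1)
    exact Module.Free.of_equiv (Submodule.quotEquivOfEqBot _ hbot).symm
  | succ k ih =>
    intro l hl hli
    obtain ⟨-, hC⟩ := ih (l - 1) (by omega) (by omega)
    have hC' : Module.Free A (Q.X l ⧸ LinearMap.range (Q.d (l - 1) l).hom) := by
      have h : ∀ m, m = l → Module.Free A (Q.X m ⧸ LinearMap.range (Q.d (l - 1) m).hom) →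
          Module.Free A (Q.X l ⧸ LinearMap.range (Q.d (l - 1) l).hom) := by rintro m rfl h; exact h
      exact h _ (sub_add_cancel l 1) hC
    let g : (Q.X l ⧸ LinearMap.range (Q.d (l - 1) l).hom) →ₗ[A] Q.X (l + 1) :=
      (LinearMap.range (Q.d (l - 1) l).hom).liftQ (Q.d l (l + 1)).hom (by
        rintro _ ⟨y, rfl⟩
        change Q.d l (l + 1) (Q.d (l - 1) l y) = 0
        rw [← ModuleCat.comp_apply, Q.d_comp_d]
        rfl)
    have hg : g ∘ₗ (LinearMap.range (Q.d (l - 1) l).hom).mkQ = (Q.d l (l + 1)).hom :=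
      Submodule.liftQ_mkQ _ _ _
    have hinj : Function.Injective (g.lTensor (IsLocalRing.ResidueField A)) := by
      rw [injective_iff_map_eq_zero]
      intro z hz
      obtain ⟨w, rfl⟩ := LinearMap.lTensor_surjective _ (Submodule.mkQ_surjective _) z
      rw [← LinearMap.comp_apply, ← LinearMap.lTensor_comp, hg] at hz
      obtain ⟨v, rfl⟩ := (hex l hli w).1 hz
      rw [← LinearMap.comp_apply, ← LinearMap.lTensor_comp, LinearMap.range_mkQ_comp,
        LinearMap.lTensor_zero, LinearMap.zero_apply]
    have := hfree (l + 1)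
    have := hfin (l + 1)
    have := hfin l
    obtain ⟨g', hg'⟩ := (IsLocalRing.split_injective_iff_lTensor_residueField_injective g).2 hinj
    have hg_inj : Function.Injective g :=
      Function.HasLeftInverse.injective ⟨g', LinearMap.congr_fun hg'⟩
    refine ⟨fun x hx => ?_, ?_⟩
    · exact (Submodule.Quotient.mk_eq_zero _).1 (hg_inj (a₂ := 0) ((by exact hx : g (Submodule.Quotient.mk x) = 0).trans (map_zero g).symm))
    · have hr : LinearMap.range g = LinearMap.range (Q.d l (l + 1)).hom := Submodule.range_liftQ _ _ _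
      exact Module.free_of_lTensor_residueField_injective g
        (LinearMap.range (Q.d l (l + 1)).hom).mkQ (Submodule.mkQ_surjective _)
        (by rw [LinearMap.exact_iff, Submodule.ker_mkQ, hr]) hinj

/-- Above the exceptional degree the complex is split exact. -/
theorem cycles_split {b : ℤ} (htop : ∀ l, b < l → IsZero (Q.X l)) (i : ℤ)
    (hex : ∀ l, i < l → FibreExact Q l) :
    ∀ (k : ℕ) (l : ℤ), l + k = b + 1 → i ≤ l →
      (∃ r : Q.X l →ₗ[A] LinearMap.ker (Q.d l (l + 1)).hom,
        r ∘ₗ (LinearMap.ker (Q.d l (l + 1)).hom).subtype = LinearMap.id) ∧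
      ∀ x : Q.X (l + 1), Q.d (l + 1) (l + 1 + 1) x = 0 → ∃ y, Q.d l (l + 1) y = x := by
  intro k
  induction k with
  | zero =>
    intro l hl _
    have := ModuleCat.subsingleton_of_isZero (htop (l + 1) (by omega))
    refine ⟨⟨LinearMap.id.codRestrict _ fun x => Subsingleton.elim _ _, LinearMap.ext fun x => rfl⟩,
      fun x _ => ⟨0, Subsingleton.elim _ _⟩⟩
  | succ k ih =>
    intro l hl hli
    obtain ⟨⟨r, hr⟩, -⟩ := ih (l + 1) (by omega) (by omega)
    have := hfree (l + 1)
    have := hfin (l + 1)
    have : Module.Projective A (LinearMap.ker (Q.d (l + 1) (l + 1 + 1)).hom) :=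
      Module.Projective.of_split _ _ hr
    have : Module.Finite A (LinearMap.ker (Q.d (l + 1) (l + 1 + 1)).hom) :=
      Module.Finite.of_surjective r fun z => ⟨z, LinearMap.congr_fun hr z⟩
    let d' : Q.X l →ₗ[A] LinearMap.ker (Q.d (l + 1) (l + 1 + 1)).hom :=
      (Q.d l (l + 1)).hom.codRestrict _ fun x => by
        change Q.d (l + 1) (l + 1 + 1) (Q.d l (l + 1) x) = 0
        rw [← ModuleCat.comp_apply, Q.d_comp_d]
        rfl
    let ι := (LinearMap.ker (Q.d (l + 1) (l + 1 + 1)).hom).subtype
    have hcomp : ι ∘ₗ d' = (Q.d l (l + 1)).hom := LinearMap.subtype_comp_codRestrict _ _ _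
    have hsurj : Function.Surjective d' := by
      refine surjective_of_lTensor d' fun z => ?_
      have hz : (Q.d (l + 1) (l + 1 + 1)).hom.lTensor _ (ι.lTensor (IsLocalRing.ResidueField A) z) = 0 := by
        rw [← LinearMap.comp_apply, ← LinearMap.lTensor_comp, LinearMap.comp_ker_subtype,
          LinearMap.lTensor_zero, LinearMap.zero_apply]
      have hex' := hex (l + 1) (by omega)
      unfold FibreExact at hex'
      have h : ∀ m, m = l → ∀ y, (∃ v, (Q.d m (l + 1)).hom.lTensor (IsLocalRing.ResidueField A) v = y) →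
          ∃ v, (Q.d l (l + 1)).hom.lTensor (IsLocalRing.ResidueField A) v = y := by
        rintro m rfl y h; exact h
      obtain ⟨v, hv⟩ := h _ (add_sub_cancel_right l 1) _ ((hex' _).1 hz)
      refine ⟨v, ?_⟩
      have hι : Function.Injective (ι.lTensor (IsLocalRing.ResidueField A)) := by
        refine Function.HasLeftInverse.injective ⟨r.lTensor _, fun w => ?_⟩
        rw [← LinearMap.comp_apply, ← LinearMap.lTensor_comp, hr, LinearMap.lTensor_id]
        rfl
      apply hι
      rw [← LinearMap.comp_apply, ← LinearMap.lTensor_comp, hcomp, hv]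
    obtain ⟨s, hs⟩ := Module.projective_lifting_property d' LinearMap.id hsurj
    let r' : Q.X l →ₗ[A] LinearMap.ker (Q.d l (l + 1)).hom :=
      (LinearMap.id - s ∘ₗ d').codRestrict _ fun x => by
        change (Q.d l (l + 1)).hom (x - s (d' x)) = 0
        rw [← hcomp, LinearMap.comp_apply, map_sub, ← LinearMap.comp_apply d', hs, LinearMap.id_apply,
          sub_self, map_zero]
    refine ⟨⟨r', ?_⟩, fun x hx => ?_⟩
    · refine LinearMap.ext fun x => Subtype.ext ?_
      have : d' (x : Q.X l) = 0 := Subtype.ext x.2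
      change (x : Q.X l) - s (d' (x : Q.X l)) = x
      rw [this, map_zero, sub_zero]
    · obtain ⟨y, hy⟩ := hsurj ⟨x, hx⟩
      exact ⟨y, congrArg Subtype.val hy⟩

/-- The cohomology is free, concentrated in the exceptional degree. -/
theorem homology_free {a b : ℤ} (hQ : DRing.VanishesOutside Q a b) (i : ℤ)
    (hex : ∀ l, l ≠ i → FibreExact Q l) :
    (∀ l, l ≠ i → Subsingleton (Q.homology l)) ∧
      Module.Free A (Q.homology i) ∧ Module.Finite A (Q.homology i) := by
  let a' := min a i
  let b' := max b i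
  have hlow : ∀ l, l < a' → IsZero (Q.X l) := fun l hl => hQ l (Or.inl (by omega))
  have htop : ∀ l, b' < l → IsZero (Q.X l) := fun l hl => hQ l (Or.inr (by omega))
  refine ⟨fun l hl => ?_, ?_⟩
  · rw [DMod.subsingleton_homology_iff Q (i := l - 1) (k := l + 1) (by simp) (by simp)]
    rcases lt_or_gt_of_ne hl with h | h
    · by_cases ha : l + 1 < a'
      · have := ModuleCat.subsingleton_of_isZero (hlow l (by omega))
        exact fun x _ => ⟨0, Subsingleton.elim _ _⟩
      · exact (coker_free Q hfree hfin hlow i (fun m hm => hex m hm.ne) (l + 1 - a').toNat l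
          (by omega) h).1
    · by_cases hb : b' < l
      · have := ModuleCat.subsingleton_of_isZero (htop l hb)
        exact fun x _ => ⟨0, Subsingleton.elim _ _⟩
      · intro x hx
        have h' := (cycles_split Q hfree hfin htop i (fun m hm => hex m hm.ne') (b' + 2 - l).toNat (l - 1)
          (by omega) (by omega)).2
        have key : ∀ m, m = l → (∀ x : Q.X m, Q.d m (m + 1) x = 0 → ∃ y, Q.d (l - 1) m y = x) →
            ∀ x : Q.X l, Q.d l (l + 1) x = 0 → ∃ y, Q.d (l - 1) l y = x := by rintro m rfl h; exact h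
        exact key _ (sub_add_cancel l 1) h' x hx
  have hC : Module.Free A (Q.X i ⧸ LinearMap.range (Q.d (i - 1) i).hom) := by
    have key : ∀ m, m = i → Module.Free A (Q.X m ⧸ LinearMap.range (Q.d (i - 1) m).hom) →
        Module.Free A (Q.X i ⧸ LinearMap.range (Q.d (i - 1) i).hom) := by rintro m rfl h; exact h
    exact key _ (sub_add_cancel i 1)
      (coker_free Q hfree hfin hlow i (fun m hm => hex m hm.ne) (i - a').toNat (i - 1) (by omega) (by omega)).2
  obtain ⟨⟨r, hr⟩, -⟩ := cycles_split Q hfree hfin htop i (fun m hm => hex m hm.ne') (b' + 1 - i).toNat i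
    (by omega) le_rfl
  have := hfin i
  let S := Q.sc' (i - 1) i (i + 1)
  let Z := LinearMap.ker (Q.d i (i + 1)).hom
  let B : Submodule A Z := LinearMap.range S.moduleCatToCycles
  let C := Q.X i ⧸ LinearMap.range (Q.d (i - 1) i).hom
  let u : (Z ⧸ B) →ₗ[A] C := B.liftQ ((LinearMap.range (Q.d (i - 1) i).hom).mkQ ∘ₗ Z.subtype) (by
    rintro _ ⟨y, rfl⟩
    exact (Submodule.Quotient.mk_eq_zero _).2 ⟨y, rfl⟩)
  let v : C →ₗ[A] (Z ⧸ B) := (LinearMap.range (Q.d (i - 1) i).hom).liftQ (B.mkQ ∘ₗ r) (by
    rintro _ ⟨y, rfl⟩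
    change B.mkQ (r (Q.d (i - 1) i y)) = 0
    rw [show r (Q.d (i - 1) i y) = S.moduleCatToCycles y from
      LinearMap.congr_fun hr (S.moduleCatToCycles y)]
    exact (Submodule.Quotient.mk_eq_zero _).2 ⟨y, rfl⟩)
  have huv : v ∘ₗ u = LinearMap.id := by
    refine Submodule.linearMap_qext _ (LinearMap.ext fun z => ?_)
    change B.mkQ (r (z : Q.X i)) = B.mkQ z
    rw [show r (z : Q.X i) = z from LinearMap.congr_fun hr z]
  have : Module.Projective A (Z ⧸ B) := Module.Projective.of_split u v huv
  have : Module.Finite A (Z ⧸ B) := Module.Finite.of_surjective v fun z => ⟨u z, LinearMap.congr_fun huv z⟩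
  have : Module.Free A (Z ⧸ B) := Module.free_of_flat_of_isLocalRing
  let e : Q.homology i ≅ ModuleCat.of A (Z ⧸ B) :=
    Q.homologyIsoSc' (i - 1) i (i + 1) (by simp) (by simp) ≪≫ S.moduleCatHomologyIso
  exact ⟨Module.Free.of_equiv e.toLinearEquiv.symm, Module.Finite.equiv e.toLinearEquiv.symm⟩

end Groth.Agent.DPerf.LocalFibre
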