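import Groth.Agent.Lib.DPerf.Free

/-!
The locus where the cohomology of a perfect object is finite free.
-/

set_option autoImplicit false
set_option linter.unusedSectionVars false

universe u

open CategoryTheory CategoryTheory.Limits AlgebraicGeometry

attribute [local instance] HasDerivedCategory.standard

namespace Groth.Agent.DPerf

variable {X : Scheme.{u}}

/-- The stalk at `x` is finite free. -/
def FF (M : X.Modules) (x : X) : Prop :=
  Module.Free (X.presheaf.stalk x) (M.presheaf.stalk x) ∧ Module.Finite (X.presheaf.stalk x) (M.presheaf.stalk x)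

theorem FF.of_iso {M N : X.Modules} (e : M ≅ N) {x : X} (h : FF M x) : FF N x := by
  obtain ⟨h₁, h₂⟩ := h
  have h₁' : Module.Free (X.presheaf.stalk x) ((KFlat.Sch.stF x).obj M) := h₁
  have h₂' : Module.Finite (X.presheaf.stalk x) ((KFlat.Sch.stF x).obj M) := h₂
  exact ⟨Module.Free.of_equiv ((KFlat.Sch.stF x).mapIso e).toLinearEquiv,
    Module.Finite.equiv ((KFlat.Sch.stF x).mapIso e).toLinearEquiv⟩

theorem ff_restrict_iff {Z : Scheme.{u}} (j : Z ⟶ X) [IsOpenImmersion j] (M : X.Modules) (z : Z) :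
    FF (M.restrict j) z ↔ FF M (j z) := by
  let A := X.presheaf.stalk (j z)
  let B := Z.presheaf.stalk z
  letI : Algebra A B := (j.stalkMap z).hom.toAlgebra
  let eAB : A ≃ₗ[A] B := LinearEquiv.ofBijective (Algebra.linearMap A B)
    (ConcreteCategory.bijective_of_isIso (j.stalkMap z))
  let e : TensorProduct A B (M.presheaf.stalk (j z)) ≃ₗ[B] ((M.restrict j).presheaf.stalk z : Type u) :=
    (M2.pullStalkEquiv j z M).trans
      ((KFlat.Sch.stF z).mapIso ((Scheme.Modules.restrictFunctorIsoPullback j).app M).symm).toLinearEquiv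
  let e' : TensorProduct A B (M.presheaf.stalk (j z)) ≃ₗ[A] (M.presheaf.stalk (j z) : Type u) :=
    (TensorProduct.congr eAB.symm (LinearEquiv.refl A _)).trans (TensorProduct.lid A _)
  constructor
  · rintro ⟨h₁, h₂⟩
    have : Module.Free B (TensorProduct A B (M.presheaf.stalk (j z))) :=
      have : Module.Free B ((M.restrict j).presheaf.stalk z : Type u) := h₁
      Module.Free.of_equiv e.symm
    have : Module.Finite B (TensorProduct A B (M.presheaf.stalk (j z))) :=
      have : Module.Finite B ((M.restrict j).presheaf.stalk z : Type u) := h₂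
      Module.Finite.equiv e.symm
    have : Module.Free A B := Module.Free.of_equiv eAB
    have : Module.Finite A B := Module.Finite.equiv eAB
    have : Module.Free A (TensorProduct A B (M.presheaf.stalk (j z))) := Module.Free.trans (S := B)
    have : Module.Finite A (TensorProduct A B (M.presheaf.stalk (j z))) := Module.Finite.trans B _
    exact ⟨Module.Free.of_equiv e', Module.Finite.equiv e'⟩
  · rintro ⟨h₁, h₂⟩
    exact ⟨Module.Free.of_equiv e, Module.Finite.equiv e⟩

theorem ff_of_isFinLocFree {M : X.Modules} (h : FlatMod.IsFinLocFree M) (x : X) : FF M x :=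
  have hh := (M1.isFinLocFree_iff M).1 h
  ⟨hh.2 x, M1.finite_stalk (M1.isFP_isQCoh hh.1) (M1.isFP_isFT hh.1) x⟩

/-- Cohomology of a restricted complex. -/
noncomputable def homResIso {Z : Scheme.{u}} (j : Z ⟶ X) [IsOpenImmersion j] (E : CochainComplex X.Modules ℤ)
    (i : ℤ) : ((resX j).obj E).homology i ≅ (E.homology i).restrict j :=
  (E.sc i).mapHomologyIso (Scheme.Modules.restrictFunctor j)

theorem exists_nhd_flf (k : ℕ) : ∀ {X : Scheme.{u}} (E : CochainComplex X.Modules ℤ),
    DCoh.IsStrictlyPerfect E → ∀ (x : X), (∀ i, FF (E.homology i) x) → ∀ (n b : ℤ), n + k = b + 1 →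
      (∀ i, b < i → IsZero (E.X i)) →
      ∃ (Z : Scheme.{u}) (j : Z ⟶ X) (_ : IsOpenImmersion j), x ∈ Set.range j ∧
        FlatMod.IsFinLocFree (((resX j).obj E).cycles (n - 1)) ∧
        ∀ i, n ≤ i → FlatMod.IsFinLocFree (((resX j).obj E).homology i) := by
  induction k with
  | zero =>
    intro X E hE x _ n b hn hb
    refine ⟨X, 𝟙 X, inferInstance, ⟨x, rfl⟩, ?_, fun i hi => KFlat.Sch.isFinLocFree_of_isZero ?_⟩
    · refine isFinLocFree_cycles (isStrictlyPerfect_res _ hE) (n - 1) fun i hi => ?_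
      rw [HomologicalComplex.exactAt_iff]
      exact ShortComplex.exact_of_isZero_X₂ _
        ((Scheme.Modules.restrictFunctor (𝟙 X)).map_isZero (hb i (by simp at hn; omega)))
    · refine ((HomologicalComplex.exactAt_iff_isZero_homology _ _).1 ?_)
      rw [HomologicalComplex.exactAt_iff]
      exact ShortComplex.exact_of_isZero_X₂ _
        ((Scheme.Modules.restrictFunctor (𝟙 X)).map_isZero (hb i (by simp at hn; omega)))
  | succ k ih =>
    intro X E hE x hFF n b hn hb
    obtain ⟨Z, j, hj, ⟨z, rfl⟩, hcyc, hhom⟩ :=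
      ih E hE x hFF (n + 1) b (by push_cast at hn ⊢; omega) hb
    rw [add_sub_cancel_right] at hcyc
    let E₁ := (resX j).obj E
    have hE₁ := isStrictlyPerfect_res j hE
    have hFP : CohB1.IsFP (E₁.homology n) := by
      have h1 := M1.isFP_of_isFinLocFree (hE₁.2 (n - 1))
      exact M1.isFP_of_isIso
        ((cokernelIsCokernel _).coconePointUniqueUpToIso (E₁.homologyIsCokernel (n - 1) n (by simp)))
        (isFP_cokernel (M1.isFP_isQCoh h1) (M1.isFP_isFT h1) (M1.isFP_of_isFinLocFree hcyc) _)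
    have : Module.Free (Z.presheaf.stalk z) ((E₁.homology n).presheaf.stalk z) :=
      (FF.of_iso (homResIso j E n).symm ((ff_restrict_iff j _ z).2 (hFF n))).1
    obtain ⟨U, r, hzU, ⟨e⟩⟩ := M1.exists_freeMod_of_free_stalk hFP z
    let R := Scheme.Modules.restrictFunctor U.ι
    let E₂ := (resX (U.ι ≫ j)).obj E
    let φ : E₂ ≅ (resX U.ι).obj E₁ := (resCompIso j U.ι).app E
    refine ⟨_, U.ι ≫ j, inferInstance, range_comp_mem j U.ι rfl ⟨⟨z, hzU⟩, rfl⟩, ?_, ?_⟩
    · have hH : FlatMod.IsFinLocFree (E₂.homology n) :=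
        M2.isFinLocFree_of_iso (e.symm ≪≫ (homResIso U.ι E₁ n).symm ≪≫
          (HomologicalComplex.homologyMapIso φ n).symm) (KFlat.Sch.isFinLocFree_freeMod _ r)
      have hZ : FlatMod.IsFinLocFree (E₂.cycles n) :=
        M2.isFinLocFree_of_iso (((E₁.sc n).mapCyclesIso R).symm ≪≫
          (HomologicalComplex.cyclesMapIso φ n).symm) (M2.isFinLocFree_restrict U.ι hcyc)
      have hB : FlatMod.IsFinLocFree (kernel (E₂.homologyπ n)) :=
        isFinLocFree_kernel _ _ (kernel.condition _)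
          { exact := ShortComplex.exact_kernel (E₂.homologyπ n) } hZ hH
      let p : E₂.X (n - 1) ⟶ kernel (E₂.homologyπ n) :=
        kernel.lift _ (E₂.toCycles (n - 1) n) (E₂.toCycles_comp_homologyπ _ _)
      have hex : (ShortComplex.mk _ _ (E₂.toCycles_comp_homologyπ (n - 1) n)).Exact :=
        ShortComplex.exact_of_g_is_cokernel _ (E₂.homologyIsCokernel (n - 1) n (by simp))
      have : Epi p := hex.epi_kernelLift
      obtain ⟨w, hw⟩ := toCycles_exact E₂ (n - 1) n (by omega)
      have w' : E₂.iCycles (n - 1) ≫ p = 0 := by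
        rw [← cancel_mono (kernel.ι _), Category.assoc, kernel.lift_ι, w, zero_comp]
      let φ' : ShortComplex.mk _ _ w' ⟶ ShortComplex.mk _ _ w :=
        { τ₁ := 𝟙 _
          τ₂ := 𝟙 _
          τ₃ := kernel.ι (E₂.homologyπ n)
          comm₁₂ := (Category.id_comp _).trans (Category.comp_id _).symm
          comm₂₃ := (Category.id_comp _).trans (kernel.lift_ι _ _ _).symm }
      have : Epi φ'.τ₁ := inferInstanceAs (Epi (𝟙 _))
      have : IsIso φ'.τ₂ := inferInstanceAs (IsIso (𝟙 _))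
      have : Mono φ'.τ₃ := inferInstanceAs (Mono (kernel.ι _))
      exact isFinLocFree_kernel _ p w'
        { exact := (ShortComplex.exact_iff_of_epi_of_isIso_of_mono φ').2 hw }
        ((isStrictlyPerfect_res _ hE).2 (n - 1)) hB
    · intro i hi
      rcases eq_or_lt_of_le hi with rfl | hi'
      · exact M2.isFinLocFree_of_iso (e.symm ≪≫ (homResIso U.ι E₁ n).symm ≪≫
          (HomologicalComplex.homologyMapIso φ n).symm) (KFlat.Sch.isFinLocFree_freeMod _ r)
      · exact M2.isFinLocFree_of_iso ((homResIso U.ι E₁ i).symm ≪≫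
          (HomologicalComplex.homologyMapIso φ i).symm)
          (M2.isFinLocFree_restrict U.ι (hhom i (by omega)))

theorem exists_flf_nhd_of_ff {K : DCoh.D X} (hK : DCoh.IsPerfect K) {x : X}
    (h : ∀ i, FF (DCoh.HD K i) x) :
    ∃ (Z : Scheme.{u}) (j : Z ⟶ X) (_ : IsOpenImmersion j), x ∈ Set.range j ∧
      ∀ i, FlatMod.IsFinLocFree ((DCoh.HD K i).restrict j) := by
  obtain ⟨V, hxV, hV⟩ := (isPerfect_iff_approx.1 hK).exists_opens x
  obtain ⟨E, hE, α, hα⟩ := hV V le_rfl
  have := isIso_of_dcond_univ hα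
  obtain ⟨⟨a, b, hv⟩, -⟩ := id hE
  let η : ∀ i, E.homology i ≅ (DCoh.HD K i).restrict V.ι := fun i =>
    ((DerivedCategory.homologyFunctorFactors _ i).app E).symm ≪≫
      (DerivedCategory.homologyFunctor _ i).mapIso (asIso α) ≪≫ hdResIso V.ι K i
  obtain ⟨Z, j, hj, hz, -, hhom⟩ := exists_nhd_flf (b + 1 - a).toNat E hE ⟨x, hxV⟩
    (fun i => ((ff_restrict_iff V.ι _ _).2 (h i)).of_iso (η i).symm) (min a (b + 1)) b (by omega)
    (fun i hi => hv i (Or.inr hi))
  refine ⟨Z, j ≫ V.ι, inferInstance, range_comp_mem V.ι j rfl hz, fun i => ?_⟩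
  refine M2.isFinLocFree_of_iso ((homResIso j E i) ≪≫ (Scheme.Modules.restrictFunctor j).mapIso (η i) ≪≫
    M1.restrictRestrictIso _ V.ι j _ rfl) ?_
  by_cases hi : min a (b + 1) ≤ i
  · exact hhom i hi
  · refine KFlat.Sch.isFinLocFree_of_isZero ((HomologicalComplex.exactAt_iff_isZero_homology _ _).1 ?_)
    rw [HomologicalComplex.exactAt_iff]
    exact ShortComplex.exact_of_isZero_X₂ _
      ((Scheme.Modules.restrictFunctor j).map_isZero (hv i (Or.inl (by omega))))

theorem exists_locus {K : DCoh.D X} (hK : DCoh.IsPerfect K) :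
    ∃ U : X.Opens,
      (U : Set X) = {x : X | ∀ i : ℤ, FF (DCoh.HD K i) x} ∧
      (∀ i : ℤ, FlatMod.IsFinLocFree ((DCoh.HD K i).restrict U.ι)) ∧
      ∀ W : X.Opens, (∀ i : ℤ, FlatMod.IsFinLocFree ((DCoh.HD K i).restrict W.ι)) → W ≤ U := by
  have hopen : IsOpen {x : X | ∀ i : ℤ, FF (DCoh.HD K i) x} := by
    refine isOpen_iff_forall_mem_open.2 fun x hx => ?_
    obtain ⟨Z, j, hj, hxj, hflf⟩ := exists_flf_nhd_of_ff hK hx
    refine ⟨Set.range j, ?_, j.isOpenEmbedding.isOpen_range, hxj⟩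
    rintro _ ⟨z, rfl⟩ i
    exact (ff_restrict_iff j _ z).1 (ff_of_isFinLocFree (hflf i) z)
  refine ⟨⟨_, hopen⟩, rfl, fun i => isFinLocFree_of_locally fun u => ?_,
    fun W hW x hx i => (ff_restrict_iff W.ι _ ⟨x, hx⟩).1 (ff_of_isFinLocFree (hW i) ⟨x, hx⟩)⟩
  let U : X.Opens := ⟨_, hopen⟩
  obtain ⟨Z, j, hj, hxj, hflf⟩ := exists_flf_nhd_of_ff hK (x := U.ι u) u.2
  obtain ⟨W, k, hk, hxW, hkj⟩ := DPerf.exists_opens j hxj
  refine ⟨_, X.homOfLE (inf_le_right : W ⊓ U ≤ U), inferInstance,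
    ⟨⟨U.ι u, hxW, u.2⟩, Subtype.ext (by simp)⟩, ?_⟩
  exact M2.isFinLocFree_of_iso
    (M1.restrictRestrictIso _ j (X.homOfLE (inf_le_left : W ⊓ U ≤ W) ≫ k) (W ⊓ U).ι
        (by rw [Category.assoc, hkj, Scheme.homOfLE_ι]) ≪≫
      (M1.restrictRestrictIso _ U.ι (X.homOfLE (inf_le_right : W ⊓ U ≤ U)) (W ⊓ U).ι
        (Scheme.homOfLE_ι _ _)).symm)
    (M2.isFinLocFree_restrict _ (hflf i))

end Groth.Agent.DPerf
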