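import Groth.Agent.Lib.DPerf.Top
import Mathlib.Algebra.Homology.DerivedCategory.SingleTriangle
import Mathlib.Algebra.Homology.DerivedCategory.FullyFaithful

/-!
Pseudo-coherence of modules placed in degree zero.
-/

set_option autoImplicit false
set_option linter.unusedSectionVars false

universe u

open CategoryTheory CategoryTheory.Limits CategoryTheory.Pretriangulated AlgebraicGeometry

attribute [local instance] HasDerivedCategory.standard

namespace Groth.Agent.DPerf

variable {X : Scheme.{u}}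

theorem isZero_HD_inD (F : X.Modules) {i : ℤ} (hi : i ≠ 0) : IsZero (DCoh.HD (DCoh.inD X F) i) :=
  (KFlat.Sch.isZero_HD_toD_iff ((CochainComplex.singleFunctor X.Modules 0).obj F) i).2
    (by rw [HomologicalComplex.exactAt_iff]
        exact ShortComplex.exact_of_isZero_X₂ _ (HomologicalComplex.isZero_single_obj_X (ComplexShape.up ℤ) _ _ _ hi))

/-- `H^0` of a module in degree zero. -/
noncomputable def hdInDIso (F : X.Modules) : DCoh.HD (DCoh.inD X F) 0 ≅ F :=
  (DerivedCategory.singleFunctorCompHomologyFunctorIso X.Modules 0).app F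

theorem isStrictlyPerfect_single {P : X.Modules} (hP : FlatMod.IsFinLocFree P) :
    DCoh.IsStrictlyPerfect ((CochainComplex.singleFunctor X.Modules 0).obj P) := by
  refine ⟨⟨0, 0, fun i hi => HomologicalComplex.isZero_single_obj_X _ _ _ _ (by omega)⟩, fun i => ?_⟩
  by_cases h : i = 0
  · subst h
    exact M2.isFinLocFree_of_iso (HomologicalComplex.singleObjXSelf (ComplexShape.up ℤ) 0 P).symm hP
  · exact KFlat.Sch.isFinLocFree_of_isZero (HomologicalComplex.isZero_single_obj_X _ _ _ _ h)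

theorem approx_inD_of_isFinLocFree {P : X.Modules} (hP : FlatMod.IsFinLocFree P) :
    Approx Set.univ (DCoh.inD X P) := fun x =>
  ⟨X, 𝟙 X, inferInstance, ⟨x, rfl⟩, _, isStrictlyPerfect_res (𝟙 X) (isStrictlyPerfect_single hP),
    (resFac (𝟙 X)).inv.app _, @dcond_of_isIso _ _ _ _ _ _ _ _ ((resFac (𝟙 X)).app _).isIso_inv⟩

theorem approx_inD_of_epi {P G : X.Modules} (hP : FlatMod.IsFinLocFree P) (p : P ⟶ G) [Epi p] :
    Approx (Set.Ici 0) (DCoh.inD X G) := fun x => by
  refine ⟨X, 𝟙 X, inferInstance, ⟨x, rfl⟩, _, isStrictlyPerfect_res (𝟙 X) (isStrictlyPerfect_single hP),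
    (resFac (𝟙 X)).inv.app _ ≫ (resD (𝟙 X)).map ((DerivedCategory.singleFunctor X.Modules 0).map p),
    DCond.comp (dcond_of_isIso _) (dcond_map _ fun i hi => ⟨?_, ?_⟩)⟩
  · rcases eq_or_lt_of_le (show (0 : ℤ) ≤ i from hi) with rfl | h
    · exact ((MorphismProperty.epimorphisms _).arrow_mk_iso_iff
        (((Functor.mapArrowFunctor _ _).mapIso
          (DerivedCategory.singleFunctorCompHomologyFunctorIso X.Modules 0)).app (Arrow.mk p))).2 ‹Epi p›
    · exact ⟨fun _ _ _ => (isZero_HD_inD G (by omega : i ≠ 0)).eq_of_src _ _⟩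
  · exact ⟨fun _ _ _ => (isZero_HD_inD P (show i + 1 ≠ 0 by have : (0 : ℤ) ≤ i := hi; omega)).eq_of_tgt _ _⟩

theorem approx_inD_of_restrict {s : Set ℤ} {F : X.Modules}
    (h : ∀ x : X, ∃ U : X.Opens, x ∈ U ∧ Approx s (DCoh.inD (U : Scheme.{u}) (F.restrict U.ι))) :
    Approx s (DCoh.inD X F) :=
  Approx.of_locally fun x => by
    obtain ⟨U, hxU, hU⟩ := h x
    exact ⟨U, hxU, hU.of_iso
      (((Scheme.Modules.restrictFunctor U.ι).mapDerivedCategorySingleFunctor 0).app F).symm⟩

theorem approx_inD_of_isFT {F : X.Modules} (hF : CohB1.IsFT F) : Approx (Set.Ici 0) (DCoh.inD X F) := by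
  refine approx_inD_of_restrict fun x => ?_
  obtain ⟨U, hxU, σ, hσ⟩ := (M1.isFT_iff_generators F).1 hF x
  obtain ⟨e⟩ := M1.nonempty_fr_freeMod (U : Scheme.{u}) σ.I
  have : Epi σ.π := σ.epi
  exact ⟨U, hxU, @approx_inD_of_epi _ _ _ (KFlat.Sch.isFinLocFree_freeMod _ (Nat.card σ.I))
    (e.inv ≫ σ.π) (@epi_comp _ _ _ _ _ _ inferInstance _ this)⟩

theorem approx_inD_of_isFP {F : X.Modules} (hF : CohB1.IsFP F) : Approx (Set.Ici (-1)) (DCoh.inD X F) := by
  refine approx_inD_of_restrict fun x => ?_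
  obtain ⟨U, hxU, P, hP⟩ := (M1.isFP_iff_presentation F).1 hF x
  have := hP.1
  obtain ⟨e⟩ := M1.nonempty_fr_freeMod (U : Scheme.{u}) P.generators.I
  let p : FlatMod.freeMod (U : Scheme.{u}) (Nat.card P.generators.I) ⟶ F.restrict U.ι :=
    e.inv ≫ P.generators.π
  have : Epi p := @epi_comp _ _ _ _ _ _ inferInstance _ P.generators.epi
  have hfree := KFlat.Sch.isFinLocFree_freeMod (U : Scheme.{u}) (Nat.card P.generators.I)
  have hS : (ShortComplex.mk (kernel.ι p) p (kernel.condition p)).ShortExact :=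
    { exact := ShortComplex.exact_kernel p }
  have hK : CohB1.IsFT (kernel p) :=
    M1.isFT_kernel (M1.isFP_isFT (M1.isFP_of_isFinLocFree hfree)) (M1.isFP_restrict hF U.ι) p
  exact ⟨U, hxU, approx_Ici₃ (-1) _ hS.singleTriangle_distinguished (approx_inD_of_isFT hK)
    ((approx_inD_of_isFinLocFree hfree).mono_set (Set.subset_univ _))⟩

end Groth.Agent.DPerf
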