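import Groth.Agent.Lib.DPerf.BettiSC
import Groth.Agent.Lib.DPerf.LocalFibre
import Groth.Agent.Lib.DPerf.Locus
import Groth.Agent.Lib.DPerf.Single
import Mathlib.Algebra.Category.ModuleCat.Descent

/-!
Perfect objects with fibre cohomology in one degree are shifted locally free modules.
-/

set_option autoImplicit false
set_option linter.unusedSectionVars false
set_option backward.isDefEq.respectTransparency false

universe u

open CategoryTheory CategoryTheory.Limits AlgebraicGeometry Opposite
open scoped TensorProduct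

attribute [local instance] HasDerivedCategory.standard

namespace Groth.Agent.DPerf

open RankSC

variable {X Y : Scheme.{u}}

/-! ### Fibre dimensions depend only on the point -/

theorem rk_congr_ker {R : CommRingCat.{u}} {P : DRing.Cx R} (hF : DRing.TermwiseFiniteFree P)
    {K K' : Type u} [Field K] [Field K'] (ψ : R →+* K) (ψ' : R →+* K') (z : PrimeSpectrum R)
    (h : z.asIdeal = RingHom.ker ψ) (h' : z.asIdeal = RingHom.ker ψ') (i j : ℤ) :
    rk P ψ i j = rk P ψ' i j := by
  have := (hF i).1; have := (hF i).2; have := (hF j).1; have := (hF j).2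
  obtain ⟨U, -, hU⟩ := exists_open_rk P i j (rk P ψ i j)
  obtain ⟨U', -, hU'⟩ := exists_open_rk P i j (rk P ψ' i j)
  exact le_antisymm ((hU K' ψ' z h').1 ((hU K ψ z h).2 le_rfl))
    ((hU' K ψ z h).1 ((hU' K' ψ' z h').2 le_rfl))

theorem finrank_homology_congr_ker {R : CommRingCat.{u}} [Nontrivial R] {P : DRing.Cx R}
    (hF : DRing.TermwiseFiniteFree P) {K K' : Type u} [Field K] [Field K'] (ψ : R →+* K) (ψ' : R →+* K')
    (z : PrimeSpectrum R) (h : z.asIdeal = RingHom.ker ψ) (h' : z.asIdeal = RingHom.ker ψ') (l : ℤ) :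
    Module.finrank K (((extCx ψ).obj P).homology l) = Module.finrank K' (((extCx ψ').obj P).homology l) := by
  have := (hF l).1; have := (hF l).2
  have h1 := finrank_homology_ext P ψ l
  have h2 := finrank_homology_ext P ψ' l
  rw [rk_congr_ker hF ψ ψ' z h h' l (l + 1), rk_congr_ker hF ψ ψ' z h h' (l - 1) l] at h1
  omega

/-- A field point of a chart, lifted. -/
theorem exists_chart_lift {R : CommRingCat.{u}} (j : Spec R ⟶ X) [IsOpenImmersion j] (z : Spec R)
    {K : CommRingCat.{u}} (hK : IsField K) (g : Spec K ⟶ X) (hg : ∀ p, g p = j z) :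
    ∃ φ : Spec K ⟶ Spec R, φ ≫ j = g ∧ z.asIdeal = RingHom.ker (Spec.preimage φ).hom := by
  letI := hK.toField
  have hr : Set.range g ⊆ Set.range j := by
    rintro _ ⟨p, rfl⟩
    exact ⟨z, (hg p).symm⟩
  refine ⟨IsOpenImmersion.lift j g hr, IsOpenImmersion.lift_fac _ _ _, ?_⟩
  set φ := IsOpenImmersion.lift j g hr with hφ
  let pt : Spec K := ⟨⊥, Ideal.isPrime_bot⟩
  have hpt : φ pt = z := by
    apply j.isOpenEmbedding.injective
    rw [← Scheme.Hom.comp_apply, hφ, IsOpenImmersion.lift_fac, hg]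
  have h2 : (Spec.map (Spec.preimage φ)) pt = z := by rw [Spec.map_preimage]; exact hpt
  exact congrArg PrimeSpectrum.asIdeal h2.symm

/-- A chart on which a perfect object is a finite free complex. -/
theorem exists_perfect_chart {E : DCoh.D X} (hE : DCoh.IsPerfect E) (x : X) :
    ∃ (R : CommRingCat.{u}) (j : Spec R ⟶ X) (_ : IsOpenImmersion j) (P : DRing.Cx R) (a b : ℤ)
      (_ : Nontrivial R),
      x ∈ Set.range j ∧ DRing.VanishesOutside P a b ∧ DRing.TermwiseFiniteFree P ∧
        ∃ α : DCoh.toD (Spec R) ((tildeX R).obj P) ⟶ (resD j).obj E, DCond Set.univ α := by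
  obtain ⟨R, j, hj, P, a, b, hx, h⟩ := exists_free_chart (isPerfect_iff_approx.1 hE) x
  obtain ⟨z₀, -⟩ := id hx
  exact ⟨R, j, hj, P, a, b, PrimeSpectrum.nontrivial z₀, hx, h⟩

/-- Fibre dimensions of a derived pullback. -/
theorem betti_lpull {E : DCoh.D X} (hE : DCoh.IsPerfect E) (f : Y ⟶ X) [DCoh.HasLpull f] (y : Y)
    [DCoh.HasLpull (Y.fromSpecResidueField y)] [DCoh.HasLpull (X.fromSpecResidueField (f y))] (l : ℤ) :
    PerfD.betti ((DCoh.Lpull f).obj E) y l = PerfD.betti E (f y) l := by
  obtain ⟨R, j, hj, P, a, b, _, ⟨z, hz⟩, hP, hF, α, hα⟩ := exists_perfect_chart hE (f y)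
  let g := Y.fromSpecResidueField y ≫ f
  have := KFlat.Sch.hasLpull g
  obtain ⟨φ, hφ, hker⟩ := exists_chart_lift j z (Field.toIsField (Y.residueField y)) g (fun p => by
    rw [hz]
    change (Y.fromSpecResidueField y ≫ f) p = f y
    rw [Scheme.Hom.comp_apply, Scheme.fromSpecResidueField_apply])
  obtain ⟨φ', hφ', hker'⟩ := exists_chart_lift j z (Field.toIsField (X.residueField (f y)))
    (X.fromSpecResidueField (f y)) (fun p => by rw [hz, Scheme.fromSpecResidueField_apply])
  have h1 : Module.finrank (Coh.Γtop (Spec (Y.residueField y)))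
      ((DCoh.HD ((DCoh.Lpull (Y.fromSpecResidueField y)).obj ((DCoh.Lpull f).obj E)) l).val.obj (op ⊤)) =
      Module.finrank (Coh.Γtop (Spec (Y.residueField y)))
      ((DCoh.HD ((DCoh.Lpull g).obj E) l).val.obj (op ⊤)) :=
    ((SheafOfModules.evaluation _ (op ⊤)).mapIso ((DerivedCategory.homologyFunctor _ l).mapIso
      ((KFlat.Sch.lpullCompIso (Y.fromSpecResidueField y) f).app E))).toLinearEquiv.finrank_eq
  rw [PerfD.betti, h1, finrank_lpull_eq g j P hP hF α hα φ hφ l (l - 1) (Set.subset_univ _) (by omega),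
    betti_eq (f y) j P hP hF α hα φ' hφ' l (l - 1) (Set.subset_univ _) (by omega)]
  exact finrank_homology_congr_ker hF _ _ z hker hker' l

/-- The fibre cohomology of `E` at `x` is `r`-dimensional in degree `i` and zero otherwise. -/
def Profile (E : DCoh.D X) (i : ℤ) (r : ℕ) (x : X) [DCoh.HasLpull (X.fromSpecResidueField x)] : Prop :=
  ∀ l : ℤ, PerfD.betti E x l = if l = i then r else 0

theorem isOpen_profile [∀ x : X, DCoh.HasLpull (X.fromSpecResidueField x)] {E : DCoh.D X}
    (hE : DCoh.IsPerfect E) (i : ℤ) (r : ℕ) : IsOpen {x : X | Profile E i r x} := by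
  refine isOpen_iff_forall_mem_open.2 fun x hx => ?_
  obtain ⟨R, j, hj, P, a, b, _, hxj, hP, hF, α, hα⟩ := exists_perfect_chart hE x
  obtain ⟨z₀, rfl⟩ := hxj
  have := fun l => (hF l).1
  have := fun l => (hF l).2
  choose U hU h using fun l k => exists_open_rk P l (l + 1) k
  obtain ⟨φ₀, hφ₀, hker₀⟩ := exists_chart_lift j z₀ (Field.toIsField (X.residueField (j z₀)))
    (X.fromSpecResidueField (j z₀)) (fun p => Scheme.fromSpecResidueField_apply _ _)
  let r₀ : ℤ → ℕ := fun l => rk P (Spec.preimage φ₀).hom l (l + 1)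
  let W : Set (Spec R) := ⋂ l ∈ Finset.Icc (a - 1) b, U l (r₀ l)
  have hW : IsOpen W := isOpen_biInter_finset fun l _ => hU l _
  refine ⟨j '' W, ?_, j.isOpenEmbedding.isOpenMap _ hW, z₀, Set.mem_iInter₂.2 fun l _ =>
    (h l _ _ _ z₀ hker₀).2 le_rfl, rfl⟩
  rintro _ ⟨z, hz, rfl⟩ l
  obtain ⟨φ, hφ, hker⟩ := exists_chart_lift j z (Field.toIsField (X.residueField (j z)))
    (X.fromSpecResidueField (j z)) (fun p => Scheme.fromSpecResidueField_apply _ _)
  let r₁ : ℤ → ℕ := fun l => rk P (Spec.preimage φ).hom l (l + 1)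
  have hb : ∀ l, PerfD.betti E (j z) l + r₁ l + r₁ (l - 1) = Module.finrank R (P.X l) := fun l => by
    simp only [r₁, sub_add_cancel]
    rw [betti_eq (j z) j P hP hF α hα φ hφ l (l - 1) (Set.subset_univ _) (by omega)]
    exact finrank_homology_ext P _ l
  have hb₀ : ∀ l, PerfD.betti E (j z₀) l + r₀ l + r₀ (l - 1) = Module.finrank R (P.X l) := fun l => by
    simp only [r₀, sub_add_cancel]
    rw [betti_eq (j z₀) j P hP hF α hα φ₀ hφ₀ l (l - 1) (Set.subset_univ _) (by omega)]
    exact finrank_homology_ext P _ l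
  have hge : ∀ l, r₀ l ≤ r₁ l := fun l => by
    by_cases hl : l ∈ Finset.Icc (a - 1) b
    · exact (h l _ _ _ z hker).1 (Set.mem_iInter₂.1 hz l hl)
    · have : Subsingleton (P.X l) :=
        ModuleCat.subsingleton_of_isZero (hP l (by simp only [Finset.mem_Icc] at hl; omega))
      have h0 : Module.finrank R (P.X l) = 0 := Module.finrank_zero_of_subsingleton
      have := hb₀ l
      omega
  have hA : ∀ m, m ≠ i → PerfD.betti E (j z) m = 0 ∧ r₁ m = r₀ m ∧ r₁ (m - 1) = r₀ (m - 1) := by
    intro m hm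
    have h1 := hx m
    rw [if_neg hm] at h1
    have := hb₀ m
    have := hb m
    have := hge m
    have := hge (m - 1)
    omega
  by_cases hl : l = i
  · subst hl
    rw [if_pos rfl]
    have h1 := hx l
    rw [if_pos rfl] at h1
    have e1 := (hA (l + 1) (by omega)).2.2
    rw [add_sub_cancel_right] at e1
    have e2 := (hA (l - 1) (by omega)).2.1
    have := hb₀ l
    have := hb l
    omega
  · rw [if_neg hl]
    exact (hA l hl).1

/-! ### One-degree fibre cohomology -/

theorem isZero_of_stalks {M : X.Modules}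
    (h : ∀ x : X, Subsingleton (M.presheaf.stalk x)) : IsZero M := by
  have hm : Mono (0 : M ⟶ M) := (M1.mono_iff_stalk _).2 fun x =>
    fun v w _ => @Subsingleton.elim _ (h x) v w
  rw [IsZero.iff_id_eq_zero, ← cancel_mono (0 : M ⟶ M)]
  simp

theorem fibreExact_of {A : Type u} [CommRing A] [IsLocalRing A] (Q : DRing.Cx A) (l : ℤ)
    (h : Subsingleton (((extCx (IsLocalRing.residue A)).obj Q).homology l)) :
    LocalFibre.FibreExact Q l := by
  have hiff := (DMod.subsingleton_homology_iff ((extCx (IsLocalRing.residue A)).obj Q)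
    (i := l - 1) (k := l + 1) (by simp) (by simp)).1 h
  intro w
  constructor
  · intro hw
    obtain ⟨y, hy⟩ := hiff ((FlatCxLib.extEquiv (IsLocalRing.ResidueField A) (Q.X l)).symm w) (by
      apply (FlatCxLib.extEquiv (IsLocalRing.ResidueField A) (Q.X (l + 1))).injective
      refine (FlatCxLib.extEquiv_map _ (Q.d l (l + 1)) _).trans ?_
      rw [LinearEquiv.apply_symm_apply, LinearMap.baseChange_eq_ltensor, hw]
      exact (map_zero _).symm)
    refine ⟨FlatCxLib.extEquiv _ (Q.X (l - 1)) y, ?_⟩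
    have hm := FlatCxLib.extEquiv_map (IsLocalRing.ResidueField A) (Q.d (l - 1) l) y
    rw [LinearMap.baseChange_eq_ltensor] at hm
    exact hm.symm.trans ((congrArg _ hy).trans (LinearEquiv.apply_symm_apply _ _))
  · rintro ⟨v, rfl⟩
    rw [← LinearMap.comp_apply, ← LinearMap.lTensor_comp, ← ModuleCat.hom_comp, Q.d_comp_d,
      ModuleCat.hom_zero, LinearMap.lTensor_zero, LinearMap.zero_apply]

/-- Stalks of the cohomology of a perfect object with one-degree fibre cohomology. -/
theorem ff_of_profile {E : DCoh.D X} (hE : DCoh.IsPerfect E) (x : X)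
    [DCoh.HasLpull (X.fromSpecResidueField x)] (i : ℤ) (r : ℕ) (h : Profile E i r x) :
    (∀ l, l ≠ i → Subsingleton ((DCoh.HD E l).presheaf.stalk x)) ∧ ∀ l, FF (DCoh.HD E l) x := by
  obtain ⟨R, j, hj, P, a, b, _, hxj, hP, hF, α, hα⟩ := exists_perfect_chart hE x
  obtain ⟨z, rfl⟩ := hxj
  obtain ⟨φ, hφ, hker⟩ := exists_chart_lift j z (Field.toIsField (X.residueField (j z)))
    (X.fromSpecResidueField (j z)) (fun p => Scheme.fromSpecResidueField_apply _ _)
  let A := ((Spec R).presheaf.stalk z : Type u)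
  letI : Algebra R A := (StructureSheaf.toStalk R z).hom.toAlgebra
  haveI : IsLocalization.AtPrime A z.asIdeal := by
    exact (inferInstance : IsLocalization.AtPrime ((Spec.structureSheaf R).presheaf.stalk z) z.asIdeal)
  let β := IsLocalRing.residue A
  let ψ : R →+* IsLocalRing.ResidueField A := β.comp (algebraMap R A)
  have hψ : z.asIdeal = RingHom.ker ψ := by
    rw [← IsLocalization.AtPrime.under_maximalIdeal A z.asIdeal, ← RingHom.comap_ker,
      IsLocalRing.ker_residue]
  let Q := (extCx (algebraMap R A)).obj P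
  have hQv : DRing.VanishesOutside Q a b := fun l hl => (ModuleCat.extendScalars _).map_isZero (hP l hl)
  have hQf : ∀ l, Module.Free A (Q.X l) := fun l => by
    have := (hF l).2
    exact Module.Free.of_equiv (FlatCxLib.extEquiv A (P.X l)).symm
  have hQfin : ∀ l, Module.Finite A (Q.X l) := fun l => by
    have := (hF l).1
    exact Module.Finite.equiv (FlatCxLib.extEquiv A (P.X l)).symm
  let eQ : (extCx ψ).obj P ≅ (extCx β).obj Q :=
    HomologicalComplex.Hom.isoOfComponents
      (fun l => (ModuleCat.extendScalarsComp (algebraMap R A) β).app (P.X l))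
      (fun l m _ => ((ModuleCat.extendScalarsComp (algebraMap R A) β).hom.naturality (P.d l m)).symm)
  have hex : ∀ l, l ≠ i → LocalFibre.FibreExact Q l := fun l hl => by
    refine fibreExact_of Q l ?_
    have hb := betti_eq (j z) j P hP hF α hα φ hφ l (l - 1) (Set.subset_univ _) (by omega)
    rw [h l, if_neg hl, finrank_homology_congr_ker hF _ ψ z hker hψ l] at hb
    have hfd : FiniteDimensional (IsLocalRing.ResidueField A) (((extCx ψ).obj P).homology l) := by
      have := (hF l).1
      have h1 : FiniteDimensional (IsLocalRing.ResidueField A) (((extCx ψ).obj P).cycles l) :=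
        have := finite_ext_X P ψ l
        Module.Finite.of_injective (((extCx ψ).obj P).iCycles l).hom (DMod.iCycles_injective _ l)
      exact Module.Finite.of_surjective (((extCx ψ).obj P).homologyπ l).hom (DMod.homologyπ_surjective _ l)
    have hs : Subsingleton (((extCx ψ).obj P).homology l) := Module.finrank_zero_iff.1 hb.symm
    exact (HomologicalComplex.homologyMapIso eQ l).toLinearEquiv.symm.toEquiv.subsingleton
  obtain ⟨hs, hfree, hfin⟩ := LocalFibre.homology_free Q hQf hQfin hQv i hex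
  have hall : ∀ l, Module.Free A (Q.homology l) ∧ Module.Finite A (Q.homology l) := fun l => by
    by_cases hl : l = i
    · subst hl; exact ⟨hfree, hfin⟩
    · have := hs l hl; exact ⟨Module.Free.of_subsingleton A _, inferInstance⟩
  have := ModuleCat.preservesFiniteLimits_extendScalars_of_flat.{u}
    (f := algebraMap R A) (RingHom.flat_algebraMap_iff.2 (IsLocalization.flat A z.asIdeal.primeCompl))
  have := isIso_of_dcond_univ hα
  -- identify the stalks
  have key : ∀ l, ∃ e : Q.homology l ≃ₗ[A] ((DCoh.HD E l).restrict j).presheaf.stalk z, True := fun l => by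
    let H := P.homology l
    haveI : IsScalarTower R A ((tilde H).presheaf.stalk z) :=
      ⟨fun r a w => by rw [Algebra.smul_def, mul_smul]; rfl⟩
    haveI : IsLocalizedModule z.asIdeal.primeCompl (tilde.toStalk H z).hom :=
      inferInstanceAs (IsLocalizedModule z.asIdeal.primeCompl (StructureSheaf.toStalkₗ ..))
    let e₁ : Q.homology l ≃ₗ[A] (tilde H).presheaf.stalk z :=
      (((P.sc l).mapHomologyIso (ModuleCat.extendScalars (algebraMap R A))).toLinearEquiv.trans
        (FlatCxLib.extEquiv A H)).trans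
          (IsLocalizedModule.isBaseChange z.asIdeal.primeCompl A (tilde.toStalk H z).hom).equiv
    let hT : ((tildeX R).obj P).homology l ≅ (tilde.functor R).obj H :=
      (P.sc l).mapHomologyIso (tilde.functor R)
    let hQ : DCoh.HD (DCoh.toD (Spec R) ((tildeX R).obj P)) l ≅ ((tildeX R).obj P).homology l :=
      (DerivedCategory.homologyFunctorFactors _ l).app _
    let e₂ : (tilde.functor R).obj H ≅ (DCoh.HD E l).restrict j :=
      hT.symm ≪≫ hQ.symm ≪≫
        (DerivedCategory.homologyFunctor _ l).mapIso (asIso α) ≪≫ hdResIso j E l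
    exact ⟨e₁.trans ((KFlat.Sch.stF z).mapIso e₂).toLinearEquiv, trivial⟩
  refine ⟨fun l hl => ?_, fun l => ?_⟩
  · obtain ⟨e, -⟩ := key l
    have := hs l hl
    have : Subsingleton (((DCoh.HD E l).restrict j).presheaf.stalk z) := e.symm.toEquiv.subsingleton
    have : Subsingleton ((KFlat.Sch.stF z).obj ((Scheme.Modules.restrictFunctor j).obj (DCoh.HD E l))) := this
    have : Subsingleton ((((Scheme.Modules.pullback j).obj (DCoh.HD E l))).presheaf.stalk z) :=
      ((KFlat.Sch.stF z).mapIso ((Scheme.Modules.restrictFunctorIsoPullback j).app _).symm).toLinearEquiv.toEquiv.subsingleton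
    let e' := M2.pullStalkEquiv j z (DCoh.HD E l)
    letI : Algebra (X.presheaf.stalk (j z)) A := (j.stalkMap z).hom.toAlgebra
    let eA : X.presheaf.stalk (j z) ≃ₗ[X.presheaf.stalk (j z)] A :=
      LinearEquiv.ofBijective (Algebra.linearMap _ _) (ConcreteCategory.bijective_of_isIso (j.stalkMap z))
    let e'' : (A ⊗[X.presheaf.stalk (j z)] ((DCoh.HD E l).presheaf.stalk (j z))) ≃ₗ[X.presheaf.stalk (j z)]
        (DCoh.HD E l).presheaf.stalk (j z) :=
      (TensorProduct.congr eA.symm (LinearEquiv.refl _ _)).trans (TensorProduct.lid _ _)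
    have : Subsingleton (A ⊗[X.presheaf.stalk (j z)] ((DCoh.HD E l).presheaf.stalk (j z))) :=
      e'.toEquiv.subsingleton
    exact e''.symm.toEquiv.subsingleton
  · obtain ⟨e, -⟩ := key l
    obtain ⟨h1, h2⟩ := hall l
    exact (ff_restrict_iff j _ z).1 ⟨Module.Free.of_equiv e, Module.Finite.equiv e⟩

/-- Fibre dimensions of a shifted locally free module. -/
theorem profile_of_iso {E : DCoh.D X} (V : X.Modules) (r : ℕ) (hV : FlatMod.IsFinLocFreeOfRank r V)
    (i : ℤ) (e : E ≅ (DerivedCategory.singleFunctor X.Modules i).obj V) (x : X)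
    [DCoh.HasLpull (X.fromSpecResidueField x)] : Profile E i r x := by
  intro l
  obtain ⟨U, hxU, ⟨eU⟩⟩ := hV x
  obtain ⟨⟨z, hz⟩⟩ : Nonempty {z // (U : Scheme.{u}).affineOpenCover.f
      ((U : Scheme.{u}).affineOpenCover.idx ⟨x, hxU⟩) z = ⟨x, hxU⟩} :=
    let ⟨z, hz⟩ := (U : Scheme.{u}).affineOpenCover.covers ⟨x, hxU⟩
    ⟨⟨z, hz⟩⟩
  let R := (U : Scheme.{u}).affineOpenCover.X ((U : Scheme.{u}).affineOpenCover.idx ⟨x, hxU⟩)
  let k : Spec R ⟶ (U : Scheme.{u}) :=
    (U : Scheme.{u}).affineOpenCover.f ((U : Scheme.{u}).affineOpenCover.idx ⟨x, hxU⟩)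
  let j : Spec R ⟶ X := k ≫ U.ι
  have hjz : j z = x := by
    change (k ≫ U.ι) z = x
    rw [Scheme.Hom.comp_apply]
    exact congrArg U.ι hz
  have : Nontrivial R := PrimeSpectrum.nontrivial z
  let N : ModuleCat.{u} R := ModuleCat.of R (ULift.{u} (Fin r) →₀ R)
  let P : DRing.Cx R := (HomologicalComplex.single (ModuleCat.{u} R) (ComplexShape.up ℤ) i).obj N
  have hP : DRing.VanishesOutside P i i := fun m hm =>
    HomologicalComplex.isZero_single_obj_X _ _ _ _ (by omega)
  have hF : DRing.TermwiseFiniteFree P := fun m => by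
    by_cases hm : m = i
    · subst hm
      exact DMod.modClass_finiteFree.equiv
        (HomologicalComplex.singleObjXSelf (ComplexShape.up ℤ) m N).toLinearEquiv.symm
        ⟨inferInstanceAs (Module.Finite R (ULift.{u} (Fin r) →₀ R)),
          inferInstanceAs (Module.Free R (ULift.{u} (Fin r) →₀ R))⟩
    · have := ModuleCat.subsingleton_of_isZero (hP m (by omega))
      exact DMod.modClass_finiteFree.subsingleton _
  let eN : (tilde.functor R).obj N ≅ (Scheme.Modules.restrictFunctor j).obj V :=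
    M1.frTildeIso _ ≪≫ (M1.freeModFrIso _ r).symm ≪≫ (M2.freeModRestrictIso k r).symm ≪≫
      (Scheme.Modules.restrictFunctor k).mapIso eU.symm ≪≫
        (Scheme.Modules.restrictFunctorComp k U.ι).symm.app V
  let α : DCoh.toD (Spec R) ((tildeX R).obj P) ≅ (resD j).obj E :=
    DerivedCategory.Q.mapIso ((HomologicalComplex.singleMapHomologicalComplex (tilde.functor R)
        (ComplexShape.up ℤ) i).app N ≪≫ (HomologicalComplex.single _ _ i).mapIso eN) ≪≫
      ((DerivedCategory.singleFunctorIsoCompQ (Spec R).Modules i).app _).symm ≪≫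
      (((Scheme.Modules.restrictFunctor j).mapDerivedCategorySingleFunctor i).app V).symm ≪≫
      (resD j).mapIso e.symm
  obtain ⟨φ, hφ, -⟩ := exists_chart_lift j z (Field.toIsField (X.residueField x))
    (X.fromSpecResidueField x) (fun p => by rw [hjz, Scheme.fromSpecResidueField_apply])
  rw [betti_eq x j P hP hF α.hom (s := Set.univ) (dcond_of_isIso _) φ hφ l (l - 1)
    (Set.subset_univ _) (by omega)]
  have := (hF l).1
  have := (hF l).2
  have hfr := finrank_homology_ext P (Spec.preimage φ).hom l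
  have hrk : ∀ p q, rk P (Spec.preimage φ).hom p q = 0 := fun p q => by
    have : ((extCx (Spec.preimage φ).hom).obj P).d p q = 0 := by
      change (ModuleCat.extendScalars _).map (P.d p q) = 0
      rw [HomologicalComplex.single_obj_d, Functor.map_zero]
    rw [rk, this, ModuleCat.hom_zero, LinearMap.range_zero, finrank_bot]
  rw [hrk, hrk, add_zero, add_zero] at hfr
  rw [hfr]
  split_ifs with hl
  · subst hl
    rw [(HomologicalComplex.singleObjXSelf (ComplexShape.up ℤ) l N).toLinearEquiv.finrank_eq]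
    exact (Module.finrank_finsupp_self _).trans (by simp)
  · have := ModuleCat.subsingleton_of_isZero (hP l (by omega))
    exact Module.finrank_zero_of_subsingleton

/-- One-degree fibre cohomology of rank `r` means shifted locally free of rank `r`. -/
theorem exists_iso_of_profile [∀ x : X, DCoh.HasLpull (X.fromSpecResidueField x)] {E : DCoh.D X}
    (hE : DCoh.IsPerfect E) (i : ℤ) (r : ℕ) (h : ∀ x, Profile E i r x) :
    ∃ V : X.Modules, FlatMod.IsFinLocFreeOfRank r V ∧
      Nonempty (E ≅ (DerivedCategory.singleFunctor X.Modules i).obj V) := by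
  have hz : ∀ l, l ≠ i → IsZero (DCoh.HD E l) := fun l hl =>
    isZero_of_stalks fun x => (ff_of_profile hE x i r (h x)).1 l hl
  have : E.IsLE i := (DerivedCategory.isLE_iff E i).2 fun l hl => hz l (by omega)
  have : E.IsGE i := (DerivedCategory.isGE_iff E i).2 fun l hl => hz l (by omega)
  obtain ⟨V, ⟨e⟩⟩ := DerivedCategory.exists_iso_singleFunctor_obj_of_isGE_of_isLE E i
  refine ⟨V, fun x => ?_, ⟨e⟩⟩
  let eV : DCoh.HD E i ≅ V := (DerivedCategory.homologyFunctor _ i).mapIso e ≪≫
    (DerivedCategory.singleFunctorCompHomologyFunctorIso X.Modules i).app V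
  obtain ⟨Z, k, hk, hxk, hflf⟩ := exists_flf_nhd_of_ff hE (x := x) (ff_of_profile hE x i r (h x)).2
  obtain ⟨z, rfl⟩ := hxk
  obtain ⟨U, n, hzU, ⟨eU⟩⟩ := hflf i z
  obtain ⟨W, k', hk', hxW, hkk⟩ := DPerf.exists_opens (U.ι ≫ k) (x := k z)
    ⟨⟨z, hzU⟩, by rw [Scheme.Hom.comp_apply]; rfl⟩
  let eW : V.restrict W.ι ≅ FlatMod.freeMod (W : Scheme.{u}) n :=
    (Scheme.Modules.restrictFunctor W.ι).mapIso eV.symm ≪≫
      (M1.restrictRestrictIso (DCoh.HD E i) k (k' ≫ U.ι) W.ι (by rw [Category.assoc, hkk])).symm ≪≫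
      (M1.restrictRestrictIso ((DCoh.HD E i).restrict k) U.ι k' (k' ≫ U.ι) rfl).symm ≪≫
      (Scheme.Modules.restrictFunctor k').mapIso eU ≪≫ M2.freeModRestrictIso k' n
  suffices hn : n = r by subst hn; exact ⟨W, hxW, ⟨eW⟩⟩
  have := KFlat.Sch.hasLpull W.ι
  have := KFlat.Sch.hasLpull ((W : Scheme.{u}).fromSpecResidueField ⟨k z, hxW⟩)
  obtain ⟨ej⟩ := nonempty_lpull_iso_resD W.ι E
  have h1 := profile_of_iso (V.restrict W.ι) n (fun w => ⟨⊤, trivial,
      ⟨(Scheme.Modules.restrictFunctor _).mapIso eW ≪≫ M2.freeModRestrictIso _ n⟩⟩) i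
    ((DCoh.Lpull W.ι).mapIso e ≪≫ ((nonempty_lpull_iso_resD W.ι _).some) ≪≫
      ((Scheme.Modules.restrictFunctor W.ι).mapDerivedCategorySingleFunctor i).app V) ⟨k z, hxW⟩ i
  rw [betti_lpull hE W.ι ⟨k z, hxW⟩ i, if_pos rfl] at h1
  have h2 := h (k z) i
  rw [if_pos rfl] at h2
  exact h1.symm.trans h2

end Groth.Agent.DPerf
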