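import Groth.Agent.Lib.DPerf.Perm
import Groth.Agent.Lib.ModM1.Coh
import Groth.Agent.Lib.KFlat.FlatSeq
import Mathlib.Algebra.Homology.ShortComplex.PreservesHomology

/-!
Cohomology sheaves of pseudo-coherent objects; cycles of bounded complexes.
-/

set_option autoImplicit false
set_option linter.unusedSectionVars false

universe v u

open CategoryTheory CategoryTheory.Limits CategoryTheory.Pretriangulated AlgebraicGeometry

attribute [local instance] HasDerivedCategory.standard

namespace Groth.Agent.DPerf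

section Cycles

variable {C : Type u} [Category.{v} C] [Abelian C]

theorem toCycles_exact (K : CochainComplex C ℤ) (i j : ℤ) (hij : i + 1 = j) :
    ∃ w : K.iCycles i ≫ K.toCycles i j = 0, (ShortComplex.mk (K.iCycles i) (K.toCycles i j) w).Exact := by
  have w : K.iCycles i ≫ K.toCycles i j = 0 := by
    rw [← cancel_mono (K.iCycles j), Category.assoc, HomologicalComplex.toCycles_i,
      HomologicalComplex.iCycles_d, zero_comp]
  exact ⟨w, ShortComplex.exact_of_f_is_kernel _ (KernelFork.IsLimit.ofι' _ w fun g hg =>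
    ⟨K.liftCycles g j (by simp [hij]) (by rw [← K.toCycles_i i j, reassoc_of% hg, zero_comp]),
      HomologicalComplex.liftCycles_i _ _ _ _ _⟩)⟩

theorem epi_toCycles (K : CochainComplex C ℤ) (i j : ℤ) (hij : i + 1 = j) (h : K.ExactAt j) :
    Epi (K.toCycles i j) := by
  subst hij
  refine Preadditive.epi_of_cancel_zero _ fun g hg => ?_
  obtain ⟨l, hl⟩ := CokernelCofork.IsColimit.desc' (K.homologyIsCokernel i (i + 1) (by simp)) g hg
  rw [← hl, h.isZero_homology.eq_of_src l 0, comp_zero]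

/-- A property of the terms passes to the cycles of a bounded above complex exact in degrees `> n`. -/
theorem cycles_prop (P : C → Prop) (hzero : ∀ {A : C}, IsZero A → P A)
    (hker : ∀ {A B D : C} (i : A ⟶ B) (p : B ⟶ D) (w : i ≫ p = 0),
      (ShortComplex.mk i p w).ShortExact → P B → P D → P A)
    (K : CochainComplex C ℤ) (b : ℤ) (hb : ∀ i, b < i → IsZero (K.X i)) (hP : ∀ i, P (K.X i)) :
    ∀ (k : ℕ) (n : ℤ), b + 1 ≤ n + k → (∀ i, n < i → K.ExactAt i) → P (K.cycles n)
  | 0, n, hn, _ => hzero (IsZero.of_mono (K.iCycles n) (hb n (by omega)))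
  | k + 1, n, hn, hex => by
      have h1 := cycles_prop P hzero hker K b hb hP k (n + 1) (by push_cast at hn ⊢; omega)
        fun i hi => hex i (by omega)
      obtain ⟨w, hw⟩ := toCycles_exact K n (n + 1) rfl
      have := epi_toCycles K n (n + 1) rfl (hex (n + 1) (by omega))
      exact hker _ _ w { exact := hw } (hP n) h1

end Cycles

variable {X : Scheme.{u}}

theorem isFinLocFree_of_locally {M : X.Modules} (h : ∀ x : X, ∃ (Z : Scheme.{u}) (j : Z ⟶ X)
    (_ : IsOpenImmersion j), x ∈ Set.range j ∧ FlatMod.IsFinLocFree (M.restrict j)) :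
    FlatMod.IsFinLocFree M := fun x => by
  obtain ⟨Z, j, hj, ⟨z, hz⟩, hM⟩ := h x
  obtain ⟨U, n, hzU, ⟨e⟩⟩ := hM z
  obtain ⟨V, m, hV, hiso⟩ := M1.exists_freeMod_of_openImmersion (M := M) (U.ι ≫ j)
    ((M1.restrictRestrictIso M j U.ι _ rfl).symm ≪≫ e ≪≫ M1.freeModFrIso _ n) ⟨z, hzU⟩
  exact ⟨V, m, by simpa [hz] using hV, hiso⟩

theorem isFinLocFree_kernel {A B D : X.Modules} (i : A ⟶ B) (p : B ⟶ D) (w : i ≫ p = 0)
    (hS : (ShortComplex.mk i p w).ShortExact) (hB : FlatMod.IsFinLocFree B) (hD : FlatMod.IsFinLocFree D) :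
    FlatMod.IsFinLocFree A := isFinLocFree_of_locally fun x => by
  have := hS.epi_g
  obtain ⟨Z, j, hj, hx, ψ, hψ⟩ := exists_lift hD p (𝟙 D) x
  refine ⟨Z, j, hj, hx, ?_⟩
  let R := Scheme.Modules.restrictFunctor j
  have hR := hS.map_of_exact R
  have := hR.mono_f
  have hψ' : ψ ≫ R.map p = 𝟙 _ := hψ.trans (R.map_id D)
  obtain ⟨r, hr⟩ := KernelFork.IsLimit.lift' hR.exact.fIsKernel (𝟙 (R.obj B) - R.map p ≫ ψ) (by
    change (𝟙 _ - R.map p ≫ ψ) ≫ R.map p = 0
    rw [Preadditive.sub_comp, Category.id_comp, Category.assoc, hψ', Category.comp_id, sub_self])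
  refine M2.isFinLocFree_of_retract (M2.isFinLocFree_restrict j hB) (R.map i) r ?_
  rw [← @cancel_mono _ _ _ _ _ (R.map i) hR.mono_f]
  refine (Category.assoc _ _ _).trans ((congrArg (R.map i ≫ ·) hr).trans ?_)
  change R.map i ≫ ((𝟙 (R.obj B) - R.map p ≫ ψ) : R.obj B ⟶ R.obj B) = 𝟙 (R.obj A) ≫ R.map i
  simp [← R.map_comp_assoc, w]

theorem isFlat_kernel {A B D : X.Modules} (i : A ⟶ B) (p : B ⟶ D) (w : i ≫ p = 0)
    (hS : (ShortComplex.mk i p w).ShortExact) (hB : FlatMod.IsFlat B) (hD : FlatMod.IsFlat D) :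
    FlatMod.IsFlat A :=
  (KFlat.Sch.isFlat_iff A).1
    (KFlat.isFlat_X₁ (T := KFlat.Sch.TX X) (KFlat.Sch.enough X) hS ((KFlat.Sch.isFlat_iff B).2 hB) ((KFlat.Sch.isFlat_iff D).2 hD))

theorem isFinLocFree_cycles {E : CochainComplex X.Modules ℤ} (hE : DCoh.IsStrictlyPerfect E) (n : ℤ)
    (hex : ∀ i, n < i → E.ExactAt i) : FlatMod.IsFinLocFree (E.cycles n) := by
  obtain ⟨⟨a, b, hv⟩, hf⟩ := hE
  exact cycles_prop _ KFlat.Sch.isFinLocFree_of_isZero isFinLocFree_kernel E b
    (fun i hi => hv i (Or.inr hi)) hf (b + 1 - n).toNat n (by omega) hex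

theorem isQCoh_homology {E : CochainComplex X.Modules ℤ} (hE : ∀ i, Coh.IsQCoh (E.X i)) (i : ℤ) :
    Coh.IsQCoh (E.homology i) := by
  have hcyc : Coh.IsQCoh (E.cycles i) := M1.isQCoh_of_isIso
    ((kernelIsKernel (E.d i (i + 1))).conePointUniqueUpToIso (E.cyclesIsKernel i (i + 1) (by simp)))
    (M1.isQCoh_kernel (hE _) (hE _) _)
  exact M1.isQCoh_of_isIso
    ((cokernelIsCokernel _).coconePointUniqueUpToIso (E.homologyIsCokernel (i - 1) i (by simp)))
    (M1.isQCoh_cokernel (hE _) hcyc _)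

theorem isFP_cokernel {A B : X.Modules} (hA : Coh.IsQCoh A) (hA' : CohB1.IsFT A) (hB : CohB1.IsFP B)
    (φ : A ⟶ B) : CohB1.IsFP (cokernel φ) := by
  have hBQ := M1.isFP_isQCoh hB
  have hC := M1.isQCoh_cokernel hA hBQ φ
  refine M1.isFP_of_finitePresentation_sections hC fun U hU => ?_
  have := M1.finitePresentation_sections hB hU
  have := M1.finite_sections hA hA' hU
  let φL : Γ(A, U) →ₗ[Γ(X, U)] Γ(B, U) :=
    { toFun := φ.app U, map_add' := map_add (φ.app U).hom, map_smul' := φ.app_smul }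
  let πL : Γ(B, U) →ₗ[Γ(X, U)] Γ(cokernel φ, U) :=
    { toFun := (cokernel.π φ).app U, map_add' := map_add ((cokernel.π φ).app U).hom,
      map_smul' := (cokernel.π φ).app_smul }
  have hker : LinearMap.ker πL = LinearMap.range φL := by
    let K := kernel (cokernel.π φ)
    let ψ : A ⟶ K := Abelian.factorThruImage φ
    ext z
    simp only [LinearMap.mem_ker, LinearMap.mem_range]
    constructor
    · intro hz
      obtain ⟨k, hk⟩ := M1.sections_exact (S := ShortComplex.mk (kernel.ι (cokernel.π φ)) _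
        (kernel.condition _)) (ShortComplex.exact_kernel _) U z hz
      obtain ⟨a, ha⟩ := M1.app_surjective_affine_of_isQCoh hA (M1.isQCoh_kernel hBQ hC _) ψ hU k
      exact ⟨a, ((congrArg (fun t : A ⟶ B => t.app U a) (Abelian.image.fac φ)).symm.trans
        (congrArg ((kernel.ι (cokernel.π φ)).app U) ha)).trans hk⟩
    · rintro ⟨a, rfl⟩
      exact congrArg (fun t : A ⟶ cokernel φ => t.app U a) (cokernel.condition φ)
  refine Module.finitePresentation_of_surjective πL
    (M1.app_surjective_affine_of_isQCoh hBQ hC (cokernel.π φ) hU) ?_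
  rw [hker]
  exact Module.Finite.iff_fg.mp inferInstance

/-- Top cohomology of a strictly perfect complex. -/
theorem isFP_homology_top {E : CochainComplex X.Modules ℤ} (hE : DCoh.IsStrictlyPerfect E) (n : ℤ)
    (hex : ∀ i, n < i → E.ExactAt i) : CohB1.IsFP (E.homology n) := by
  have h1 := M1.isFP_of_isFinLocFree (hE.2 (n - 1))
  exact M1.isFP_of_isIso
    ((cokernelIsCokernel _).coconePointUniqueUpToIso (E.homologyIsCokernel (n - 1) n (by simp)))
    (isFP_cokernel (M1.isFP_isQCoh h1) (M1.isFP_isFT h1)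
      (M1.isFP_of_isFinLocFree (isFinLocFree_cycles hE n hex)) _)

/-- Cohomology sheaves commute with restriction. -/
noncomputable def hdResIso {Z : Scheme.{u}} (j : Z ⟶ X) [IsOpenImmersion j] (K : DCoh.D X) (i : ℤ) :
    DCoh.HD ((resD j).obj K) i ≅ (DCoh.HD K i).restrict j :=
  let F := (DerivedCategory.Q (C := X.Modules)).objPreimage K
  let e : DCoh.toD X F ≅ K := (DerivedCategory.Q (C := X.Modules)).objObjPreimageIso K
  (DerivedCategory.homologyFunctor Z.Modules i).mapIso ((resD j).mapIso e.symm ≪≫ (resFac j).app F) ≪≫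
    (DerivedCategory.homologyFunctorFactors Z.Modules i).app _ ≪≫
    (F.sc i).mapHomologyIso (Scheme.Modules.restrictFunctor j) ≪≫
    (Scheme.Modules.restrictFunctor j).mapIso
      (((DerivedCategory.homologyFunctorFactors X.Modules i).app F).symm ≪≫
        (DerivedCategory.homologyFunctor X.Modules i).mapIso e)

/-- The cohomology of a strictly perfect approximation. -/
theorem isIso_of_dcond {A B : DCoh.D X} {α : A ⟶ B} {m i : ℤ} (h : DCond (Set.Ici m) α) (hi : m < i) :
    IsIso ((DerivedCategory.homologyFunctor X.Modules i).map α) := by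
  obtain ⟨j, rfl⟩ : ∃ j, i = j + 1 := ⟨i - 1, by omega⟩
  have := (h (j + 1) (show m ≤ j + 1 by omega)).1
  have := (h j (show m ≤ j by omega)).2
  exact isIso_of_mono_of_epi _

theorem finiteType_top {m : ℤ} {K : DCoh.D X} (hK : DCoh.IsPseudoCoherentD m K)
    (hz : ∀ i, m < i → IsZero (DCoh.HD K i)) : CohB1.IsFT (DCoh.HD K m) := by
  choose Z j hj hx hZ using approx_of_isPseudoCoherentD hK
  refine M1.isFT_of_openImmersion_cover j (fun x => ?_) fun x => ?_
  · exact ⟨x, hx x⟩
  obtain ⟨E, hE, α, hα⟩ := hZ x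
  have hex : ∀ i, m < i → E.ExactAt i := fun i hi => by
    have := isIso_of_dcond hα hi
    refine (KFlat.Sch.isZero_HD_toD_iff E i).1 ?_
    exact (((Scheme.Modules.restrictFunctor (j x)).map_isZero (hz i hi)).of_iso (hdResIso (j x) K i)).of_iso
      (asIso ((DerivedCategory.homologyFunctor _ i).map α))
  have := (hα m Set.self_mem_Ici).1
  exact M1.isFT_of_isIso (hdResIso (j x) K m) (M1.isFT_of_epi
    ((DerivedCategory.homologyFunctor _ m).map α)
    (M1.isFT_of_isIso ((DerivedCategory.homologyFunctorFactors _ m).app E).symm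
      (M1.isFP_isFT (isFP_homology_top hE m hex))))

theorem finitePresentation_top {m : ℤ} {K : DCoh.D X} (hK : DCoh.IsPseudoCoherentD m K)
    (hz : ∀ i, m + 1 < i → IsZero (DCoh.HD K i)) : CohB1.IsFP (DCoh.HD K (m + 1)) := by
  choose Z j hj hx hZ using approx_of_isPseudoCoherentD hK
  refine M1.isFP_of_openImmersion_cover j (fun x => ?_) fun x => ?_
  · exact ⟨x, hx x⟩
  obtain ⟨E, hE, α, hα⟩ := hZ x
  have hex : ∀ i, m + 1 < i → E.ExactAt i := fun i hi => by
    have := isIso_of_dcond hα (i := i) (by omega)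
    refine (KFlat.Sch.isZero_HD_toD_iff E i).1 ?_
    exact (((Scheme.Modules.restrictFunctor (j x)).map_isZero (hz i hi)).of_iso (hdResIso (j x) K i)).of_iso
      (asIso ((DerivedCategory.homologyFunctor _ i).map α))
  have := isIso_of_dcond hα (lt_add_one m)
  exact M1.isFP_of_isIso (((DerivedCategory.homologyFunctorFactors _ (m + 1)).app E).symm ≪≫
      asIso ((DerivedCategory.homologyFunctor _ (m + 1)).map α) ≪≫ hdResIso (j x) K (m + 1))
    (isFP_homology_top hE (m + 1) hex)

theorem isQCoh_HD {m : ℤ} {K : DCoh.D X} (hK : DCoh.IsPseudoCoherentD m K) {i : ℤ} (hi : m < i) :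
    Coh.IsQCoh (DCoh.HD K i) := by
  choose Z j hj hx hZ using approx_of_isPseudoCoherentD hK
  refine M1.isQCoh_of_openImmersion_cover j (fun x => ?_) fun x => ?_
  · exact ⟨x, hx x⟩
  obtain ⟨E, hE, α, hα⟩ := hZ x
  have := isIso_of_dcond hα hi
  exact M1.isQCoh_of_isIso (((DerivedCategory.homologyFunctorFactors _ i).app E).symm ≪≫
      asIso ((DerivedCategory.homologyFunctor _ i).map α) ≪≫ hdResIso (j x) K i)
    (isQCoh_homology (fun k => M2.isQCoh_of_isFinLocFree (hE.2 k)) i)

theorem exists_qcoh_epi {m : ℤ} {K : DCoh.D X} (hK : DCoh.IsPseudoCoherentD m K) (x : X) :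
    ∃ (V : X.Opens) (Q : (V : Scheme.{u}).Modules)
      (π : Q ⟶ (Scheme.Modules.restrictFunctor V.ι).obj (DCoh.HD K m)),
      x ∈ V ∧ Coh.IsQCoh Q ∧ Epi π := by
  obtain ⟨V, hxV, hV⟩ := (approx_of_isPseudoCoherentD hK).exists_opens x
  obtain ⟨E, hE, α, hα⟩ := hV V le_rfl
  have := (hα m Set.self_mem_Ici).1
  exact ⟨V, E.homology m, ((DerivedCategory.homologyFunctorFactors _ m).app E).inv ≫
      (DerivedCategory.homologyFunctor _ m).map α ≫ (hdResIso V.ι K m).hom, hxV,
    isQCoh_homology (fun k => M2.isQCoh_of_isFinLocFree (hE.2 k)) m,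
    @epi_comp _ _ _ _ _ _ inferInstance _ (@epi_comp _ _ _ _ _ _ this _ inferInstance)⟩

end Groth.Agent.DPerf
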