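import Groth.Agent.Lib.DPerf.Top
import Groth.Agent.Lib.KInj.Derived
import Groth.Agent.Lib.CohFound.ModulesInst
import Mathlib.CategoryTheory.Abelian.GrothendieckAxioms.Basic
import Mathlib.CategoryTheory.Abelian.FunctorCategory

/-!
Coproducts in `D(O_X)` of objects with quasi-coherent cohomology.
-/

set_option autoImplicit false
set_option linter.unusedSectionVars false

universe u

open CategoryTheory CategoryTheory.Limits AlgebraicGeometry

attribute [local instance] HasDerivedCategory.standard

namespace Groth.Agent.DPerf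

variable {X : Scheme.{u}} {T : Type u}

theorem isQCoh_homology_sigma (F : T → CochainComplex X.Modules ℤ) (i : ℤ)
    (h : ∀ a, Coh.IsQCoh ((F a).homology i)) : Coh.IsQCoh ((∐ F).homology i) := by
  have : HasFiniteBiproducts X.Modules := Abelian.hasFiniteBiproducts
  have : AB4OfSize.{u} X.Modules := AB4.of_AB5 X.Modules
  let S : ShortComplex (Discrete T ⥤ X.Modules) :=
    ShortComplex.mk (X₁ := Discrete.functor fun a => (F a).X (i - 1))
      (X₂ := Discrete.functor fun a => (F a).X i) (X₃ := Discrete.functor fun a => (F a).X (i + 1))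
      (Discrete.natTrans fun a => (F a.as).d (i - 1) i) (Discrete.natTrans fun a => (F a.as).d i (i + 1))
      (by ext a; simp)
  let ev : ∀ k, colim.obj (Discrete.functor fun a => (F a).X k) ≅ (∐ F).X k := fun k =>
    (PreservesCoproduct.iso (HomologicalComplex.eval X.Modules (ComplexShape.up ℤ) k) F).symm
  have hev : ∀ k a, colimit.ι (Discrete.functor fun a => (F a).X k) ⟨a⟩ ≫ (ev k).hom =
      (Sigma.ι F a).f k := fun k a => by
    simp only [ev, Iso.symm_hom, PreservesCoproduct.inv_hom]
    exact ι_comp_sigmaComparison (HomologicalComplex.eval X.Modules (ComplexShape.up ℤ) k) F a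
  have hd : ∀ k l (α : (Discrete.functor fun a => (F a).X k) ⟶ Discrete.functor fun a => (F a).X l),
      (∀ a, α.app ⟨a⟩ = (F a).d k l) → colimMap α ≫ (ev l).hom = (ev k).hom ≫ (∐ F).d k l := by
    intro k l α hα
    refine colimit.hom_ext fun ⟨a⟩ => ?_
    rw [ι_colimMap_assoc, hev, hα a, reassoc_of% (hev k a), ← (Sigma.ι F a).comm]
  let e : S.map colim ≅ (∐ F).sc' (i - 1) i (i + 1) :=
    ShortComplex.isoMk (ev (i - 1)) (ev i) (ev (i + 1))
      (hd (i - 1) i S.f fun _ => rfl).symm (hd i (i + 1) S.g fun _ => rfl).symm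
  let eH : colimit S.homology ≅ (∐ F).homology i :=
    (S.mapHomologyIso colim).symm ≪≫ ShortComplex.homologyMapIso e ≪≫
      ((∐ F).homologyIsoSc' (i - 1) i (i + 1) (by simp) (by simp)).symm
  refine M1.isQCoh_of_isIso eH (M1.isQCoh_of_isColimit (fun a => ?_) (colimit.isColimit S.homology))
  exact M1.isQCoh_of_isIso
    (((F a.as).homologyIsoSc' (i - 1) i (i + 1) (by simp) (by simp)) ≪≫
      S.mapHomologyIso ((evaluation _ _).obj a)) (h a.as)

theorem isQCohD_sigma (K : T → DCoh.D X) [HasCoproduct K] (h : ∀ a, DCoh.IsQCohD (K a)) :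
    DCoh.IsQCohD (∐ K) := by
  let F : T → CochainComplex X.Modules ℤ := fun a => (DerivedCategory.Q (C := X.Modules)).objPreimage (K a)
  let e : ∀ a, DCoh.toD X (F a) ≅ K a := fun a =>
    (DerivedCategory.Q (C := X.Modules)).objObjPreimageIso (K a)
  let c : Cofan K := Cofan.mk (DCoh.toD X (∐ F)) fun a => (e a).inv ≫ DerivedCategory.Q.map (Sigma.ι F a)
  have hc : IsColimit c := by
    let h₁ := KInjLib.isColimitSigma F
    refine Cofan.IsColimit.mk _ (fun s => Cofan.IsColimit.desc h₁ fun a => (e a).hom ≫ s.inj a)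
      (fun s a => ?_) (fun s m hm => Cofan.IsColimit.hom_ext h₁ _ _ fun a => ?_)
    · exact (Category.assoc _ _ _).trans
        ((congrArg ((e a).inv ≫ ·) (Cofan.IsColimit.fac h₁ _ a)).trans (Iso.inv_hom_id_assoc _ _))
    · refine Eq.trans ?_ (Cofan.IsColimit.fac h₁ _ a).symm
      rw [← hm a]
      simp [c]
  intro i
  refine M1.isQCoh_of_isIso (((DerivedCategory.homologyFunctorFactors X.Modules i).app (∐ F)).symm ≪≫
    (DerivedCategory.homologyFunctor X.Modules i).mapIso
      (hc.coconePointUniqueUpToIso (coproductIsCoproduct K))) (isQCoh_homology_sigma F i fun a => ?_)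
  exact M1.isQCoh_of_isIso ((DerivedCategory.homologyFunctor X.Modules i).mapIso (e a).symm ≪≫
    (DerivedCategory.homologyFunctorFactors X.Modules i).app (F a)) (h a i)

end Groth.Agent.DPerf
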