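import Groth.Agent.Lib.DPerf.RankSC
import Groth.Agent.Lib.DPerf.Tilde
import Groth.Agent.Lib.DPerf.Free
import Groth.Agent.Lib.KFlat.LpullComp
import Groth.Agent.Lib.ModM1.PullSpec
import Groth.Prelude.Def_PerfD

/-!
Fibre dimensions of pseudo-coherent objects through local finite free representatives.
-/

set_option autoImplicit false
set_option linter.unusedSectionVars false
set_option backward.isDefEq.respectTransparency false

universe u

open CategoryTheory CategoryTheory.Limits AlgebraicGeometry Opposite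

attribute [local instance] HasDerivedCategory.standard

namespace Groth.Agent.DPerf

open RankSC

variable {X Y : Scheme.{u}}

/-- The derived pullback along an open immersion is the restriction. -/
theorem nonempty_lpull_iso_resD (j : Y ⟶ X) [IsOpenImmersion j] [DCoh.HasLpull j] (E : DCoh.D X) :
    Nonempty ((DCoh.Lpull j).obj E ≅ (resD j).obj E) := by
  obtain ⟨K₀, ⟨e₀⟩⟩ := Functor.EssSurj.mem_essImage (F := (DerivedCategory.Q :
    CochainComplex X.Modules ℤ ⥤ _)) E
  have := KFlat.quasiIso_resπ (KFlat.Sch.cover X) K₀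
  let K := KFlat.resObj (KFlat.Sch.cover X) K₀
  let e : DCoh.toD X K ≅ E :=
    asIso (DerivedCategory.Q.map (KFlat.resπ (KFlat.Sch.cover X) K₀)) ≪≫ e₀
  exact ⟨(DCoh.Lpull j).mapIso e.symm ≪≫ KFlat.Sch.lpullObjIso j K (KFlat.Sch.isAdapted_resObj _) ≪≫
    DerivedCategory.Q.mapIso ((NatIso.mapHomologicalComplex
      (Scheme.Modules.restrictFunctorIsoPullback j).symm (ComplexShape.up ℤ)).app K) ≪≫
    ((resFac j).app K).symm ≪≫ (resD j).mapIso e⟩

/-- A finite free chart for the approximation. -/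
theorem exists_free_chart {s : Set ℤ} {E : DCoh.D X} (h : Approx s E) (x : X) :
    ∃ (R : CommRingCat.{u}) (j : Spec R ⟶ X) (_ : IsOpenImmersion j) (P : DRing.Cx R) (a b : ℤ),
      x ∈ Set.range j ∧ DRing.VanishesOutside P a b ∧ DRing.TermwiseFiniteFree P ∧
        ∃ α : DCoh.toD (Spec R) ((tildeX R).obj P) ⟶ (resD j).obj E, DCond s α := by
  obtain ⟨V, hxV, hV⟩ := h.exists_opens x
  obtain ⟨F, hF, -⟩ := hV V le_rfl
  obtain ⟨F, hF, α, hα⟩ := hV V le_rfl
  obtain ⟨W, hxW, hW⟩ := exists_free_nhd hF ⟨x, hxV⟩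
  let i₀ := (W : Scheme.{u}).affineOpenCover.idx ⟨⟨x, hxV⟩, hxW⟩
  let R := (W : Scheme.{u}).affineOpenCover.X i₀
  let k : Spec R ⟶ (W : Scheme.{u}) := (W : Scheme.{u}).affineOpenCover.f i₀
  obtain ⟨z, hz⟩ : (⟨⟨x, hxV⟩, hxW⟩ : (W : Scheme.{u})) ∈ Set.range k :=
    (W : Scheme.{u}).affineOpenCover.covers _
  choose n hn using hW
  let G : CochainComplex (Spec R).Modules ℤ := (resX k).obj ((resX W.ι).obj F)
  let N : ℤ → ModuleCat.{u} R := fun i => ModuleCat.of R (ULift.{u} (Fin (n i)) →₀ R)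
  let e : ∀ i, (tilde.functor R).obj (N i) ≅ G.X i := fun i =>
    M1.frTildeIso _ ≪≫ (M1.freeModFrIso _ (n i)).symm ≪≫ (M2.freeModRestrictIso k (n i)).symm ≪≫
      (Scheme.Modules.restrictFunctor k).mapIso (hn i).some.symm
  let d : ∀ i j, N i ⟶ N j := fun i j =>
    (tilde.functor R).preimage ((e i).hom ≫ G.d i j ≫ (e j).inv)
  have hd : ∀ i j, (tilde.functor R).map (d i j) = (e i).hom ≫ G.d i j ≫ (e j).inv := fun i j =>
    Functor.map_preimage _ _
  let P : DRing.Cx R :=
    { X := N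
      d := d
      shape := fun i j hij => (tilde.functor R).map_injective (by
        rw [hd, G.shape i j hij, zero_comp, comp_zero, Functor.map_zero])
      d_comp_d' := fun i j l _ _ => (tilde.functor R).map_injective (by
        rw [Functor.map_comp, hd, hd, Functor.map_zero]
        simp) }
  let eP : (tildeX R).obj P ≅ G := HomologicalComplex.Hom.isoOfComponents e fun i j _ => by
    change (e i).hom ≫ G.d i j = (tilde.functor R).map (d i j) ≫ (e j).hom
    rw [hd]; simp
  obtain ⟨⟨a, b, hv⟩, -⟩ := id hF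
  refine ⟨R, (k ≫ W.ι) ≫ V.ι, inferInstance, P, a, b, ⟨z, ?_⟩, fun i hi => ?_, fun i =>
    ⟨inferInstanceAs (Module.Finite R (ULift.{u} (Fin (n i)) →₀ R)),
      inferInstanceAs (Module.Free R (ULift.{u} (Fin (n i)) →₀ R))⟩, ?_⟩
  · rw [Scheme.Hom.comp_apply, Scheme.Hom.comp_apply, hz]; rfl
  · exact isZero_of_tilde (((Scheme.Modules.restrictFunctor k).map_isZero
      ((Scheme.Modules.restrictFunctor W.ι).map_isZero (hv i hi))).of_iso (e i))
  · refine ⟨DerivedCategory.Q.map (eP.hom ≫ (resCompIso W.ι k).inv.app F) ≫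
      (resFac (k ≫ W.ι)).inv.app F ≫ (resD (k ≫ W.ι)).map α ≫
        (resDComp V.ι (k ≫ W.ι)).hom.app E, ?_⟩
    exact DCond.comp (dcond_of_isIso _) (DCond.comp (dcond_of_isIso _)
      (DCond.comp (dcond_map _ hα) (dcond_of_isIso _)))

/-- Dimension of sections of `N~` over the spectrum of a field. -/
theorem finrank_sections_tilde (K : CommRingCat.{u}) (N : ModuleCat.{u} K) :
    Module.finrank (Coh.Γtop (Spec K)) (((tilde.functor K).obj N).val.obj (op ⊤)) =
      Module.finrank K N := by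
  let S := ((tilde.functor K ⋙ moduleSpecΓFunctor).obj N : Type u)
  let eN : N ≃ₗ[K] S := ((tilde.toTildeΓNatIso (R := K)).app N).toLinearEquiv
  rw [eN.finrank_eq]
  have hbij : Function.Bijective (Scheme.ΓSpecIso K).inv.hom :=
    ConcreteCategory.bijective_of_isIso (Scheme.ΓSpecIso K).inv
  let i : K → Coh.Γtop (Spec K) := (Scheme.ΓSpecIso K).inv.hom
  symm
  unfold Module.finrank
  congr 1
  exact rank_eq_of_equiv_equiv i (AddEquiv.refl _) hbij fun r m => rfl

/-- Fibre dimensions computed by a finite free representative. -/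
theorem finrank_lpull_eq {s : Set ℤ} {E : DCoh.D X} {K : CommRingCat.{u}} (g : Spec K ⟶ X) [DCoh.HasLpull g]
    {R : CommRingCat.{u}} (j : Spec R ⟶ X) [IsOpenImmersion j] (P : DRing.Cx R) {a b : ℤ}
    (hP : DRing.VanishesOutside P a b) (hF : DRing.TermwiseFiniteFree P)
    (α : DCoh.toD (Spec R) ((tildeX R).obj P) ⟶ (resD j).obj E) (hα : DCond s α)
    (φ : Spec K ⟶ Spec R) (hφ : φ ≫ j = g) (i m : ℤ)
    (hs : Set.Ici m ⊆ s) (hi : m < i) :
    Module.finrank (Coh.Γtop (Spec K)) ((DCoh.HD ((DCoh.Lpull g).obj E) i).val.obj (op ⊤)) =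
      Module.finrank K (((extCx (Spec.preimage φ).hom).obj P).homology i) := by
  let ψ := Spec.preimage φ
  have hψ : Spec.map ψ = φ := Spec.map_preimage φ
  have := KFlat.Sch.hasLpull j
  have := KFlat.Sch.hasLpull (Spec.map ψ)
  have := KFlat.Sch.hasLpull φ
  obtain ⟨ej⟩ := nonempty_lpull_iso_resD j E
  have hc : ∀ (f : Spec K ⟶ X) [DCoh.HasLpull f], Spec.map ψ ≫ j = f →
      Nonempty ((DCoh.Lpull f).obj E ≅ (DCoh.Lpull (Spec.map ψ)).obj ((DCoh.Lpull j).obj E)) := by
    intro f _ hf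
    subst hf
    exact ⟨((KFlat.Sch.lpullCompIso (Spec.map ψ) j).app E).symm⟩
  obtain ⟨ec⟩ := hc (g) (by rw [hψ, hφ])
  have hflat : ∀ n, KFlat.IsFlat (KFlat.Sch.TX (Spec R)) (((tildeX R).obj P).X n) := fun n =>
    (KFlat.Sch.isFlat_iff _).2 (have := (hF n).2; isFlat_tilde (N := P.X n))
  have : ((tildeX R).obj P).IsStrictlyLE b := (CochainComplex.isStrictlyLE_iff _ b).2 fun n hn =>
    (tilde.functor R).map_isZero (hP n (Or.inr hn))
  have hA := KFlat.Sch.isAdapted_of_boundedAbove ((tildeX R).obj P) b hflat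
  obtain ⟨hiso, -⟩ := KFlat.Sch.homology_lpull_map (Spec.map ψ) α m (fun n hn => by
      have h1 := (hα n (hs (by exact hn.le))).1
      have h2 := (hα (n - 1) (hs (by change m ≤ n - 1; omega))).2
      rw [sub_add_cancel] at h2
      exact isIso_of_mono_of_epi _)
    (hα m (hs (Set.self_mem_Ici))).1
  have := hiso i hi
  let eC : ((Scheme.Modules.pullback (Spec.map ψ)).mapHomologicalComplex (ComplexShape.up ℤ)).obj
      ((tildeX R).obj P) ≅ (tildeX K).obj ((extCx ψ.hom).obj P) :=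
    HomologicalComplex.Hom.isoOfComponents (fun n => (M1.tildePullbackIso ψ).app (P.X n))
      (fun n l _ => ((M1.tildePullbackIso ψ).hom.naturality (P.d n l)).symm)
  let e : DCoh.HD ((DCoh.Lpull (g)).obj E) i ≅
      (tilde.functor K).obj (((extCx ψ.hom).obj P).homology i) :=
    (DerivedCategory.homologyFunctor _ i).mapIso (ec ≪≫ (DCoh.Lpull (Spec.map ψ)).mapIso ej) ≪≫
      (asIso ((DerivedCategory.homologyFunctor _ i).map ((DCoh.Lpull (Spec.map ψ)).map α))).symm ≪≫
      (DerivedCategory.homologyFunctor _ i).mapIso (KFlat.Sch.lpullObjIso (Spec.map ψ) _ hA ≪≫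
        DerivedCategory.Q.mapIso eC) ≪≫
      (DerivedCategory.homologyFunctorFactors _ i).app _ ≪≫
      ((((extCx ψ.hom).obj P)).sc i).mapHomologyIso (tilde.functor K)
  rw [← finrank_sections_tilde]
  exact ((SheafOfModules.evaluation _ (op ⊤)).mapIso e).toLinearEquiv.finrank_eq

/-- Fibre dimensions at a point. -/
theorem betti_eq {s : Set ℤ} {E : DCoh.D X} (x : X) [DCoh.HasLpull (X.fromSpecResidueField x)]
    {R : CommRingCat.{u}} (j : Spec R ⟶ X) [IsOpenImmersion j] (P : DRing.Cx R) {a b : ℤ}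
    (hP : DRing.VanishesOutside P a b) (hF : DRing.TermwiseFiniteFree P)
    (α : DCoh.toD (Spec R) ((tildeX R).obj P) ⟶ (resD j).obj E) (hα : DCond s α)
    (φ : Spec (X.residueField x) ⟶ Spec R) (hφ : φ ≫ j = X.fromSpecResidueField x) (i m : ℤ)
    (hs : Set.Ici m ⊆ s) (hi : m < i) :
    PerfD.betti E x i =
      Module.finrank (X.residueField x) (((extCx (Spec.preimage φ).hom).obj P).homology i) :=
  finrank_lpull_eq (X.fromSpecResidueField x) j P hP hF α hα φ hφ i m hs hi

end Groth.Agent.DPerf
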