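import Groth.Agent.Lib.DPerf.Local
import Groth.Agent.Lib.KFlat.Brutal
import Mathlib.CategoryTheory.Abelian.DiagramLemmas.Four
import Mathlib.Algebra.Homology.HomotopyCategory.Pretriangulated

/-!
Maps of complexes that are epi on `H^i` and mono on `H^{i+1}` for `i` in a set of degrees.
-/

set_option autoImplicit false
set_option linter.unusedSectionVars false

universe v u

open CategoryTheory CategoryTheory.Limits

namespace Groth.Agent.DPerf

variable {C : Type u} [Category.{v} C] [Abelian C]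

section Four

open ComposableArrows

variable {A B D E A' B' D' E' : C} {f : A ⟶ B} {g : B ⟶ D} {h : D ⟶ E} {f' : A' ⟶ B'} {g' : B' ⟶ D'}
  {h' : D' ⟶ E'} {a : A ⟶ A'} {b : B ⟶ B'} {d : D ⟶ D'} {e : E ⟶ E'}

theorem four_epi (hgh : ∀ w, (ShortComplex.mk g h w).Exact) (w₀ : g ≫ h = 0)
    (w₁ : f' ≫ g' = 0) (hfg' : (ShortComplex.mk f' g' w₁).Exact) (w₂ : g' ≫ h' = 0)
    (c₁ : f ≫ b = a ≫ f') (c₂ : g ≫ d = b ≫ g') (c₃ : h ≫ e = d ≫ h')
    (ha : Epi a) (hd : Epi d) (he : Mono e) : Epi b :=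
  Abelian.epi_of_epi_of_epi_of_mono' (R₁ := mk₃ f g h) (R₂ := mk₃ f' g' h')
    (homMk₃ a b d e c₁ c₂ c₃) (hgh w₀).exact_toComposableArrows hfg'.exact_toComposableArrows
    w₂ ha hd he

theorem four_mono (w₀ : f ≫ g = 0) (w₁ : g ≫ h = 0) (hgh : (ShortComplex.mk g h w₁).Exact)
    (w₂ : f' ≫ g' = 0) (hfg' : (ShortComplex.mk f' g' w₂).Exact)
    (c₁ : f ≫ b = a ≫ f') (c₂ : g ≫ d = b ≫ g') (c₃ : h ≫ e = d ≫ h')
    (ha : Epi a) (hb : Mono b) (he : Mono e) : Mono d :=
  Abelian.mono_of_epi_of_mono_of_mono' (R₁ := mk₃ f g h) (R₂ := mk₃ f' g' h')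
    (homMk₃ a b d e c₁ c₂ c₃) w₀ hgh.exact_toComposableArrows hfg'.exact_toComposableArrows ha hb he

end Four

/-- `φ` is epi on `H^i` and mono on `H^{i+1}` for `i ∈ s`. -/
def HCond (s : Set ℤ) {E K : CochainComplex C ℤ} (φ : E ⟶ K) : Prop :=
  ∀ i ∈ s, Epi (HomologicalComplex.homologyMap φ i) ∧ Mono (HomologicalComplex.homologyMap φ (i + 1))

theorem HCond.mono_set {s t : Set ℤ} (hts : t ⊆ s) {E K : CochainComplex C ℤ} {φ : E ⟶ K}
    (h : HCond s φ) : HCond t φ := fun i hi => h i (hts hi)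

theorem HCond.of_homotopy {s : Set ℤ} {E K : CochainComplex C ℤ} {φ ψ : E ⟶ K} (h : HCond s φ)
    (H : Homotopy φ ψ) : HCond s ψ := fun i hi => by
  rw [← H.homologyMap_eq i, ← H.homologyMap_eq (i + 1)]
  exact h i hi

theorem HCond.comp {s : Set ℤ} {E K L : CochainComplex C ℤ} {φ : E ⟶ K} {ψ : K ⟶ L} (h : HCond s φ)
    (h' : HCond s ψ) : HCond s (φ ≫ ψ) := fun i hi => by
  simp only [HomologicalComplex.homologyMap_comp]
  have := (h i hi).1
  have := (h i hi).2
  have := (h' i hi).1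
  have := (h' i hi).2
  exact ⟨epi_comp _ _, mono_comp _ _⟩

theorem HCond.mono_at {s : Set ℤ} {E K : CochainComplex C ℤ} {φ : E ⟶ K} (h : HCond s φ) (i : ℤ)
    (hi : i - 1 ∈ s) : Mono (HomologicalComplex.homologyMap φ i) := by
  obtain ⟨j, rfl⟩ : ∃ j, i = j + 1 := ⟨i - 1, by omega⟩
  exact (h j (by simpa using hi)).2

theorem hcond_of_quasiIso {s : Set ℤ} {E K : CochainComplex C ℤ} (φ : E ⟶ K) [QuasiIso φ] : HCond s φ :=
  fun _ _ => ⟨inferInstance, inferInstance⟩

theorem hcond_univ_iff {E K : CochainComplex C ℤ} (φ : E ⟶ K) : HCond Set.univ φ ↔ QuasiIso φ := by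
  refine ⟨fun h => ⟨fun i => ?_⟩, fun h => hcond_of_quasiIso φ⟩
  rw [quasiIsoAt_iff_isIso_homologyMap]
  have := (h i trivial).1
  have := h.mono_at i trivial
  exact isIso_of_mono_of_epi _

theorem hcond_Ici_iff {E K : CochainComplex C ℤ} (φ : E ⟶ K) (m : ℤ) : HCond (Set.Ici m) φ ↔
    (∀ i : ℤ, m < i → IsIso (HomologicalComplex.homologyMap φ i)) ∧
      Epi (HomologicalComplex.homologyMap φ m) := by
  refine ⟨fun h => ⟨fun i hi => ?_, (h m (Set.self_mem_Ici)).1⟩, fun ⟨h₁, h₂⟩ i hi => ⟨?_, ?_⟩⟩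
  · have := (h i hi.le).1
    have := h.mono_at i (show m ≤ i - 1 by omega)
    exact isIso_of_mono_of_epi _
  · rcases eq_or_lt_of_le (show m ≤ i from hi) with rfl | hi
    · exact h₂
    · have := h₁ i hi; infer_instance
  · have := h₁ (i + 1) (by have : m ≤ i := hi; omega)
    infer_instance

theorem hcond_map {D : Type*} [Category* D] [Abelian D] (F : C ⥤ D) [F.Additive] [PreservesFiniteLimits F]
    [PreservesFiniteColimits F] {s : Set ℤ} {E K : CochainComplex C ℤ} {φ : E ⟶ K} (h : HCond s φ) :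
    HCond s ((F.mapHomologicalComplex (ComplexShape.up ℤ)).map φ) := fun i hi => by
  have e : ∀ j, Arrow.mk (HomologicalComplex.homologyMap ((F.mapHomologicalComplex (ComplexShape.up ℤ)).map φ) j)
      ≅ Arrow.mk (F.map (HomologicalComplex.homologyMap φ j)) := fun j =>
    Arrow.isoMk ((E.sc j).mapHomologyIso F) ((K.sc j).mapHomologyIso F)
      (ShortComplex.mapHomologyIso_hom_naturality ((HomologicalComplex.shortComplexFunctor C _ j).map φ) F).symm
  have := (h i hi).1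
  have := (h i hi).2
  exact ⟨((MorphismProperty.epimorphisms _).arrow_mk_iso_iff (e i)).2
      (inferInstanceAs (Epi (F.map (HomologicalComplex.homologyMap φ i)))),
    ((MorphismProperty.monomorphisms _).arrow_mk_iso_iff (e (i + 1))).2
      (inferInstanceAs (Mono (F.map (HomologicalComplex.homologyMap φ (i + 1)))))⟩

theorem hcond_brutι (L : CochainComplex C ℤ) (c : ℤ) : HCond (Set.Ici c) (KFlat.brutι L c) := by
  rw [hcond_Ici_iff]
  refine ⟨fun i hi => ?_, ?_⟩
  · let Φ := (HomologicalComplex.shortComplexFunctor C (ComplexShape.up ℤ) i).map (KFlat.brutι L c)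
    have : Epi Φ.τ₁ := have := KFlat.isIso_brutι_f L (show c ≤ (ComplexShape.up ℤ).prev i by simp; omega)
      inferInstanceAs (Epi ((KFlat.brutι L c).f _))
    have : IsIso Φ.τ₂ := KFlat.isIso_brutι_f L hi.le
    have : Mono Φ.τ₃ := KFlat.mono_brutι_f L c _
    exact inferInstanceAs (IsIso (ShortComplex.homologyMap Φ))
  · let Φ := (HomologicalComplex.shortComplexFunctor C (ComplexShape.up ℤ) c).map (KFlat.brutι L c)
    have : IsIso Φ.τ₂ := KFlat.isIso_brutι_f L le_rfl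
    have : Mono Φ.τ₃ := KFlat.mono_brutι_f L c _
    have h := ShortComplex.homologyπ_naturality Φ
    have : Epi (((KFlat.brutGE L c).sc c).homologyπ ≫ ShortComplex.homologyMap Φ) := by
      rw [h]; exact epi_comp _ _
    exact epi_of_epi ((KFlat.brutGE L c).sc c).homologyπ (ShortComplex.homologyMap Φ)

end Groth.Agent.DPerf
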