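import Groth.Agent.Lib.DPerf.Cond
import Groth.Agent.Lib.KFlat.LpullPC

/-!
Local approximations of objects of `D(O_X)` by strictly perfect complexes, in distinguished triangles.
-/

set_option autoImplicit false
set_option linter.unusedSectionVars false

universe v u

open CategoryTheory CategoryTheory.Limits CategoryTheory.Pretriangulated AlgebraicGeometry

attribute [local instance] HasDerivedCategory.standard

namespace Groth.Agent.DPerf

section DCond

variable {C : Type u} [Category.{v} C] [Abelian C] [HasDerivedCategory C]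

/-- `α` is epi on `H^i` and mono on `H^{i+1}` for `i ∈ s`. -/
def DCond (s : Set ℤ) {A B : DerivedCategory C} (α : A ⟶ B) : Prop :=
  ∀ i ∈ s, Epi ((DerivedCategory.homologyFunctor C i).map α) ∧
    Mono ((DerivedCategory.homologyFunctor C (i + 1)).map α)

theorem DCond.mono_set {s t : Set ℤ} (hts : t ⊆ s) {A B : DerivedCategory C} {α : A ⟶ B}
    (h : DCond s α) : DCond t α := fun i hi => h i (hts hi)

theorem dcond_of_isIso {s : Set ℤ} {A B : DerivedCategory C} (α : A ⟶ B) [IsIso α] : DCond s α :=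
  fun _ _ => ⟨inferInstance, inferInstance⟩

theorem DCond.comp {s : Set ℤ} {A B D : DerivedCategory C} {α : A ⟶ B} {β : B ⟶ D} (h : DCond s α)
    (h' : DCond s β) : DCond s (α ≫ β) := fun i hi => by
  simp only [Functor.map_comp]
  have := (h i hi).1
  have := (h i hi).2
  have := (h' i hi).1
  have := (h' i hi).2
  exact ⟨epi_comp _ _, mono_comp _ _⟩

theorem dcond_comp_iso_iff {s : Set ℤ} {A B D : DerivedCategory C} (α : A ⟶ B) (β : B ⟶ D) [IsIso β] :
    DCond s (α ≫ β) ↔ DCond s α := by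
  refine ⟨fun h => ?_, fun h => h.comp (dcond_of_isIso β)⟩
  simpa using h.comp (dcond_of_isIso (inv β))

theorem dcond_Q_iff {s : Set ℤ} {E K : CochainComplex C ℤ} (φ : E ⟶ K) :
    DCond s (DerivedCategory.Q.map φ) ↔ HCond s φ := by
  have e : ∀ k, Arrow.mk ((DerivedCategory.homologyFunctor C k).map (DerivedCategory.Q.map φ)) ≅
      Arrow.mk (HomologicalComplex.homologyMap φ k) := fun k =>
    ((Functor.mapArrowFunctor _ _).mapIso (DerivedCategory.homologyFunctorFactors C k)).app (Arrow.mk φ)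
  constructor <;> intro h i hi
  · exact ⟨((MorphismProperty.epimorphisms _).arrow_mk_iso_iff (e i)).1 (h i hi).1,
      ((MorphismProperty.monomorphisms _).arrow_mk_iso_iff (e (i + 1))).1 (h i hi).2⟩
  · exact ⟨((MorphismProperty.epimorphisms _).arrow_mk_iso_iff (e i)).2 (h i hi).1,
      ((MorphismProperty.monomorphisms _).arrow_mk_iso_iff (e (i + 1))).2 (h i hi).2⟩

theorem isIso_of_dcond_univ {A B : DerivedCategory C} {α : A ⟶ B} (h : DCond Set.univ α) : IsIso α := by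
  have hepi : ∀ i, Epi ((DerivedCategory.homologyFunctor C i).map α) := fun i => (h i trivial).1
  have hmono : ∀ i, Mono ((DerivedCategory.homologyFunctor C i).map α) := fun i => by
    obtain ⟨j, rfl⟩ : ∃ j, i = j + 1 := ⟨i - 1, by omega⟩
    exact (h j trivial).2
  obtain ⟨A', ⟨eA⟩⟩ := Functor.EssSurj.mem_essImage (F := (DerivedCategory.Q : CochainComplex C ℤ ⥤ _)) A
  obtain ⟨B', ⟨eB⟩⟩ := Functor.EssSurj.mem_essImage (F := (DerivedCategory.Q : CochainComplex C ℤ ⥤ _)) B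
  obtain ⟨Y, g, s, hs, hf⟩ := DerivedCategory.left_fac (eA.hom ≫ α ≫ eB.inv)
  have hg : DCond Set.univ (DerivedCategory.Q.map g) := by
    rw [show DerivedCategory.Q.map g = (eA.hom ≫ α ≫ eB.inv) ≫ DerivedCategory.Q.map s by simp [hf]]
    exact (DCond.comp (dcond_of_isIso _) (h.comp (dcond_of_isIso _))).comp (dcond_of_isIso _)
  have : QuasiIso g := (hcond_univ_iff g).1 ((dcond_Q_iff g).1 hg)
  have : IsIso (eA.hom ≫ α ≫ eB.inv) := by rw [hf]; infer_instance
  rw [show α = eA.inv ≫ (eA.hom ≫ α ≫ eB.inv) ≫ eB.hom by simp]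
  infer_instance

theorem dcond_map {D : Type*} [Category* D] [Abelian D] [HasDerivedCategory D] (F : C ⥤ D) [F.Additive]
    [PreservesFiniteLimits F] [PreservesFiniteColimits F] {s : Set ℤ} {A B : DerivedCategory C}
    {α : A ⟶ B} (h : DCond s α) : DCond s (F.mapDerivedCategory.map α) := by
  obtain ⟨A', ⟨eA⟩⟩ := Functor.EssSurj.mem_essImage (F := (DerivedCategory.Q : CochainComplex C ℤ ⥤ _)) A
  obtain ⟨B', ⟨eB⟩⟩ := Functor.EssSurj.mem_essImage (F := (DerivedCategory.Q : CochainComplex C ℤ ⥤ _)) B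
  obtain ⟨Y, g, t, ht, hf⟩ := DerivedCategory.left_fac (eA.hom ≫ α ≫ eB.inv)
  have hg : DCond s (DerivedCategory.Q.map g) := by
    rw [show DerivedCategory.Q.map g = (eA.hom ≫ α ≫ eB.inv) ≫ DerivedCategory.Q.map t by simp [hf]]
    exact (DCond.comp (dcond_of_isIso _) (h.comp (dcond_of_isIso _))).comp (dcond_of_isIso _)
  have hg' : DCond s (F.mapDerivedCategory.map (DerivedCategory.Q.map g)) := by
    rw [show F.mapDerivedCategory.map (DerivedCategory.Q.map g) = F.mapDerivedCategoryFactors.hom.app A' ≫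
      DerivedCategory.Q.map ((F.mapHomologicalComplex _).map g) ≫ F.mapDerivedCategoryFactors.inv.app Y from
      (NatIso.naturality_2 F.mapDerivedCategoryFactors g).symm]
    exact DCond.comp (dcond_of_isIso _)
      (DCond.comp ((dcond_Q_iff _).2 (hcond_map F ((dcond_Q_iff g).1 hg))) (dcond_of_isIso _))
  have hα : α = eA.inv ≫ (DerivedCategory.Q.map g ≫ inv (DerivedCategory.Q.map t)) ≫ eB.hom := by
    simp [← hf]
  rw [hα, Functor.map_comp, Functor.map_comp, Functor.map_comp]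
  exact DCond.comp (dcond_of_isIso _) (DCond.comp (hg'.comp (dcond_of_isIso _)) (dcond_of_isIso _))

open DerivedCategory HomologySequence in
theorem dcond_hom₃ {T T' : Triangle (DerivedCategory C)} (hT : T ∈ distinguishedTriangles)
    (hT' : T' ∈ distinguishedTriangles) (φ : T ⟶ T') {s s' : Set ℤ} (hs : ∀ i ∈ s, i + 1 ∈ s')
    (h₁ : DCond s' φ.hom₁) (h₂ : DCond s φ.hom₂) : DCond s φ.hom₃ := by
  have hδ : ∀ n₀ n₁ (h : n₀ + 1 = n₁), δ T n₀ n₁ h ≫ (homologyFunctor C n₁).map φ.hom₁ =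
      (homologyFunctor C n₀).map φ.hom₃ ≫ δ T' n₀ n₁ h := fun n₀ n₁ h =>
    ((homologyFunctor C 0).homologySequenceδ_naturality T T' φ n₀ n₁ h).symm
  have c₁ : ∀ n, (homologyFunctor C n).map T.mor₁ ≫ (homologyFunctor C n).map φ.hom₂ =
      (homologyFunctor C n).map φ.hom₁ ≫ (homologyFunctor C n).map T'.mor₁ := fun n => by
    rw [← Functor.map_comp, ← Functor.map_comp, φ.comm₁]
  have c₂ : ∀ n, (homologyFunctor C n).map T.mor₂ ≫ (homologyFunctor C n).map φ.hom₃ =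
      (homologyFunctor C n).map φ.hom₂ ≫ (homologyFunctor C n).map T'.mor₂ := fun n => by
    rw [← Functor.map_comp, ← Functor.map_comp, φ.comm₂]
  intro i hi
  obtain ⟨hb₁, hb₂⟩ := h₂ i hi
  obtain ⟨ha₁, ha₂⟩ := h₁ (i + 1) (hs i hi)
  exact ⟨four_epi (fun _ => exact₁ T hT i (i + 1) rfl) (δ_comp T hT i (i + 1) rfl)
      (comp_δ T' hT' i (i + 1) rfl) (exact₃ T' hT' i (i + 1) rfl) (δ_comp T' hT' i (i + 1) rfl)
      (c₂ i) (hδ i (i + 1) rfl) (c₁ (i + 1)) hb₁ ha₁ hb₂,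
    four_mono (by rw [← Functor.map_comp, comp_distTriang_mor_zero₁₂ _ hT, Functor.map_zero])
      (comp_δ T hT (i + 1) (i + 1 + 1) rfl) (exact₃ T hT (i + 1) (i + 1 + 1) rfl) _
      (exact₂ T' hT' (i + 1)) (c₁ (i + 1)) (c₂ (i + 1)) (hδ (i + 1) (i + 1 + 1) rfl) ha₁ hb₂ ha₂⟩

theorem dcond_shift {s : Set ℤ} {A B : DerivedCategory C} {α : A ⟶ B} (h : DCond s α) (n : ℤ) :
    DCond {i | i + n ∈ s} (α⟦n⟧') := by
  have e : ∀ i j, n + i = j → (Arrow.mk ((DerivedCategory.homologyFunctor C i).map (α⟦n⟧')) ≅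
      Arrow.mk ((DerivedCategory.homologyFunctor C j).map α)) := fun i j hij =>
    ((Functor.mapArrowFunctor _ _).mapIso
      ((DerivedCategory.homologyFunctor C 0).shiftIso n i j hij)).app (Arrow.mk α)
  intro i hi
  exact ⟨((MorphismProperty.epimorphisms _).arrow_mk_iso_iff (e i (i + n) (add_comm _ _))).2 (h _ hi).1,
    ((MorphismProperty.monomorphisms _).arrow_mk_iso_iff (e (i + 1) (i + n + 1) (by ring))).2 (h _ hi).2⟩

theorem isZero_homology_of_dcond {T : Triangle (DerivedCategory C)} (hT : T ∈ distinguishedTriangles)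
    {s : Set ℤ} (h : DCond s T.mor₁) {i : ℤ} (hi : i ∈ s) :
    IsZero ((DerivedCategory.homologyFunctor C i).obj T.obj₃) :=
  (DerivedCategory.HomologySequence.exact₃ _ hT i (i + 1) rfl).isZero_of_both_zeros
    ((DerivedCategory.HomologySequence.epi_homologyMap_mor₁_iff _ hT i).1 (h i hi).1)
    ((DerivedCategory.HomologySequence.mono_homologyMap_mor₁_iff _ hT i (i + 1) rfl).1 (h i hi).2)

end DCond

variable {X : Scheme.{u}}

/-- Restriction along an open immersion on derived categories. -/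
noncomputable abbrev resD {Z : Scheme.{u}} (j : Z ⟶ X) [IsOpenImmersion j] : DCoh.D X ⥤ DCoh.D Z :=
  (Scheme.Modules.restrictFunctor j).mapDerivedCategory

/-- `Q` commutes with restriction. -/
noncomputable def resFac {Z : Scheme.{u}} (j : Z ⟶ X) [IsOpenImmersion j] :
    DerivedCategory.Q ⋙ resD j ≅ resX j ⋙ DerivedCategory.Q :=
  (Scheme.Modules.restrictFunctor j).mapDerivedCategoryFactors

/-- Restricting twice, on derived categories. -/
noncomputable def resDComp {Y Z : Scheme.{u}} (j : Y ⟶ X) [IsOpenImmersion j] (k : Z ⟶ Y)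
    [IsOpenImmersion k] : resD j ⋙ resD k ≅ resD (k ≫ j) :=
  letI : Localization.Lifting DerivedCategory.Q
      (HomologicalComplex.quasiIso X.Modules (ComplexShape.up ℤ))
      (resX j ⋙ resX k ⋙ DerivedCategory.Q) (resD j ⋙ resD k) :=
    ⟨(Functor.associator _ _ _).symm ≪≫ Functor.isoWhiskerRight (resFac j) _ ≪≫ Functor.associator _ _ _ ≪≫
      Functor.isoWhiskerLeft _ (resFac k)⟩
  Localization.liftNatIso DerivedCategory.Q (HomologicalComplex.quasiIso X.Modules (ComplexShape.up ℤ))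
    (resX j ⋙ resX k ⋙ DerivedCategory.Q) (resX (k ≫ j) ⋙ DerivedCategory.Q) _ _
    ((Functor.associator _ _ _).symm ≪≫ Functor.isoWhiskerRight (resCompIso j k).symm _)

/-- Data of an approximation over `j`. -/
def ApproxOn (s : Set ℤ) (K : DCoh.D X) {Z : Scheme.{u}} (j : Z ⟶ X) [IsOpenImmersion j] : Prop :=
  ∃ E : CochainComplex Z.Modules ℤ, DCoh.IsStrictlyPerfect E ∧
    ∃ α : DCoh.toD Z E ⟶ (resD j).obj K, DCond s α

/-- Locally, `K` receives a map satisfying `DCond s` from a strictly perfect complex. -/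
def Approx (s : Set ℤ) (K : DCoh.D X) : Prop :=
  ∀ x : X, ∃ (Z : Scheme.{u}) (j : Z ⟶ X) (_ : IsOpenImmersion j), x ∈ Set.range j ∧ ApproxOn s K j

theorem ApproxOn.res {s : Set ℤ} {K : DCoh.D X} {Z : Scheme.{u}} {j : Z ⟶ X} [IsOpenImmersion j]
    (h : ApproxOn s K j) {W : Scheme.{u}} (k : W ⟶ Z) [IsOpenImmersion k] {i : W ⟶ X} [IsOpenImmersion i]
    (hi : k ≫ j = i) : ApproxOn s K i := by
  subst hi
  obtain ⟨E, hE, α, hα⟩ := h
  exact ⟨_, isStrictlyPerfect_res k hE, (resFac k).inv.app E ≫ (resD k).map α ≫ (resDComp j k).hom.app K,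
    DCond.comp (dcond_of_isIso _) (DCond.comp (dcond_map _ hα) (dcond_of_isIso _))⟩

theorem Approx.exists_opens {s : Set ℤ} {K : DCoh.D X} (h : Approx s K) (x : X) :
    ∃ V : X.Opens, x ∈ V ∧ ∀ V' : X.Opens, V' ≤ V → ApproxOn s K V'.ι := by
  obtain ⟨Z, j, hj, hx, hZ⟩ := h x
  obtain ⟨V, k, hk, hxV, hkj⟩ := DPerf.exists_opens j hx
  exact ⟨V, hxV, fun V' hV' => hZ.res (X.homOfLE hV' ≫ k) (by rw [Category.assoc, hkj, Scheme.homOfLE_ι])⟩

theorem Approx.of_iso {s : Set ℤ} {K L : DCoh.D X} (e : K ≅ L) (h : Approx s K) : Approx s L := fun x => by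
  obtain ⟨Z, j, hj, hx, E, hE, α, hα⟩ := h x
  exact ⟨Z, j, hj, hx, E, hE, α ≫ (resD j).map e.hom, hα.comp (dcond_of_isIso _)⟩

theorem Approx.mono_set {s t : Set ℤ} (hts : t ⊆ s) {K : DCoh.D X} (h : Approx s K) : Approx t K :=
  fun x => by
    obtain ⟨Z, j, hj, hx, E, hE, α, hα⟩ := h x
    exact ⟨Z, j, hj, hx, E, hE, α, hα.mono_set hts⟩

theorem isStrictlyPerfect_brutGE {E : CochainComplex X.Modules ℤ} (hE : DCoh.IsStrictlyPerfect E) (c : ℤ) :
    DCoh.IsStrictlyPerfect (KFlat.brutGE E c) := by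
  obtain ⟨⟨a, b, hv⟩, hf⟩ := hE
  refine ⟨⟨a, b, fun i hi => ?_⟩, fun i => ?_⟩ <;> by_cases h : c ≤ i
  · exact (hv i hi).of_iso (KFlat.brutIso E h)
  · exact KFlat.brutGE_isZero E (by omega)
  · exact M2.isFinLocFree_of_iso (KFlat.brutIso E h).symm (hf i)
  · exact KFlat.Sch.isFinLocFree_of_isZero (KFlat.brutGE_isZero E (by omega))

theorem isStrictlyPerfect_cone {E F : CochainComplex X.Modules ℤ} (β : E ⟶ F)
    (hE : DCoh.IsStrictlyPerfect E) (hF : DCoh.IsStrictlyPerfect F) :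
    DCoh.IsStrictlyPerfect (CochainComplex.mappingCone β) := by
  obtain ⟨⟨a, b, hv⟩, hf⟩ := hE
  obtain ⟨⟨c, d, hv'⟩, hf'⟩ := hF
  refine ⟨⟨min (a - 1) c, max b d, fun i hi => ?_⟩, fun i => ?_⟩
  · exact IsZero.of_iso (biprod_isZero_iff _ _ |>.2 ⟨hv (i + 1) (by omega), hv' i (by omega)⟩)
      (HomologicalComplex.homotopyCofiber.XIsoBiprod β i (i + 1) rfl)
  · exact M2.isFinLocFree_of_iso (HomologicalComplex.homotopyCofiber.XIsoBiprod β i (i + 1) rfl).symm
      (KFlat.Sch.isFinLocFree_biprod (hf (i + 1)) (hf' i))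

theorem isStrictlyPerfect_shift {E : CochainComplex X.Modules ℤ} (hE : DCoh.IsStrictlyPerfect E) (n : ℤ) :
    DCoh.IsStrictlyPerfect (E⟦n⟧) := by
  obtain ⟨⟨a, b, hv⟩, hf⟩ := hE
  exact ⟨⟨a - n, b - n, fun i hi => hv (i + n) (by omega)⟩, fun i => hf (i + n)⟩

theorem Approx.shift {s : Set ℤ} {K : DCoh.D X} (h : Approx s K) (n : ℤ) :
    Approx {i | i + n ∈ s} (K⟦n⟧) := fun x => by
  obtain ⟨Z, j, hj, hx, E, hE, α, hα⟩ := h x
  exact ⟨Z, j, hj, hx, _, isStrictlyPerfect_shift hE n,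
    (DerivedCategory.Q.commShiftIso n).hom.app E ≫ α⟦n⟧' ≫ ((resD j).commShiftIso n).inv.app K,
    DCond.comp (dcond_of_isIso _) (DCond.comp (dcond_shift hα n) (dcond_of_isIso _))⟩

/-- A morphism from a strictly perfect complex to an object without cohomology in degrees `≥ a` is locally
zero. -/
theorem exists_zero {E : CochainComplex X.Modules ℤ} {C : DCoh.D X} (γ : DCoh.toD X E ⟶ C)
    (hE : DCoh.IsStrictlyPerfect E) (a : ℤ) (hEa : ∀ i, i < a → IsZero (E.X i))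
    (hC : ∀ i, a ≤ i → IsZero (DCoh.HD C i)) (x : X) :
    ∃ (Z : Scheme.{u}) (j : Z ⟶ X) (_ : IsOpenImmersion j), x ∈ Set.range j ∧ (resD j).map γ = 0 := by
  obtain ⟨G, ⟨eG⟩⟩ := Functor.EssSurj.mem_essImage
    (F := (DerivedCategory.Q : CochainComplex X.Modules ℤ ⥤ _)) C
  obtain ⟨Z, j, hj, hx, β, hβ⟩ := exists_represent hE (γ ≫ eG.inv) x
  obtain ⟨y, hy⟩ := hx
  obtain ⟨W, k, hk, hky, ⟨H⟩⟩ := exists_nullHomotopic β (isStrictlyPerfect_res j hE) a
    (fun i hi => (Scheme.Modules.restrictFunctor j).map_isZero (hEa i hi))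
    (fun i hi => ((KFlat.Sch.isZero_HD_toD_iff G i).1
      ((KFlat.Sch.isZero_HD_iff_of_iso eG i).2 (hC i hi))).map (Scheme.Modules.restrictFunctor j)) y
  refine ⟨W, k ≫ j, inferInstance, range_comp_mem j k hy hky, ?_⟩
  have h0 : (resD k).map (DerivedCategory.Q.map β) = 0 := by
    rw [← cancel_mono ((resFac k).hom.app _), zero_comp]
    refine ((resFac k).hom.naturality β).trans ?_
    change _ ≫ DerivedCategory.Q.map ((resX k).map β) = 0
    rw [DerivedCategory.Q_map_eq_of_homotopy _ H, Functor.map_zero, comp_zero]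
  have h1 : (resD k).map ((resD j).map γ) = 0 := by
    rw [show γ = (γ ≫ eG.inv) ≫ eG.hom by simp, Functor.map_comp, Functor.map_comp, hβ]
    simp [h0]
  rw [← cancel_epi ((resDComp j k).hom.app _), comp_zero, ← (resDComp j k).hom.naturality γ,
    Functor.comp_map, h1, zero_comp]

theorem approx_cone {s s' : Set ℤ} (hs : ∀ i ∈ s, i + 1 ∈ s')
    (htr : ∀ {Z : Scheme.{u}} (E : CochainComplex Z.Modules ℤ), DCoh.IsStrictlyPerfect E →
      ∃ (E' : CochainComplex Z.Modules ℤ) (ι : E' ⟶ E) (a : ℤ), DCoh.IsStrictlyPerfect E' ∧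
        HCond s' ι ∧ (∀ i, i < a → IsZero (E'.X i)) ∧ Set.Ici a ⊆ s)
    (T : Triangle (DCoh.D X)) (hT : T ∈ distinguishedTriangles)
    (h₁ : Approx s' T.obj₁) (h₂ : Approx s T.obj₂) : Approx s T.obj₃ := by
  intro x
  obtain ⟨V₁, hx₁, H₁⟩ := h₁.exists_opens x
  obtain ⟨V₂, hx₂, H₂⟩ := h₂.exists_opens x
  let V : X.Opens := V₁ ⊓ V₂
  obtain ⟨E₀, hE₀, α₀, hα₀⟩ := H₁ V inf_le_left
  obtain ⟨E₂, hE₂, α₂, hα₂⟩ := H₂ V inf_le_right
  obtain ⟨E₁, ι, a, hE₁, hι, hE₁a, ha⟩ := htr E₀ hE₀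
  let α₁ : DCoh.toD _ E₁ ⟶ (resD V.ι).obj T.obj₁ := DerivedCategory.Q.map ι ≫ α₀
  have hα₁ : DCond s' α₁ := ((dcond_Q_iff ι).2 hι).comp hα₀
  obtain ⟨C, g, h, hC⟩ := distinguished_cocone_triangle α₂
  obtain ⟨W, k, hk, ⟨y, hy⟩, hγ⟩ := exists_zero (α₁ ≫ (resD V.ι).map T.mor₁ ≫ g) hE₁ a hE₁a
    (fun i hi => isZero_homology_of_dcond hC hα₂ (ha hi)) ⟨x, ⟨hx₁, hx₂⟩⟩
  obtain ⟨b, hb⟩ := Triangle.coyoneda_exact₂ _ ((resD k).map_distinguished _ hC)
    ((resFac k).inv.app E₁ ≫ (resD k).map α₁ ≫ (resD k).map ((resD V.ι).map T.mor₁)) (by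
      have h' : (resFac k).inv.app E₁ ≫ (resD k).map α₁ ≫ (resD k).map ((resD V.ι).map T.mor₁) ≫
          (resD k).map g = 0 := by
        rw [← Functor.map_comp, ← Functor.map_comp, hγ, comp_zero]
      exact (Category.assoc _ _ _).trans ((congrArg (_ ≫ ·) (Category.assoc _ _ _)).trans h'))
  obtain ⟨W', l, hl, hly, β, hβ⟩ := exists_represent (isStrictlyPerfect_res k hE₁)
    (b ≫ (resFac k).hom.app E₂) y
  let T₂ := (resD l).mapTriangle.obj ((resD k).mapTriangle.obj ((resD V.ι).mapTriangle.obj T))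
  have hT₂ : T₂ ∈ distinguishedTriangles :=
    (resD l).map_distinguished _ ((resD k).map_distinguished _ ((resD V.ι).map_distinguished _ hT))
  let a₁ : DCoh.toD W' ((resX l).obj ((resX k).obj E₁)) ⟶ T₂.obj₁ :=
    (resFac l).inv.app _ ≫ (resD l).map ((resFac k).inv.app E₁ ≫ (resD k).map α₁)
  let a₂ : DCoh.toD W' ((resX l).obj ((resX k).obj E₂)) ⟶ T₂.obj₂ :=
    (resFac l).inv.app _ ≫ (resD l).map ((resFac k).inv.app E₂ ≫ (resD k).map α₂)
  have ha₁ : DCond s' a₁ :=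
    (dcond_of_isIso _).comp (dcond_map _ ((dcond_of_isIso _).comp (dcond_map _ hα₁)))
  have ha₂ : DCond s a₂ :=
    (dcond_of_isIso _).comp (dcond_map _ ((dcond_of_isIso _).comp (dcond_map _ hα₂)))
  have hsq : DerivedCategory.Q.map β ≫ a₂ = a₁ ≫ T₂.mor₁ := by
    have hb' : b ≫ (resD k).map α₂ = (resFac k).inv.app E₁ ≫ (resD k).map α₁ ≫
        (resD k).map ((resD V.ι).map T.mor₁) := hb.symm
    change DerivedCategory.Q.map β ≫ (resFac l).inv.app _ ≫
        (resD l).map ((resFac k).inv.app E₂ ≫ (resD k).map α₂) =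
      ((resFac l).inv.app _ ≫ (resD l).map ((resFac k).inv.app E₁ ≫ (resD k).map α₁)) ≫
        (resD l).map ((resD k).map ((resD V.ι).map T.mor₁))
    have hβ' : DerivedCategory.Q.map β ≫ (resFac l).inv.app _ =
        (resFac l).inv.app _ ≫ (resD l).map (b ≫ (resFac k).hom.app E₂) := by
      rw [hβ]; exact ((resFac l).app _).inv_hom_id_assoc _ |>.symm
    rw [reassoc_of% hβ', ← Functor.map_comp]
    refine (congrArg (fun t => (resFac l).inv.app _ ≫ (resD l).map t) ?_).trans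
      ((congrArg (_ ≫ ·) ((resD l).map_comp _ _)).trans (Category.assoc _ _ _).symm)
    refine (Category.assoc _ _ _).trans ((congrArg (b ≫ ·) ((resFac k).app E₂ |>.hom_inv_id_assoc _)).trans ?_)
    exact hb'.trans (Category.assoc _ _ _).symm
  let T₁ := DerivedCategory.Q.mapTriangle.obj (CochainComplex.mappingCone.triangle β)
  have hT₁ : T₁ ∈ distinguishedTriangles := DerivedCategory.mappingCone_triangle_distinguished β
  let φ := completeDistinguishedTriangleMorphism T₁ T₂ hT₁ hT₂ a₁ a₂ hsq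
  refine ⟨W', (l ≫ k) ≫ V.ι, inferInstance,
    range_comp_mem V.ι (l ≫ k) rfl (range_comp_mem k l hy hly), _,
    isStrictlyPerfect_cone β (isStrictlyPerfect_res l (isStrictlyPerfect_res k hE₁))
      (isStrictlyPerfect_res l (isStrictlyPerfect_res k hE₂)),
    (φ.hom₃ ≫ (resDComp k l).hom.app _) ≫ (resDComp V.ι (l ≫ k)).hom.app T.obj₃,
    ((dcond_hom₃ hT₁ hT₂ φ hs ha₁ ha₂).comp
      (@dcond_of_isIso _ _ _ _ _ _ _ _ ((resDComp k l).app _).isIso_hom)).comp
      (@dcond_of_isIso _ _ _ _ _ _ _ _ ((resDComp V.ι (l ≫ k)).app _).isIso_hom)⟩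

end Groth.Agent.DPerf
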