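import Groth.Agent.Lib.DPerf.Single
import Groth.Agent.Lib.KFlat.TorCriterion
import Groth.Prelude.Def_DTor2

/-!
Pseudo-coherent objects of finite tor amplitude are perfect.
-/

set_option autoImplicit false
set_option linter.unusedSectionVars false

universe u

open CategoryTheory CategoryTheory.Limits CategoryTheory.Pretriangulated AlgebraicGeometry
open CochainComplex CochainComplex.HomComplex

attribute [local instance] HasDerivedCategory.standard

namespace Groth.Agent.DPerf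

variable {X : Scheme.{u}}

theorem isFlat_res {Z : Scheme.{u}} (j : Z ⟶ X) [IsOpenImmersion j] {M : X.Modules} (h : FlatMod.IsFlat M) :
    FlatMod.IsFlat (M.restrict j) :=
  (KFlat.Sch.isFlat_iff _).1
    ((KFlat.Sch.isFlat_pullback j ((KFlat.Sch.isFlat_iff M).2 h)).of_iso
      ((Scheme.Modules.restrictFunctorIsoPullback j).app M))

theorem flatAmplitude_res {Z : Scheme.{u}} (j : Z ⟶ X) [IsOpenImmersion j] {K : DCoh.D X} {a b : ℤ}
    (h : DCoh.HasFlatAmplitudeIn a b K) : DCoh.HasFlatAmplitudeIn a b ((resD j).obj K) := by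
  obtain ⟨F, hF, hflat, ⟨e⟩⟩ := h
  exact ⟨(resX j).obj F, fun i hi => (Scheme.Modules.restrictFunctor j).map_isZero (hF i hi),
    fun i => isFlat_res j (hflat i), ⟨((resFac j).app F).symm ≪≫ (resD j).mapIso e⟩⟩

set_option maxHeartbeats 800000 in
/-- The key step: the cokernel in degree `a` is finite locally free. -/
theorem isFinLocFree_cokernel_of_cone {P F : CochainComplex X.Modules ℤ} (β : P ⟶ F)
    (hP : DCoh.IsStrictlyPerfect P) (a b : ℤ) (hF : DCoh.VanishesOutside F a b)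
    (hFflat : ∀ i, FlatMod.IsFlat (F.X i)) (hβ : HCond (Set.Ici (a - 1)) β) :
    FlatMod.IsFinLocFree (cokernel (P.d (a - 1) a)) := by
  obtain ⟨hiso, hepi⟩ := (hcond_Ici_iff β (a - 1)).1 hβ
  have hex : ∀ i, a - 1 ≤ i → (mappingCone β).ExactAt i := exactAt_mappingCone β (a - 1) hiso hepi
  obtain ⟨⟨c, d, hv⟩, hf⟩ := hP
  have hCflat : ∀ i, FlatMod.IsFlat ((mappingCone β).X i) := fun i =>
    (KFlat.Sch.isFlat_iff _).1 (((((KFlat.Sch.isFlat_iff _).2
      (KFlat.Sch.isFlat_of_isFinLocFree (hf (i + 1)))).biprod ((KFlat.Sch.isFlat_iff _).2 (hFflat i))).of_iso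
        (HomologicalComplex.homotopyCofiber.XIsoBiprod β i (i + 1) rfl)))
  have hb : ∀ i, max d b < i → IsZero ((mappingCone β).X i) := fun i hi =>
    IsZero.of_iso (biprod_isZero_iff _ _ |>.2 ⟨hv (i + 1) (by omega), hF i (by omega)⟩)
      (HomologicalComplex.homotopyCofiber.XIsoBiprod β i (i + 1) rfl)
  have hZ : FlatMod.IsFlat ((mappingCone β).cycles a) :=
    cycles_prop (C := X.Modules) (fun M : X.Modules => FlatMod.IsFlat M)
      (fun h => (KFlat.Sch.isFlat_iff _).1 (KFlat.isFlat_of_isZero h)) (fun i p w => isFlat_kernel i p w)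
      (mappingCone β) (max d b) hb hCflat (max d b + 1 - a).toNat a (by omega) fun i hi => hex i (by omega)
  have hfst : ∀ p q (hpq : p + 1 = q), p < a → IsIso ((mappingCone.fst β).1.v p q hpq) := fun p q hpq hp =>
    ⟨(mappingCone.inl β).v q p (by omega), by
      have h := mappingCone.id_X β p q hpq
      rw [(hF p (Or.inl hp)).eq_of_tgt ((mappingCone.snd β).v p p (add_zero p)) 0, zero_comp, add_zero] at h
      exact h, by simp⟩
  have := hfst (a - 1) a (by omega) (by omega)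
  have := hfst (a - 2) (a - 1) (by omega) (by omega)
  let v₁ := (mappingCone.fst β).1.v (a - 2) (a - 1) (by omega)
  let v₂ := (mappingCone.fst β).1.v (a - 1) a (by omega)
  have hsq : (mappingCone β).d (a - 2) (a - 1) ≫ v₂ = -(v₁ ≫ P.d (a - 1) a) :=
    (mappingCone.d_fst_v β (a - 2) (a - 1) a (by omega) (by omega)).trans (by simp [v₁])
  let e : cokernel ((mappingCone β).d (a - 2) (a - 1)) ≅ cokernel (P.d (a - 1) a) :=
    cokernel.mapIso _ _ (-asIso v₁) (asIso v₂) (by simp [hsq])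
  have w : (mappingCone β).d (a - 2) (a - 1) ≫ (mappingCone β).toCycles (a - 1) a = 0 := by
    rw [← cancel_mono ((mappingCone β).iCycles a), Category.assoc, HomologicalComplex.toCycles_i,
      HomologicalComplex.d_comp_d, zero_comp]
  have hs : (ShortComplex.mk _ _ w).Exact := by
    let φ : ShortComplex.mk _ _ w ⟶ (mappingCone β).sc' (a - 2) (a - 1) a :=
      { τ₁ := 𝟙 _
        τ₂ := 𝟙 _
        τ₃ := (mappingCone β).iCycles a
        comm₁₂ := (Category.id_comp _).trans (Category.comp_id _).symm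
        comm₂₃ := (Category.id_comp _).trans ((mappingCone β).toCycles_i (a - 1) a).symm }
    have : Epi φ.τ₁ := inferInstanceAs (Epi (𝟙 _))
    have : IsIso φ.τ₂ := inferInstanceAs (IsIso (𝟙 _))
    have : Mono φ.τ₃ := inferInstanceAs (Mono ((mappingCone β).iCycles a))
    refine (ShortComplex.exact_iff_of_epi_of_isIso_of_mono φ).2 ?_
    exact ((mappingCone β).exactAt_iff' (a - 2) (a - 1) a (by simp; omega) (by simp)).1 (hex (a - 1) le_rfl)
  have := epi_toCycles (mappingCone β) (a - 1) a (by omega) (hex a (by omega))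
  have hflat : FlatMod.IsFlat (cokernel (P.d (a - 1) a)) := (KFlat.Sch.isFlat_iff _).1
    (((KFlat.Sch.isFlat_iff _).2 hZ).of_iso (e.symm ≪≫
      (cokernelIsCokernel _).coconePointUniqueUpToIso hs.gIsCokernel))
  have h1 := M1.isFP_of_isFinLocFree (hf (a - 1))
  have hFP : CohB1.IsFP (cokernel (P.d (a - 1) a)) :=
    isFP_cokernel (M1.isFP_isQCoh h1) (M1.isFP_isFT h1) (M1.isFP_of_isFinLocFree (hf a)) _
  exact (M1.isFinLocFree_iff _).2 ⟨hFP, fun x => M1.free_stalk_of_flat hFP x (hflat x)⟩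

theorem isStrictlyPerfect_truncGE {P : CochainComplex X.Modules ℤ} (hP : DCoh.IsStrictlyPerfect P) (a : ℤ)
    (h : FlatMod.IsFinLocFree (cokernel (P.d (a - 1) a))) : DCoh.IsStrictlyPerfect (P.truncGE a) := by
  obtain ⟨⟨c, d, hv⟩, hf⟩ := hP
  refine ⟨⟨a, max a d, fun i hi => ?_⟩, fun i => ?_⟩
  · rcases hi with hi | hi
    · exact (P.truncGE a).isZero_of_isStrictlyGE a i hi
    · exact (hv i (Or.inr (by omega))).of_iso (CochainComplex.truncGEXIso P a i (by omega))
  · rcases lt_trichotomy i a with hi | hi | hi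
    · exact KFlat.Sch.isFinLocFree_of_isZero ((P.truncGE a).isZero_of_isStrictlyGE a i hi)
    · subst hi
      exact M2.isFinLocFree_of_iso ((CochainComplex.truncGEXIsoOpcycles P i ≪≫
        (P.opcyclesIsCokernel (i - 1) i (by simp)).coconePointUniqueUpToIso (colimit.isColimit _)).symm) h
    · exact M2.isFinLocFree_of_iso (CochainComplex.truncGEXIso P a i hi).symm (hf i)

theorem approx_univ_of_flatAmplitude {K : DCoh.D X} {a b : ℤ} (h₁ : DCoh.HasFlatAmplitudeIn a b K)
    (h₂ : Approx (Set.Ici (a - 1)) K) : Approx Set.univ K := fun x => by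
  obtain ⟨Z, j, hj, ⟨z, hz⟩, P, hP, α, hα⟩ := h₂ x
  obtain ⟨F, hF, hflat, ⟨e⟩⟩ := flatAmplitude_res j h₁
  obtain ⟨W, k, hk, hzk, β, hβ⟩ := exists_represent hP (α ≫ e.inv) z
  have hPW := isStrictlyPerfect_res k hP
  have hFW : DCoh.VanishesOutside ((resX k).obj F) a b := fun i hi =>
    (Scheme.Modules.restrictFunctor k).map_isZero (hF i hi)
  have hβ' : HCond (Set.Ici (a - 1)) β := by
    refine (dcond_Q_iff β).1 ?_
    rw [show DerivedCategory.Q.map β = (resFac k).inv.app P ≫ (resD k).map (α ≫ e.inv) ≫ (resFac k).hom.app F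
      by
        rw [show (resD k).map (α ≫ e.inv) = (resFac k).hom.app P ≫ DerivedCategory.Q.map β ≫
          (resFac k).inv.app F from hβ]
        simp]
    exact DCond.comp (dcond_of_isIso _)
      (DCond.comp (dcond_map _ (hα.comp (dcond_of_isIso _))) (dcond_of_isIso _))
  have hcok := isFinLocFree_cokernel_of_cone β hPW a b hFW (fun i => isFlat_res k (hflat i)) hβ'
  have : ((resX k).obj F).IsStrictlyGE a :=
    (CochainComplex.isStrictlyGE_iff _ a).2 fun i hi => hFW i (Or.inl hi)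
  have : QuasiIso (CochainComplex.truncGEMap β a) := by
    rw [CochainComplex.quasiIso_truncGEMap_iff]
    intro i hi
    rw [quasiIsoAt_iff_isIso_homologyMap]
    exact ((hcond_Ici_iff β (a - 1)).1 hβ').1 i (by omega)
  let γ : DCoh.toD W (((resX k).obj P).truncGE a) ⟶ (resD k).obj ((resD j).obj K) :=
    (asIso (DerivedCategory.Q.map (CochainComplex.truncGEMap β a)) ≪≫
      (asIso (DerivedCategory.Q.map (((resX k).obj F).πTruncGE a))).symm ≪≫
      ((resFac k).app F).symm ≪≫ (resD k).mapIso e).hom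
  refine ⟨W, k ≫ j, inferInstance, range_comp_mem j k hz hzk, _, isStrictlyPerfect_truncGE hPW a hcok,
    γ ≫ (resDComp j k).hom.app K, DCond.comp (dcond_of_isIso γ)
      (@dcond_of_isIso _ _ _ _ _ _ _ _ ((resDComp j k).app K).isIso_hom)⟩

theorem flatAmplitude_of_isStrictlyPerfect {E : CochainComplex X.Modules ℤ} (hE : DCoh.IsStrictlyPerfect E) :
    ∃ a b, a ≤ b ∧ DCoh.HasFlatAmplitudeIn a b (DCoh.toD X E) := by
  obtain ⟨⟨a, b, hv⟩, hf⟩ := hE
  exact ⟨a, max a b, le_max_left _ _, E, fun i hi => hv i (by omega),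
    fun i => KFlat.Sch.isFlat_of_isFinLocFree (hf i), ⟨Iso.refl _⟩⟩

/-- Pseudo-coherent in every degree and locally of finite flat amplitude. -/
theorem isPerfect_of_pc_locFlat {K : DCoh.D X} (h₁ : ∀ m, Approx (Set.Ici m) K)
    (h₂ : ∀ x : X, ∃ (V : X.Opens) (a b : ℤ), x ∈ V ∧ DCoh.HasFlatAmplitudeIn a b ((resD V.ι).obj K)) :
    DCoh.IsPerfect K :=
  isPerfect_iff_approx.2 (Approx.of_locally fun x => by
    obtain ⟨V, a, b, hxV, h⟩ := h₂ x
    exact ⟨V, hxV, approx_univ_of_flatAmplitude h ((h₁ (a - 1)).res V)⟩)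

theorem exists_flatAmplitude_of_isPerfect {K : DCoh.D X} (h : DCoh.IsPerfect K) (x : X) :
    ∃ (V : X.Opens) (a b : ℤ), x ∈ V ∧ a ≤ b ∧ DCoh.HasFlatAmplitudeIn a b ((resD V.ι).obj K) := by
  obtain ⟨V, hxV, hV⟩ := (isPerfect_iff_approx.1 h).exists_opens x
  obtain ⟨E, hE, α, hα⟩ := hV V le_rfl
  have := isIso_of_dcond_univ hα
  obtain ⟨a, b, hab, F, hF, hflat, ⟨e⟩⟩ := flatAmplitude_of_isStrictlyPerfect hE
  exact ⟨V, a, b, hxV, hab, F, hF, hflat, ⟨e ≪≫ asIso α⟩⟩

theorem torAmplitude_of_retract {K M : DCoh.D X} {a b : ℤ} (i : K ⟶ M) (p : M ⟶ K) (h : i ≫ p = 𝟙 K)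
    (hM : DCoh.HasTorAmplitudeIn a b M) : DCoh.HasTorAmplitudeIn a b K := by
  intro F _ n hn
  let G := DCoh.LTensorMod F ⋙ DerivedCategory.homologyFunctor X.Modules n
  have : Mono (G.map i) := (SplitMono.mk (G.map p) (by rw [← G.map_comp, h, G.map_id])).mono
  exact IsZero.of_mono (G.map i) (hM F n hn)

end Groth.Agent.DPerf
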