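import Groth.Agent.Lib.DPerf.Betti
import Mathlib.Algebra.BigOperators.Finprod
import Mathlib.Topology.LocallyConstant.Basic
import Mathlib.AlgebraicGeometry.AffineScheme

/-!
Semicontinuity of fibre dimensions and local constancy of the Euler characteristic.
-/

set_option autoImplicit false
set_option linter.unusedSectionVars false
set_option backward.isDefEq.respectTransparency false

universe u

open CategoryTheory CategoryTheory.Limits AlgebraicGeometry Opposite

attribute [local instance] HasDerivedCategory.standard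

namespace Groth.Agent.DPerf

open RankSC

variable {X : Scheme.{u}}

/-- A point of a chart yields a map to the residue field with the right kernel. -/
theorem exists_chart_map {R : CommRingCat.{u}} (j : Spec R ⟶ X) [IsOpenImmersion j] (z : Spec R) :
    ∃ φ : Spec (X.residueField (j z)) ⟶ Spec R,
      φ ≫ j = X.fromSpecResidueField (j z) ∧ z.asIdeal = RingHom.ker (Spec.preimage φ).hom := by
  have hr : Set.range (X.fromSpecResidueField (j z)) ⊆ Set.range j := by
    rw [Scheme.range_fromSpecResidueField, Set.singleton_subset_iff]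
    exact ⟨z, rfl⟩
  refine ⟨IsOpenImmersion.lift j (X.fromSpecResidueField (j z)) hr, IsOpenImmersion.lift_fac _ _ _, ?_⟩
  set φ := IsOpenImmersion.lift j (X.fromSpecResidueField (j z)) hr with hφ
  let pt : Spec (X.residueField (j z)) := ⟨⊥, Ideal.isPrime_bot⟩
  have hpt : φ pt = z := by
    apply j.isOpenEmbedding.injective
    rw [← Scheme.Hom.comp_apply, hφ, IsOpenImmersion.lift_fac, Scheme.fromSpecResidueField_apply]
  have h2 : (Spec.map (Spec.preimage φ)) pt = z := by rw [Spec.map_preimage]; exact hpt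
  exact congrArg PrimeSpectrum.asIdeal h2.symm

/-- Fibre dimensions in a chart. -/
theorem exists_betti_chart [∀ x : X, DCoh.HasLpull (X.fromSpecResidueField x)] {s : Set ℤ}
    {E : DCoh.D X} (h : Approx s E) (x : X) (m : ℤ) (hs : Set.Ici m ⊆ s) :
    ∃ (R : CommRingCat.{u}) (j : Spec R ⟶ X) (_ : IsOpenImmersion j) (P : DRing.Cx R) (a b : ℤ)
      (_ : Nontrivial R), x ∈ Set.range j ∧ DRing.VanishesOutside P a b ∧ DRing.TermwiseFiniteFree P ∧
      ∀ z : Spec R, ∃ (κ : Type u) (_ : Field κ) (ψ : R →+* κ), z.asIdeal = RingHom.ker ψ ∧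
        ∀ i, m < i → PerfD.betti E (j z) i + rk P ψ i (i + 1) + rk P ψ (i - 1) i =
          Module.finrank R (P.X i) := by
  obtain ⟨R, j, hj, P, a, b, hx, hP, hF, α, hα⟩ := exists_free_chart h x
  obtain ⟨z₀, hz₀⟩ := id hx
  have hR : Nontrivial R := PrimeSpectrum.nontrivial z₀
  refine ⟨R, j, hj, P, a, b, hR, hx, hP, hF, fun z => ?_⟩
  obtain ⟨φ, hφ, hz⟩ := exists_chart_map j z
  refine ⟨X.residueField (j z), inferInstance, (Spec.preimage φ).hom, hz, fun i hi => ?_⟩
  rw [betti_eq (j z) j P hP hF α hα φ hφ i m hs hi]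
  have := (hF i).1
  have := (hF i).2
  exact finrank_homology_ext P _ i

theorem isOpen_betti_lt [∀ x : X, DCoh.HasLpull (X.fromSpecResidueField x)] {E : DCoh.D X} (p : ℤ)
    (h : DCoh.IsPseudoCoherentD (p - 1) E) (n : ℕ) : IsOpen {x : X | PerfD.betti E x p < n} := by
  refine isOpen_iff_forall_mem_open.2 fun x hx => ?_
  obtain ⟨R, j, hj, P, a, b, _, ⟨z₀, hz₀⟩, hP, hF, hf⟩ :=
    exists_betti_chart (approx_of_isPseudoCoherentD h) x (p - 1) subset_rfl
  have := fun i => (hF i).1
  have := fun i => (hF i).2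
  choose U₁ hU₁ h₁ using fun k => exists_open_rk P p (p + 1) k
  choose U₂ hU₂ h₂ using fun k => exists_open_rk P (p - 1) p k
  let W : Set (Spec R) := ⋃ (k : ℕ) (l : ℕ) (_ : Module.finrank R (P.X p) < n + k + l), U₁ k ∩ U₂ l
  have hW : ∀ z, z ∈ W ↔ PerfD.betti E (j z) p < n := by
    intro z
    obtain ⟨κ, _, ψ, hz, hψ⟩ := hf z
    have hb := hψ p (by omega)
    simp only [W, Set.mem_iUnion, exists_prop, Set.mem_inter_iff]
    constructor
    · rintro ⟨k, l, hlt, hk, hl⟩
      have := (h₁ k κ ψ z hz).1 hk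
      have := (h₂ l κ ψ z hz).1 hl
      omega
    · exact fun hlt => ⟨_, _, by omega, (h₁ _ κ ψ z hz).2 le_rfl, (h₂ _ κ ψ z hz).2 le_rfl⟩
  refine ⟨j '' W, ?_, j.isOpenEmbedding.isOpenMap _ (isOpen_iUnion fun k => isOpen_iUnion fun l =>
    isOpen_iUnion fun _ => (hU₁ k).inter (hU₂ l)), ⟨z₀, (hW z₀).2 (by rw [hz₀]; exact hx), hz₀⟩⟩
  rintro _ ⟨z, hz, rfl⟩
  exact (hW z).1 hz

theorem isLocallyConstant_eulerChar [∀ x : X, DCoh.HasLpull (X.fromSpecResidueField x)]
    {E : DCoh.D X} (hE : DCoh.IsPerfect E) :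
    IsLocallyConstant (fun x : X => PerfD.eulerChar E x) := by
  refine (IsLocallyConstant.iff_exists_open _).2 fun x => ?_
  have hA := isPerfect_iff_approx.1 hE
  obtain ⟨R, j, hj, P, a, b, hx, hP, hF, α, hα⟩ := exists_free_chart hA x
  have : Nontrivial R := by obtain ⟨z₀, -⟩ := hx; exact PrimeSpectrum.nontrivial z₀
  have := fun i => (hF i).1
  have := fun i => (hF i).2
  suffices hc : ∀ z : Spec R, PerfD.eulerChar E (j z) =
      finsum fun i : ℤ => (i.negOnePow : ℤ) * (Module.finrank R (P.X i) : ℤ) by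
    refine ⟨Set.range j, j.isOpenEmbedding.isOpen_range, hx, ?_⟩
    rintro _ ⟨z, rfl⟩
    obtain ⟨z₀, rfl⟩ := hx
    rw [hc z, hc z₀]
  intro z
  obtain ⟨φ, hφ, -⟩ := exists_chart_map j z
  set ψ := (Spec.preimage φ).hom
  have hbetti : ∀ i, (PerfD.betti E (j z) i : ℤ) + rk P ψ i (i + 1) + rk P ψ (i - 1) i =
      Module.finrank R (P.X i) := fun i => by
    rw [betti_eq (j z) j P hP hF α hα φ hφ i (i - 1) (Set.subset_univ _) (by omega)]
    exact_mod_cast finrank_homology_ext P ψ i
  have hz : ∀ i, i ∉ Finset.Icc (a - 1) b →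
      Module.finrank R (P.X i) = 0 ∧ rk P ψ i (i + 1) = 0 := by
    intro i hi
    have : Subsingleton (P.X i) :=
      ModuleCat.subsingleton_of_isZero (hP i (by simp only [Finset.mem_Icc] at hi; omega))
    have h0 : Module.finrank R (P.X i) = 0 := Module.finrank_zero_of_subsingleton
    exact ⟨h0, by have := hbetti i; omega⟩
  have fin : ∀ f : ℤ → ℤ, (∀ i, i ∉ Finset.Icc (a - 1) (b + 1) → f i = 0) →
      (Function.support f).Finite := fun f hf =>
    (Finset.Icc (a - 1) (b + 1)).finite_toSet.subset fun i hi => by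
      by_contra h; exact hi (hf i h)
  let r : ℤ → ℤ := fun i => (i.negOnePow : ℤ) * (rk P ψ i (i + 1) : ℤ)
  have hr : (Function.support r).Finite := fin r fun i hi => by
    simp [r, (hz i (by simp only [Finset.mem_Icc] at hi ⊢; omega)).2]
  have hshift : finsum r = finsum fun i => r (i - 1) :=
    (finsum_comp_equiv (Equiv.subRight (1 : ℤ)) (f := r)).symm
  have hr' : (Function.support fun i => r (i - 1)).Finite := fin _ fun i hi => by
    have h0 := (hz (i - 1) (by simp only [Finset.mem_Icc] at hi ⊢; omega)).2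
    simp only [sub_add_cancel] at h0
    simp [r, h0]
  have hn : (Function.support fun i : ℤ => (i.negOnePow : ℤ) * (Module.finrank R (P.X i) : ℤ)).Finite :=
    fin _ fun i hi => by simp [(hz i (by simp only [Finset.mem_Icc] at hi ⊢; omega)).1]
  have key : ∀ i : ℤ, (i.negOnePow : ℤ) * (PerfD.betti E (j z) i : ℤ) =
      (i.negOnePow : ℤ) * (Module.finrank R (P.X i) : ℤ) - (r i - r (i - 1)) := by
    intro i
    have h1 : ((i - 1).negOnePow : ℤ) = -(i.negOnePow : ℤ) := by
      simp [Int.negOnePow_sub, Int.negOnePow_one]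
    simp only [r, sub_add_cancel, h1, ← hbetti i]
    ring
  rw [PerfD.eulerChar, finsum_congr key, finsum_sub_distrib hn ((hr.union hr').subset
    (Function.support_sub _ _)), finsum_sub_distrib hr hr', ← hshift, sub_self, sub_zero]

end Groth.Agent.DPerf
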