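import Groth.Agent.Lib.ModM1.LocFree
import Groth.Agent.Lib.TensorMod.Invertible
import Groth.Agent.Lib.KFlat.FinLocFree
import Groth.Agent.Lib.KFlat.LTor
import Groth.Prelude.Def_DCoh2
import Mathlib.Algebra.Homology.HomotopyCategory.MappingCone

/-!
Local lifting and local null-homotopies for maps out of strictly perfect complexes.
-/

set_option autoImplicit false
set_option linter.unusedSectionVars false

universe u

open CategoryTheory CategoryTheory.Limits AlgebraicGeometry CochainComplex.HomComplex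

attribute [local instance] HasDerivedCategory.standard

namespace Groth.Agent.DPerf

variable {X : Scheme.{u}}

/-- Termwise restriction along an open immersion. -/
noncomputable abbrev resX {Z : Scheme.{u}} (j : Z ⟶ X) [IsOpenImmersion j] :
    CochainComplex X.Modules ℤ ⥤ CochainComplex Z.Modules ℤ :=
  (Scheme.Modules.restrictFunctor j).mapHomologicalComplex (ComplexShape.up ℤ)

/-- Restricting twice, on complexes. -/
noncomputable def resCompIso {Y Z : Scheme.{u}} (j : Y ⟶ X) [IsOpenImmersion j] (k : Z ⟶ Y)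
    [IsOpenImmersion k] : resX (k ≫ j) ≅ resX j ⋙ resX k :=
  NatIso.mapHomologicalComplex (Scheme.Modules.restrictFunctorComp k j) (ComplexShape.up ℤ)

theorem range_comp_mem {Y Z : Scheme.{u}} (j : Y ⟶ X) (k : Z ⟶ Y) {x : X} {y : Y} (hy : j y = x)
    (hk : y ∈ Set.range k) : x ∈ Set.range (k ≫ j) := by
  obtain ⟨z, rfl⟩ := hk
  exact ⟨z, by rw [Scheme.Hom.comp_apply]; exact hy⟩

theorem isStrictlyPerfect_res {Z : Scheme.{u}} (j : Z ⟶ X) [IsOpenImmersion j]
    {E : CochainComplex X.Modules ℤ} (hE : DCoh.IsStrictlyPerfect E) :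
    DCoh.IsStrictlyPerfect ((resX j).obj E) := by
  obtain ⟨⟨a, b, hv⟩, hf⟩ := hE
  exact ⟨⟨a, b, fun i hi => (Scheme.Modules.restrictFunctor j).map_isZero (hv i hi)⟩,
    fun i => M2.isFinLocFree_restrict j (hf i)⟩

/-- Null-homotopies transport along natural isomorphisms. -/
noncomputable def homotopyOfNatIso {C : Type*} [Category* C] {V : Type*} [Category* V] [Preadditive V]
    {Φ Ψ : C ⥤ CochainComplex V ℤ} (e : Φ ≅ Ψ) {A B : C} (α : A ⟶ B) (H : Homotopy (Ψ.map α) 0) :
    Homotopy (Φ.map α) 0 :=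
  (Homotopy.ofEq (by simp)).trans (((H.compLeft (e.hom.app A)).compRight (e.inv.app B)).trans
    (Homotopy.ofEq (by simp)))

/-- Maps out of finite locally free modules lift locally along epimorphisms. -/
theorem exists_lift {P G H : X.Modules} (hP : FlatMod.IsFinLocFree P) (p : G ⟶ H) [Epi p] (φ : P ⟶ H)
    (x : X) :
    ∃ (Z : Scheme.{u}) (j : Z ⟶ X) (_ : IsOpenImmersion j), x ∈ Set.range j ∧
      ∃ ψ : (Scheme.Modules.restrictFunctor j).obj P ⟶ (Scheme.Modules.restrictFunctor j).obj G,
        ψ ≫ (Scheme.Modules.restrictFunctor j).map p = (Scheme.Modules.restrictFunctor j).map φ := by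
  obtain ⟨U, n, hxU, ⟨e⟩⟩ := hP x
  let RU := Scheme.Modules.restrictFunctor U.ι
  let e' : RU.obj P ≅ M1.fr (ULift.{u} (Fin n)) := e ≪≫ M1.freeModFrIso _ n
  obtain ⟨V, hxV, hV⟩ := M1.exists_lift_fr (RU.map p) (e'.inv ≫ RU.map φ) ⟨x, hxU⟩
  obtain ⟨a, ha⟩ := hV V le_rfl
  let RV := Scheme.Modules.restrictFunctor V.ι
  let C := Scheme.Modules.restrictFunctorComp V.ι U.ι
  refine ⟨_, V.ι ≫ U.ι, inferInstance, ⟨⟨⟨x, hxU⟩, hxV⟩, by simp⟩,
    C.hom.app P ≫ RV.map e'.hom ≫ a ≫ C.inv.app G, ?_⟩
  have ha' : a ≫ RV.map (RU.map p) = RV.map (e'.inv ≫ RU.map φ) := ha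
  simp only [Category.assoc]
  rw [← C.inv.naturality, Functor.comp_map, reassoc_of% ha', Functor.map_comp, Category.assoc,
    ← Functor.map_comp_assoc, Iso.hom_inv_id, CategoryTheory.Functor.map_id, Category.id_comp]
  exact NatIso.naturality_2 C φ

theorem exists_nullHomotopic_aux (k : ℕ) :
    ∀ {X : Scheme.{u}} {E F : CochainComplex X.Modules ℤ} (α : E ⟶ F), DCoh.IsStrictlyPerfect E →
      ∀ a : ℤ, (∀ i, i < a → IsZero (E.X i)) → (∀ i, a ≤ i → F.ExactAt i) →
      (∀ i, a + k ≤ i → α.f i = 0) → ∀ x : X,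
      ∃ (Z : Scheme.{u}) (j : Z ⟶ X) (_ : IsOpenImmersion j), x ∈ Set.range j ∧
        Nonempty (Homotopy ((resX j).map α) 0) := by
  induction k with
  | zero =>
    intro X E F α _ a hEa _ hα x
    refine ⟨X, 𝟙 X, inferInstance, ⟨x, rfl⟩, ⟨Homotopy.ofEq ?_⟩⟩
    have : α = 0 := by
      ext1 i
      rcases lt_or_ge i a with h | h
      · exact (hEa i h).eq_of_src _ _
      · exact hα i (by simpa using h)
    rw [this, Functor.map_zero]
  | succ k ih =>
    intro X E F α hE a hEa hF hα x
    obtain ⟨i₀, hi₀⟩ : ∃ i₀, i₀ = a + k := ⟨_, rfl⟩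
    have h0 : α.f i₀ ≫ F.d i₀ (i₀ + 1) = 0 := by
      rw [α.comm, hα (i₀ + 1) (by omega), comp_zero]
    let c : E.X i₀ ⟶ F.cycles i₀ := F.liftCycles (α.f i₀) (i₀ + 1) (by simp) h0
    have : Epi (F.toCycles (i₀ - 1) i₀) := by
      refine Preadditive.epi_of_cancel_zero _ fun g hg => ?_
      obtain ⟨l, hl⟩ := CokernelCofork.IsColimit.desc' (F.homologyIsCokernel (i₀ - 1) i₀ (by simp)) g hg
      rw [← hl, (hF i₀ (by omega)).isZero_homology.eq_of_src l 0, comp_zero]
    obtain ⟨Z, j, hj, hxj, ψ, hψ⟩ := exists_lift (hE.2 i₀) (F.toCycles (i₀ - 1) i₀) c x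
    let R := Scheme.Modules.restrictFunctor j
    have hψ' : ψ ≫ R.map (F.d (i₀ - 1) i₀) = R.map (α.f i₀) := by
      rw [← F.toCycles_i (i₀ - 1) i₀, R.map_comp, reassoc_of% hψ, ← R.map_comp,
        HomologicalComplex.liftCycles_i]
    let hom : ∀ p q, (ComplexShape.up ℤ).Rel q p → (((resX j).obj E).X p ⟶ ((resX j).obj F).X q) :=
      fun p q hpq => if hp : p = i₀ then
        eqToHom (congrArg (fun t => ((resX j).obj E).X t) hp) ≫ ψ ≫
          eqToHom (congrArg (fun t => ((resX j).obj F).X t) (show i₀ - 1 = q by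
            have : q + 1 = p := hpq
            omega)) else 0
    let α' := (resX j).map α - Homotopy.nullHomotopicMap' hom
    have hα' : ∀ i, a + k ≤ i → α'.f i = 0 := by
      intro i hi
      have r₂₁ : (ComplexShape.up ℤ).Rel (i - 1) i := by simp
      have r₁₀ : (ComplexShape.up ℤ).Rel i (i + 1) := by simp
      simp only [α', HomologicalComplex.sub_f_apply, Functor.mapHomologicalComplex_map_f,
        Homotopy.nullHomotopicMap'_f r₂₁ r₁₀]
      have h₁ : hom (i + 1) i r₁₀ = 0 := dif_neg (by omega)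
      rw [h₁, comp_zero, zero_add, sub_eq_zero]
      by_cases hi' : i = i₀
      · subst hi'
        simp only [hom, dif_pos rfl]
        simp only [eqToHom_refl, Category.id_comp, Category.comp_id]
        exact hψ'.symm
      · simp only [hom, dif_neg hi', zero_comp]
        rw [hα i (by omega), Functor.map_zero]
        rfl
    obtain ⟨y, hy⟩ := hxj
    obtain ⟨W, l, hl, hyl, ⟨H⟩⟩ := ih α' (isStrictlyPerfect_res j hE) a
      (fun i hi => R.map_isZero (hEa i hi)) (fun i hi => (hF i hi).map R) hα' y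
    refine ⟨W, l ≫ j, inferInstance, range_comp_mem j l hy hyl, ⟨?_⟩⟩
    have H1 : Homotopy ((resX l).map ((resX j).map α)) 0 := by
      have H2 : Homotopy ((resX l).map (Homotopy.nullHomotopicMap' hom)) 0 :=
        ((Scheme.Modules.restrictFunctor l).mapHomotopy (Homotopy.nullHomotopy' hom)).trans
          (Homotopy.ofEq (Functor.map_zero _ _ _))
      refine (Homotopy.ofEq ?_).trans ((H.add H2).trans (Homotopy.ofEq (add_zero _)))
      rw [← Functor.map_add]
      simp [α']
    exact homotopyOfNatIso (resCompIso j l) α H1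

/-- A map from a strictly perfect complex to a complex exact in degrees `≥ a` is locally null-homotopic. -/
theorem exists_nullHomotopic {E F : CochainComplex X.Modules ℤ} (α : E ⟶ F)
    (hE : DCoh.IsStrictlyPerfect E) (a : ℤ) (hEa : ∀ i, i < a → IsZero (E.X i))
    (hF : ∀ i, a ≤ i → F.ExactAt i) (x : X) :
    ∃ (Z : Scheme.{u}) (j : Z ⟶ X) (_ : IsOpenImmersion j), x ∈ Set.range j ∧
      Nonempty (Homotopy ((resX j).map α) 0) := by
  obtain ⟨⟨a', b, hv⟩, -⟩ := id hE
  exact exists_nullHomotopic_aux (b + 1 - a).toNat α hE a hEa hF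
    (fun i hi => (hv i (Or.inr (by omega))).eq_of_src _ _) x

/-- From a null-homotopy into the mapping cone, a lift up to homotopy. -/
theorem exists_lift_of_cone {Z : Scheme.{u}} {E F G : CochainComplex Z.Modules ℤ} (a : E ⟶ F)
    (g : G ⟶ F) (H : Homotopy (a ≫ CochainComplex.mappingCone.inr g) 0) :
    ∃ β : E ⟶ G, Nonempty (Homotopy (β ≫ g) a) := by
  let z : Cochain E (CochainComplex.mappingCone g) (-1) := Cochain.ofHomotopy H
  have hz : δ (-1) 0 z = Cochain.ofHom (a ≫ CochainComplex.mappingCone.inr g) := by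
    simp [z]
  let w : Cochain E G 0 := z.comp (CochainComplex.mappingCone.fst g).1 (neg_add_cancel 1)
  have hw : δ 0 1 w = 0 := by
    rw [δ_comp z _ (neg_add_cancel 1) 0 2 1 (zero_add 1) (neg_add_cancel 1) (by norm_num), hz,
      Cocycle.δ_eq_zero, Cochain.comp_zero, zero_add, Cochain.ofHom_comp,
      Cochain.comp_assoc_of_first_is_zero_cochain, CochainComplex.mappingCone.inr_fst,
      Cochain.comp_zero, smul_zero]
  let β : E ⟶ G := Cocycle.homOf (Cocycle.mk w 1 (zero_add 1) hw)
  have hβ : Cochain.ofHom β = w := Cocycle.cochain_ofHom_homOf_eq_coe _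
  let v : Cochain E F (-1) := z.comp (CochainComplex.mappingCone.snd g) (add_zero (-1))
  have hv : δ (-1) 0 v = Cochain.ofHom a - Cochain.ofHom (β ≫ g) := by
    rw [δ_comp_zero_cochain z _ 0 (neg_add_cancel 1), hz, CochainComplex.mappingCone.δ_snd,
      Cochain.comp_neg, ← Cochain.comp_assoc_of_third_is_zero_cochain, Cochain.ofHom_comp,
      Cochain.comp_assoc_of_first_is_zero_cochain, CochainComplex.mappingCone.inr_snd,
      Cochain.comp_id, Cochain.ofHom_comp, hβ]
    exact neg_add_eq_sub _ _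
  exact ⟨β, ⟨(Cochain.equivHomotopy _ _).symm ⟨-v, by rw [δ_neg, hv]; abel⟩⟩⟩

theorem exactAt_mappingCone {G F : CochainComplex X.Modules ℤ} (f : G ⟶ F) (a : ℤ)
    (hf : ∀ j : ℤ, a < j → IsIso (HomologicalComplex.homologyMap f j))
    (hfa : Epi (HomologicalComplex.homologyMap f a)) (i : ℤ) (hi : a ≤ i) :
    (CochainComplex.mappingCone f).ExactAt i := by
  have hmono : Mono (HomologicalComplex.homologyMap f (i + 1)) := have := hf (i + 1) (by omega); inferInstance
  have hepi : Epi (HomologicalComplex.homologyMap f i) := by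
    rcases eq_or_lt_of_le hi with rfl | h
    · exact hfa
    · have := hf i h; infer_instance
  have hT := DerivedCategory.mappingCone_triangle_distinguished f
  let η := DerivedCategory.homologyFunctorFactors X.Modules
  have hnat : ∀ k, Arrow.mk ((DerivedCategory.homologyFunctor X.Modules k).map (DerivedCategory.Q.map f)) ≅
      Arrow.mk (HomologicalComplex.homologyMap f k) := fun k =>
    ((Functor.mapArrowFunctor _ _).mapIso (η k)).app (Arrow.mk f)
  have h1 : Epi ((DerivedCategory.homologyFunctor X.Modules i).map (DerivedCategory.Q.map f)) :=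
    ((MorphismProperty.epimorphisms _).arrow_mk_iso_iff (hnat i)).2 hepi
  have h2 : Mono ((DerivedCategory.homologyFunctor X.Modules (i + 1)).map (DerivedCategory.Q.map f)) :=
    ((MorphismProperty.monomorphisms _).arrow_mk_iso_iff (hnat (i + 1))).2 hmono
  refine (KFlat.Sch.isZero_HD_toD_iff _ i).1
    ((DerivedCategory.HomologySequence.exact₃ _ hT i (i + 1) rfl).isZero_of_both_zeros ?_ ?_)
  · exact (DerivedCategory.HomologySequence.epi_homologyMap_mor₁_iff _ hT i).1 h1
  · exact (DerivedCategory.HomologySequence.mono_homologyMap_mor₁_iff _ hT i (i + 1) rfl).1 h2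

theorem exists_homotopy_lift {E F G : CochainComplex X.Modules ℤ} (α : E ⟶ F) (f : G ⟶ F)
    (hE : DCoh.IsStrictlyPerfect E) (a : ℤ) (hEa : ∀ j : ℤ, j < a → IsZero (E.X j))
    (hf : ∀ j : ℤ, a < j → IsIso (HomologicalComplex.homologyMap f j))
    (hfa : Epi (HomologicalComplex.homologyMap f a)) (x : X) :
    ∃ (Z : Scheme.{u}) (j : Z ⟶ X) (_ : IsOpenImmersion j), x ∈ Set.range j ∧
      ∃ β : (resX j).obj E ⟶ (resX j).obj G, Nonempty (Homotopy (β ≫ (resX j).map f) ((resX j).map α)) := by
  obtain ⟨Z, j, hj, hx, ⟨H⟩⟩ := exists_nullHomotopic (α ≫ CochainComplex.mappingCone.inr f) hE a hEa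
    (fun i hi => exactAt_mappingCone f a hf hfa i hi) x
  let e := CochainComplex.mappingCone.mapHomologicalComplexIso f (Scheme.Modules.restrictFunctor j)
  exact ⟨Z, j, hj, hx, exists_lift_of_cone _ ((resX j).map f)
    ((Homotopy.ofEq (by rw [Functor.map_comp, Category.assoc]; congr 1
                        exact (CochainComplex.mappingCone.map_inr f _).symm)).trans
      ((H.compRight e.hom).trans (Homotopy.ofEq zero_comp)))⟩

theorem exists_opens {Z : Scheme.{u}} (j : Z ⟶ X) [IsOpenImmersion j] {x : X} (hx : x ∈ Set.range j) :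
    ∃ (V : X.Opens) (k : (V : Scheme.{u}) ⟶ Z) (_ : IsOpenImmersion k), x ∈ V ∧ k ≫ j = V.ι := by
  have h : Set.range j.opensRange.ι ⊆ Set.range j := by rw [Scheme.Opens.range_ι]; rfl
  exact ⟨j.opensRange, IsOpenImmersion.lift j j.opensRange.ι h, inferInstance, hx,
    IsOpenImmersion.lift_fac _ _ h⟩

/-- Restricting along equal morphisms. -/
noncomputable def resCongrIso {Z : Scheme.{u}} {j j' : Z ⟶ X} [IsOpenImmersion j] [IsOpenImmersion j']
    (h : j = j') : resX j ≅ resX j' :=
  NatIso.mapHomologicalComplex (Scheme.Modules.restrictFunctorCongr h) (ComplexShape.up ℤ)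

/-- Restricting to an open inside the image of `j`. -/
noncomputable def resFacIso {W Z : Scheme.{u}} (j : Z ⟶ X) [IsOpenImmersion j] (k : W ⟶ Z)
    [IsOpenImmersion k] {i : W ⟶ X} [IsOpenImmersion i] (h : k ≫ j = i) : resX i ≅ resX j ⋙ resX k :=
  (resCongrIso h).symm ≪≫ resCompIso j k

/-- A homotopy lift transports along restrictions. -/
theorem exists_lift_transport {Z : Scheme.{u}} (j : Z ⟶ X) [IsOpenImmersion j] {W : Scheme.{u}}
    (k : W ⟶ Z) [IsOpenImmersion k] {i : W ⟶ X} [IsOpenImmersion i] (h : k ≫ j = i)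
    {E F G : CochainComplex X.Modules ℤ} (α : E ⟶ F) (f : G ⟶ F) (β : (resX j).obj E ⟶ (resX j).obj G)
    (H : Homotopy (β ≫ (resX j).map f) ((resX j).map α)) :
    ∃ β' : (resX i).obj E ⟶ (resX i).obj G, Nonempty (Homotopy (β' ≫ (resX i).map f) ((resX i).map α)) := by
  let e := resFacIso j k h
  refine ⟨e.hom.app E ≫ (resX k).map β ≫ e.inv.app G, ⟨(Homotopy.ofEq ?_).trans
    ((((Scheme.Modules.restrictFunctor k).mapHomotopy H).compLeft (e.hom.app E)).compRight (e.inv.app F)
      |>.trans (Homotopy.ofEq ?_))⟩⟩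
  · simp only [Category.assoc, Functor.map_comp]
    congr 2
    exact (e.inv.naturality f).symm
  · exact (Category.assoc _ _ _).trans (NatIso.naturality_2 e α)

/-- A morphism in the derived category out of a strictly perfect complex is locally a chain map. -/
theorem exists_represent {E F : CochainComplex X.Modules ℤ} (hE : DCoh.IsStrictlyPerfect E)
    (α : DCoh.toD X E ⟶ DCoh.toD X F) (x : X) :
    ∃ (Z : Scheme.{u}) (j : Z ⟶ X) (_ : IsOpenImmersion j), x ∈ Set.range j ∧
      ∃ β : (resX j).obj E ⟶ (resX j).obj F,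
        (Scheme.Modules.restrictFunctor j).mapDerivedCategory.map α =
          (Scheme.Modules.restrictFunctor j).mapDerivedCategoryFactors.hom.app E ≫
            DerivedCategory.Q.map β ≫
            (Scheme.Modules.restrictFunctor j).mapDerivedCategoryFactors.inv.app F := by
  obtain ⟨Y, g, s, hs, rfl⟩ := DerivedCategory.left_fac α
  obtain ⟨⟨a, b, hv⟩, -⟩ := id hE
  have : QuasiIso s := ((DerivedCategory.isIso_Q_map_iff_quasiIso X.Modules s).1 hs)
  obtain ⟨Z, j, hj, hx, β, ⟨H⟩⟩ := exists_homotopy_lift g s hE a (fun i hi => hv i (Or.inl hi))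
    (fun i _ => inferInstance) inferInstance x
  refine ⟨Z, j, hj, hx, β, ?_⟩
  let φ := (Scheme.Modules.restrictFunctor j).mapDerivedCategoryFactors
  let D := (Scheme.Modules.restrictFunctor j).mapDerivedCategory
  have hQ : DerivedCategory.Q.map β ≫ DerivedCategory.Q.map ((resX j).map s) =
      DerivedCategory.Q.map ((resX j).map g) := by
    rw [← Functor.map_comp]
    exact DerivedCategory.Q_map_eq_of_homotopy Z.Modules H
  change D.map (DerivedCategory.Q.map g ≫ inv (DerivedCategory.Q.map s)) = _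
  rw [Functor.map_comp, Functor.map_inv, IsIso.comp_inv_eq, Category.assoc, Category.assoc]
  rw [show φ.inv.app F ≫ D.map (DerivedCategory.Q.map s) =
    DerivedCategory.Q.map ((resX j).map s) ≫ φ.inv.app Y from (φ.inv.naturality s).symm, reassoc_of% hQ]
  exact (NatIso.naturality_2 φ g).symm

end Groth.Agent.DPerf
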