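import Groth.Agent.Lib.DPerf.Approx

/-!
Permanence of pseudo-coherent and perfect objects of `D(O_X)` in triangles and direct summands.
-/

set_option autoImplicit false
set_option linter.unusedSectionVars false

universe u

open CategoryTheory CategoryTheory.Limits CategoryTheory.Pretriangulated AlgebraicGeometry

attribute [local instance] HasDerivedCategory.standard

namespace Groth.Agent.DPerf

variable {X : Scheme.{u}}

theorem approx_of_isPseudoCoherentD {m : ℤ} {K : DCoh.D X} (h : DCoh.IsPseudoCoherentD m K) :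
    Approx (Set.Ici m) K := fun x => by
  obtain ⟨F, ⟨eF⟩⟩ := Functor.EssSurj.mem_essImage
    (F := (DerivedCategory.Q : CochainComplex X.Modules ℤ ⥤ _)) K
  obtain ⟨V, hx, hV⟩ := h x
  obtain ⟨E, α, hE, hiso, hepi⟩ := hV F ⟨eF⟩
  refine ⟨_, V.ι, inferInstance, ⟨⟨x, hx⟩, rfl⟩, E, hE, α ≫ (resFac V.ι).inv.app F ≫ (resD V.ι).map eF.hom,
    DCond.comp (fun i hi => ⟨?_, ?_⟩) (dcond_of_isIso _)⟩
  · rcases eq_or_lt_of_le (show m ≤ i from hi) with rfl | hi'
    · exact hepi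
    · have := hiso i hi'; infer_instance
  · have := hiso (i + 1) (by have : m ≤ i := hi; omega)
    infer_instance

theorem isPseudoCoherentD_of_approx {m : ℤ} {K : DCoh.D X} (h : Approx (Set.Ici m) K) :
    DCoh.IsPseudoCoherentD m K := fun x => by
  obtain ⟨V, hxV, hV⟩ := h.exists_opens x
  obtain ⟨E, hE, α, hα⟩ := hV V le_rfl
  refine ⟨V, hxV, fun F ⟨eF⟩ => ⟨E, α ≫ (resD V.ι).map eF.inv ≫ (resFac V.ι).hom.app F, hE, ?_⟩⟩
  have hα' : DCond (Set.Ici m) (α ≫ (resD V.ι).map eF.inv ≫ (resFac V.ι).hom.app F) :=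
    hα.comp (dcond_of_isIso _)
  refine ⟨fun i hi => ?_, (hα' m Set.self_mem_Ici).1⟩
  obtain ⟨j, rfl⟩ : ∃ j, i = j + 1 := ⟨i - 1, by omega⟩
  have := (hα' (j + 1) (show m ≤ j + 1 by omega)).1
  have := (hα' j (show m ≤ j by omega)).2
  exact isIso_of_mono_of_epi _

theorem isPseudoCoherentD_iff_approx {m : ℤ} {K : DCoh.D X} :
    DCoh.IsPseudoCoherentD m K ↔ Approx (Set.Ici m) K :=
  ⟨approx_of_isPseudoCoherentD, isPseudoCoherentD_of_approx⟩

theorem isPerfect_iff_approx {K : DCoh.D X} : DCoh.IsPerfect K ↔ Approx Set.univ K := by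
  refine ⟨fun h x => ?_, fun h x => ?_⟩
  · obtain ⟨F, ⟨eF⟩⟩ := Functor.EssSurj.mem_essImage
      (F := (DerivedCategory.Q : CochainComplex X.Modules ℤ ⥤ _)) K
    obtain ⟨V, hx, hV⟩ := h x
    obtain ⟨E, hE, ⟨e⟩⟩ := hV F ⟨eF⟩
    exact ⟨_, V.ι, inferInstance, ⟨⟨x, hx⟩, rfl⟩, E, hE,
      e.inv ≫ (resFac V.ι).inv.app F ≫ (resD V.ι).map eF.hom, dcond_of_isIso _⟩
  · obtain ⟨V, hxV, hV⟩ := h.exists_opens x
    obtain ⟨E, hE, α, hα⟩ := hV V le_rfl
    have := isIso_of_dcond_univ hα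
    exact ⟨V, hxV, fun F ⟨eF⟩ => ⟨E, hE,
      ⟨((resFac V.ι).app F).symm ≪≫ (resD V.ι).mapIso eF ≪≫ (asIso α).symm⟩⟩⟩

theorem Approx.shift_Ici {m : ℤ} {K : DCoh.D X} (h : Approx (Set.Ici m) K) (n m' : ℤ) (hm : m = m' + n) :
    Approx (Set.Ici m') (K⟦n⟧) :=
  (h.shift n).mono_set fun i (hi : m' ≤ i) => show m ≤ i + n by omega

theorem Approx.shift_univ {K : DCoh.D X} (h : Approx Set.univ K) (n : ℤ) : Approx Set.univ (K⟦n⟧) :=
  (h.shift n).mono_set fun _ _ => trivial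

/-- The third object of a triangle, pseudo-coherent case. -/
theorem approx_Ici₃ (m : ℤ) (T : Triangle (DCoh.D X)) (hT : T ∈ distinguishedTriangles)
    (h₁ : Approx (Set.Ici (m + 1)) T.obj₁) (h₂ : Approx (Set.Ici m) T.obj₂) : Approx (Set.Ici m) T.obj₃ :=
  approx_cone (fun i (hi : m ≤ i) => show m + 1 ≤ i + 1 by omega)
    (fun E hE => ⟨_, KFlat.brutι E (m + 1), m + 1, isStrictlyPerfect_brutGE hE _, hcond_brutι E _,
      fun _ hi => KFlat.brutGE_isZero E hi, Set.Ici_subset_Ici.2 (by omega)⟩) T hT h₁ h₂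

theorem approx_Ici₂ (m : ℤ) (T : Triangle (DCoh.D X)) (hT : T ∈ distinguishedTriangles)
    (h₁ : Approx (Set.Ici m) T.obj₁) (h₃ : Approx (Set.Ici m) T.obj₃) : Approx (Set.Ici m) T.obj₂ :=
  approx_Ici₃ m _ (inv_rot_of_distTriang _ hT) (h₃.shift_Ici (-1) (m + 1) (by omega)) h₁

theorem approx_Ici₁ (m : ℤ) (T : Triangle (DCoh.D X)) (hT : T ∈ distinguishedTriangles)
    (h₂ : Approx (Set.Ici (m + 1)) T.obj₂) (h₃ : Approx (Set.Ici m) T.obj₃) :
    Approx (Set.Ici (m + 1)) T.obj₁ :=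
  approx_Ici₃ (m + 1) _ (inv_rot_of_distTriang _ (inv_rot_of_distTriang _ hT))
    (h₂.shift_Ici (-1) (m + 1 + 1) (by omega)) (h₃.shift_Ici (-1) (m + 1) (by omega))

/-- The third object of a triangle, perfect case. -/
theorem approx_univ₃ (T : Triangle (DCoh.D X)) (hT : T ∈ distinguishedTriangles)
    (h₁ : Approx Set.univ T.obj₁) (h₂ : Approx Set.univ T.obj₂) : Approx Set.univ T.obj₃ :=
  approx_cone (s := Set.univ) (s' := Set.univ) (fun _ _ => trivial)
    (fun E hE => ⟨E, 𝟙 E, hE.1.choose, hE, hcond_of_quasiIso _,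
      fun i hi => hE.1.choose_spec.choose_spec i (Or.inl hi), Set.subset_univ _⟩) T hT h₁ h₂

theorem approx_univ₂ (T : Triangle (DCoh.D X)) (hT : T ∈ distinguishedTriangles)
    (h₁ : Approx Set.univ T.obj₁) (h₃ : Approx Set.univ T.obj₃) : Approx Set.univ T.obj₂ :=
  approx_univ₃ _ (inv_rot_of_distTriang _ hT) (h₃.shift_univ (-1)) h₁

theorem approx_univ₁ (T : Triangle (DCoh.D X)) (hT : T ∈ distinguishedTriangles)
    (h₂ : Approx Set.univ T.obj₂) (h₃ : Approx Set.univ T.obj₃) : Approx Set.univ T.obj₁ :=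
  approx_univ₃ _ (inv_rot_of_distTriang _ (inv_rot_of_distTriang _ hT))
    (h₂.shift_univ (-1)) (h₃.shift_univ (-1))

theorem ApproxOn.transport {s : Set ℤ} {K : DCoh.D X} {Y Z : Scheme.{u}} (j : Y ⟶ X) [IsOpenImmersion j]
    (k : Z ⟶ Y) [IsOpenImmersion k] (h : ApproxOn s ((resD j).obj K) k) : ApproxOn s K (k ≫ j) := by
  obtain ⟨E, hE, α, hα⟩ := h
  exact ⟨E, hE, α ≫ (resDComp j k).hom.app K,
    hα.comp (@dcond_of_isIso _ _ _ _ _ _ _ _ ((resDComp j k).app K).isIso_hom)⟩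

theorem Approx.res {s : Set ℤ} {K : DCoh.D X} (h : Approx s K) (V : X.Opens) :
    Approx s ((resD V.ι).obj K) := fun y => by
  obtain ⟨W, hyW, hW⟩ := h.exists_opens (V.ι y)
  obtain ⟨E, hE, α, hα⟩ := hW (W ⊓ V) inf_le_left
  obtain ⟨E', hE', α', hα'⟩ := (show ApproxOn s K (W ⊓ V).ι from ⟨E, hE, α, hα⟩).res (𝟙 _)
    (i := X.homOfLE (inf_le_right : W ⊓ V ≤ V) ≫ V.ι) (by rw [Category.id_comp, Scheme.homOfLE_ι])
  exact ⟨_, X.homOfLE (inf_le_right : W ⊓ V ≤ V), inferInstance,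
    ⟨⟨V.ι y, hyW, y.2⟩, Subtype.ext (by simp)⟩, E', hE',
    α' ≫ (resDComp V.ι (X.homOfLE (inf_le_right : W ⊓ V ≤ V))).inv.app K,
    hα'.comp (@dcond_of_isIso _ _ _ _ _ _ _ _ ((resDComp V.ι _).app K).isIso_inv)⟩

theorem Approx.of_locally {s : Set ℤ} {K : DCoh.D X}
    (h : ∀ x : X, ∃ V : X.Opens, x ∈ V ∧ Approx s ((resD V.ι).obj K)) : Approx s K := fun x => by
  obtain ⟨V, hxV, hV⟩ := h x
  obtain ⟨Z, j, hj, hy, hZ⟩ := hV ⟨x, hxV⟩
  exact ⟨Z, j ≫ V.ι, inferInstance, range_comp_mem V.ι j rfl hy, hZ.transport V.ι j⟩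

theorem isZero_HD_of_dcond {E : CochainComplex X.Modules ℤ} {K : DCoh.D X} {α : DCoh.toD X E ⟶ K} {m b i : ℤ}
    (hα : DCond (Set.Ici m) α) (hE : ∀ i, b < i → IsZero (E.X i)) (hm : m ≤ i) (hb : b < i) :
    IsZero (DCoh.HD K i) := by
  have := (hα i hm).1
  exact IsZero.of_epi ((DerivedCategory.homologyFunctor X.Modules i).map α)
    ((KFlat.Sch.isZero_HD_toD_iff E i).2
      (by rw [HomologicalComplex.exactAt_iff]; exact ShortComplex.exact_of_isZero_X₂ _ (hE i hb)))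

theorem approx_of_isZero_HD {K : DCoh.D X} {c : ℤ} (h : ∀ i, c ≤ i → IsZero (DCoh.HD K i)) :
    Approx (Set.Ici c) K := fun x => by
  refine ⟨X, 𝟙 X, inferInstance, ⟨x, rfl⟩, (HomologicalComplex.zero : CochainComplex X.Modules ℤ),
    ⟨⟨0, 0, fun i _ => isZero_zero _⟩, fun i => KFlat.Sch.isFinLocFree_of_isZero (isZero_zero _)⟩,
    0, fun i hi => ⟨?_, ?_⟩⟩
  · have : IsZero (DCoh.HD ((resD (𝟙 X)).obj K) i) := by
      obtain ⟨G, ⟨eG⟩⟩ := Functor.EssSurj.mem_essImage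
        (F := (DerivedCategory.Q : CochainComplex X.Modules ℤ ⥤ _)) K
      exact (KFlat.Sch.isZero_HD_iff_of_iso ((resD (𝟙 X)).mapIso eG.symm ≪≫ (resFac (𝟙 X)).app G) i).2
        ((KFlat.Sch.isZero_HD_toD_iff _ i).2 (((KFlat.Sch.isZero_HD_toD_iff G i).1
          ((KFlat.Sch.isZero_HD_iff_of_iso eG i).2 (h i hi))).map (Scheme.Modules.restrictFunctor (𝟙 X))))
    exact ⟨fun _ _ _ => this.eq_of_src _ _⟩
  · exact ⟨fun _ _ _ => ((KFlat.Sch.isZero_HD_toD_iff _ (i + 1)).2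
      (by rw [HomologicalComplex.exactAt_iff]; exact ShortComplex.exact_of_isZero_X₂ _ (isZero_zero _))).eq_of_tgt _ _⟩

theorem approx_summands_descend {K L : DCoh.D X} [HasBinaryBiproduct K L] {m : ℤ}
    (h : Approx (Set.Ici m) (K ⊞ L)) :
    ∀ (k : ℕ), Approx (Set.Ici (m + k)) K → Approx (Set.Ici (m + k)) L →
      Approx (Set.Ici m) K ∧ Approx (Set.Ici m) L
  | 0, hK, hL => ⟨by simpa using hK, by simpa using hL⟩
  | k + 1, hK, hL => by
      have hM : Approx (Set.Ici (m + k)) (K ⊞ L) := h.mono_set (Set.Ici_subset_Ici.2 (by omega))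
      have he : m + ((k + 1 : ℕ) : ℤ) = m + k + 1 := by push_cast; ring
      rw [he] at hK hL
      have := HasBinaryBiproducts.has_binary_biproduct (C := DCoh.D X) L K
      refine approx_summands_descend h k ?_ ?_
      · exact approx_Ici₃ (m + k) _ (binaryBiproductTriangle_distinguished L K) hL
          (hM.of_iso (biprod.braiding K L))
      · exact approx_Ici₃ (m + k) _ (binaryBiproductTriangle_distinguished K L) hK hM

theorem approx_biprod_local {K L : DCoh.D X} [HasBinaryBiproduct K L] {m : ℤ}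
    (h : Approx (Set.Ici m) (K ⊞ L)) (b : ℤ) (hb : ∀ i, b ≤ i → IsZero (DCoh.HD (K ⊞ L) i)) :
    Approx (Set.Ici m) K ∧ Approx (Set.Ici m) L := by
  refine approx_summands_descend h (b - m).toNat (approx_of_isZero_HD fun i hi => ?_)
    (approx_of_isZero_HD fun i hi => ?_) <;> rw [IsZero.iff_id_eq_zero]
  · rw [← CategoryTheory.Functor.map_id, ← biprod.inl_fst (X := K) (Y := L), Functor.map_comp,
      (hb i (by omega)).eq_of_tgt ((DerivedCategory.homologyFunctor X.Modules i).map biprod.inl) 0, zero_comp]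
  · rw [← CategoryTheory.Functor.map_id, ← biprod.inr_snd (X := K) (Y := L), Functor.map_comp,
      (hb i (by omega)).eq_of_tgt ((DerivedCategory.homologyFunctor X.Modules i).map biprod.inr) 0, zero_comp]

theorem isPseudoCoherentD_biprod {K L : DCoh.D X} [HasBinaryBiproduct K L] {m : ℤ}
    (h : DCoh.IsPseudoCoherentD m (K ⊞ L)) :
    DCoh.IsPseudoCoherentD m K ∧ DCoh.IsPseudoCoherentD m L := by
  have h' := approx_of_isPseudoCoherentD h
  have key : ∀ x : X, ∃ V : X.Opens, x ∈ V ∧ Approx (Set.Ici m) ((resD V.ι).obj K) ∧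
      Approx (Set.Ici m) ((resD V.ι).obj L) := fun x => by
    obtain ⟨V, hxV, hV⟩ := h'.exists_opens x
    obtain ⟨E, hE, α, hα⟩ := hV V le_rfl
    obtain ⟨⟨a, b, hab⟩, -⟩ := hE
    have := preservesBinaryBiproducts_of_preservesBinaryCoproducts (resD V.ι)
    have e := (resD V.ι).mapBiprod K L
    exact ⟨V, hxV, approx_biprod_local ((h'.res V).of_iso e) (max m (b + 1)) fun i hi =>
      (KFlat.Sch.isZero_HD_iff_of_iso e i).1 (isZero_HD_of_dcond hα (fun j hj => hab j (Or.inr hj))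
        (by omega) (by omega))⟩
  constructor <;> refine isPseudoCoherentD_of_approx (Approx.of_locally fun x => ?_) <;>
    obtain ⟨V, hxV, hK, hL⟩ := key x
  exacts [⟨V, hxV, hK⟩, ⟨V, hxV, hL⟩]

end Groth.Agent.DPerf
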