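import Groth.Agent.Lib.FlatCx.BaseChange
import Groth.Prelude.Def_DRing2
import Mathlib.LinearAlgebra.Matrix.Rank
import Mathlib.LinearAlgebra.Matrix.NonsingularInverse
import Mathlib.RingTheory.TensorProduct.Free
import Mathlib.RingTheory.Spectrum.Prime.Topology
import Mathlib.Algebra.Homology.ShortComplex.ModuleCat

/-!
Ranks of the differentials of a finite free complex after base change to fields.
-/

set_option autoImplicit false

universe u

open CategoryTheory CategoryTheory.Limits
open scoped Matrix

namespace Groth.Agent.DPerf.RankSC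

/-- Rank at least `k` means some `k`-minor is nonzero. -/
theorem le_rank_iff_exists_det {K : Type u} [Field K] {m n : Type u} [Fintype m] [Fintype n]
    (A : Matrix m n K) (k : ℕ) :
    k ≤ A.rank ↔ ∃ (r : Fin k → m) (c : Fin k → n), (A.submatrix r c).det ≠ 0 := by
  constructor
  · intro h
    have step : ∀ {m n : Type u} [Fintype m] [Fintype n] (B : Matrix m n K), k ≤ B.rank →
        ∃ c : Fin k → n, LinearIndependent K fun i => B.col (c i) := by
      intro m n _ _ B hB
      obtain ⟨κ, a, ha, hsp, hli⟩ := exists_linearIndependent' K B.col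
      have : Fintype κ := Fintype.ofInjective a ha
      rw [Matrix.rank_eq_finrank_span_cols, ← hsp, finrank_span_eq_card hli] at hB
      obtain ⟨e⟩ := Function.Embedding.nonempty_of_card_le
        (α := Fin k) (β := κ) (by simpa using hB)
      exact ⟨a ∘ e, hli.comp e e.injective⟩
    obtain ⟨c, hc⟩ := step A h
    let B : Matrix (Fin k) m K := (A.submatrix id c)ᵀ
    have hB : B.rank = k := by
      have hc' : LinearIndependent K B.row := hc
      rw [hc'.rank_matrix, Fintype.card_fin]
    have step' : ∃ r : Fin k → m, LinearIndependent K fun i => B.col (r i) := by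
      obtain ⟨κ, a, ha, hsp, hli⟩ := exists_linearIndependent' K B.col
      have : Fintype κ := Fintype.ofInjective a ha
      have hcard := hB.ge
      rw [Matrix.rank_eq_finrank_span_cols, ← hsp, finrank_span_eq_card hli] at hcard
      obtain ⟨e⟩ := Function.Embedding.nonempty_of_card_le
        (α := Fin k) (β := κ) (by simpa using hcard)
      exact ⟨a ∘ e, hli.comp e e.injective⟩
    obtain ⟨r, hr⟩ := step'
    refine ⟨r, c, ?_⟩
    have hr' : LinearIndependent K (A.submatrix r c).row := hr
    exact ((Matrix.isUnit_iff_isUnit_det _).1 (Matrix.linearIndependent_rows_iff_isUnit.1 hr')).ne_zero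
  · rintro ⟨r, c, h⟩
    have hu : IsUnit (A.submatrix r c) :=
      (Matrix.isUnit_iff_isUnit_det _).2 (isUnit_iff_ne_zero.2 h)
    have := Matrix.rank_submatrix_le A r c
    rw [Matrix.rank_of_isUnit _ hu, Fintype.card_fin] at this
    exact this

/-- The locus where the rank of a matrix is at least `k` after base change to a field. -/
theorem exists_open_rank {R : Type u} [CommRing R] {m n : Type u} [Fintype m] [Fintype n]
    (A : Matrix m n R) (k : ℕ) :
    ∃ U : Set (PrimeSpectrum R), IsOpen U ∧ ∀ (K : Type u) [Field K] (ψ : R →+* K)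
      (x : PrimeSpectrum R), x.asIdeal = RingHom.ker ψ → (x ∈ U ↔ k ≤ (A.map ψ).rank) := by
  refine ⟨⋃ (r : Fin k → m) (c : Fin k → n),
      (PrimeSpectrum.basicOpen (A.submatrix r c).det : Set (PrimeSpectrum R)),
    isOpen_iUnion fun r => isOpen_iUnion fun c => PrimeSpectrum.isOpen_basicOpen, ?_⟩
  intro K _ ψ x hx
  rw [le_rank_iff_exists_det]
  simp only [Set.mem_iUnion, SetLike.mem_coe, PrimeSpectrum.mem_basicOpen, hx, RingHom.mem_ker]
  refine exists₂_congr fun r c => not_congr ?_
  rw [Matrix.submatrix_map, ← RingHom.mapMatrix_apply, ← RingHom.map_det]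

variable {R : Type u} [CommRing R]

/-- Base change of a complex along a ring map. -/
noncomputable abbrev extCx {S : Type u} [CommRing S] (ψ : R →+* S) : DRing.Cx R ⥤ DRing.Cx S :=
  (ModuleCat.extendScalars ψ).mapHomologicalComplex (ComplexShape.up ℤ)

/-- The rank of the differential after base change. -/
noncomputable def rk (P : DRing.Cx R) {K : Type u} [Field K] (ψ : R →+* K) (i j : ℤ) : ℕ :=
  Module.finrank K (LinearMap.range (((extCx ψ).obj P).d i j).hom)

theorem exists_open_rk (P : DRing.Cx R) (i j : ℤ) [Module.Free R (P.X i)] [Module.Finite R (P.X i)]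
    [Module.Free R (P.X j)] [Module.Finite R (P.X j)] (k : ℕ) :
    ∃ U : Set (PrimeSpectrum R), IsOpen U ∧ ∀ (K : Type u) [Field K] (ψ : R →+* K)
      (x : PrimeSpectrum R), x.asIdeal = RingHom.ker ψ → (x ∈ U ↔ k ≤ rk P ψ i j) := by
  classical
  let bi := Module.Free.chooseBasis R (P.X i)
  let bj := Module.Free.chooseBasis R (P.X j)
  let A := LinearMap.toMatrix bi bj (P.d i j).hom
  obtain ⟨U, hU, h⟩ := exists_open_rank A k
  refine ⟨U, hU, fun K _ ψ x hx => (h K ψ x hx).trans ?_⟩
  letI : Algebra R K := ψ.toAlgebra
  suffices (A.map ψ).rank = rk P ψ i j by rw [this]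
  have h1 : (A.map ψ).rank = Module.finrank K (LinearMap.range ((P.d i j).hom.baseChange K)) := by
    have hA := LinearMap.toMatrix_baseChange K (P.d i j).hom bi bj
    rw [show (⇑ψ : R → K) = ⇑(algebraMap R K) from rfl, ← hA,
      Matrix.rank_eq_finrank_range_toLin _ (Algebra.TensorProduct.basis K bj)
        (Algebra.TensorProduct.basis K bi), Matrix.toLin_toMatrix]
  rw [h1]
  have h2 : (FlatCxLib.extEquiv K (P.X j)).toLinearMap ∘ₗ
      ((ModuleCat.extendScalars (algebraMap R K)).map (P.d i j)).hom =
        (P.d i j).hom.baseChange K ∘ₗ (FlatCxLib.extEquiv K (P.X i)).toLinearMap :=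
    LinearMap.ext fun x => FlatCxLib.extEquiv_map K (P.d i j) x
  have h3 := congrArg LinearMap.range h2
  rw [LinearMap.range_comp, LinearMap.range_comp_of_range_eq_top _
    (LinearEquiv.range (FlatCxLib.extEquiv K (P.X i)))] at h3
  rw [← h3, LinearEquiv.finrank_map_eq]
  rfl

theorem finite_ext_X (P : DRing.Cx R) {K : Type u} [Field K] (ψ : R →+* K) (i : ℤ)
    [Module.Finite R (P.X i)] : Module.Finite K (((extCx ψ).obj P).X i) := by
  letI : Algebra R K := ψ.toAlgebra
  exact Module.Finite.equiv (FlatCxLib.extEquiv K (P.X i)).symm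

theorem finrank_ext_X [Nontrivial R] (P : DRing.Cx R) {K : Type u} [Field K] (ψ : R →+* K) (i : ℤ)
    [Module.Free R (P.X i)] [Module.Finite R (P.X i)] :
    Module.finrank K (((extCx ψ).obj P).X i) = Module.finrank R (P.X i) := by
  letI : Algebra R K := ψ.toAlgebra
  exact ((FlatCxLib.extEquiv K (P.X i)).finrank_eq).trans Module.finrank_baseChange

/-- Euler identity for the homology of a short complex of vector spaces. -/
theorem finrank_homology_add {K : Type u} [Field K] (S : ShortComplex (ModuleCat.{u} K))
    [FiniteDimensional K S.X₂] :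
    Module.finrank K S.homology + Module.finrank K (LinearMap.range S.g.hom) +
      Module.finrank K (LinearMap.range S.f.hom) = Module.finrank K S.X₂ := by
  let B := LinearMap.range S.moduleCatToCycles
  have hH : Module.finrank K S.homology = Module.finrank K (LinearMap.ker S.g.hom ⧸ B) :=
    S.moduleCatHomologyIso.toLinearEquiv.finrank_eq
  have hB : Module.finrank K B = Module.finrank K (LinearMap.range S.f.hom) := by
    have : LinearMap.range S.f.hom = B.map (LinearMap.ker S.g.hom).subtype := by
      rw [← LinearMap.range_comp]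
      rfl
    rw [this, Submodule.finrank_map_subtype_eq]
  rw [hH, ← LinearMap.finrank_range_add_finrank_ker S.g.hom, ← Submodule.finrank_quotient_add_finrank B,
    ← hB]
  ring

/-- The fibre Betti number of a finite free complex. -/
theorem finrank_homology_ext [Nontrivial R] (P : DRing.Cx R) {K : Type u} [Field K] (ψ : R →+* K)
    (i : ℤ) [Module.Free R (P.X i)] [Module.Finite R (P.X i)] :
    Module.finrank K (((extCx ψ).obj P).homology i) + rk P ψ i (i + 1) + rk P ψ (i - 1) i =
      Module.finrank R (P.X i) := by
  have := finite_ext_X P ψ i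
  have : FiniteDimensional K (((extCx ψ).obj P).sc' (i - 1) i (i + 1)).X₂ := this
  have h := finrank_homology_add (((extCx ψ).obj P).sc' (i - 1) i (i + 1))
  rw [← finrank_ext_X P ψ i]
  refine Eq.trans ?_ h
  congr 2
  exact (((extCx ψ).obj P).homologyIsoSc' (i - 1) i (i + 1) (by simp) (by simp)).toLinearEquiv.finrank_eq

end Groth.Agent.DPerf.RankSC
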